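import Groth.Agent.Lib.Helper2.LpullStalk

/-!
# `Lf^* ∘ Lg^* ≅ L(g ∘ f)^*`; the counit of `Lf^*` along `Q`
-/

set_option autoImplicit false
universe u
open CategoryTheory AlgebraicGeometry
attribute [local instance] HasDerivedCategory.standard

namespace Groth.Agent.Lib.Helper2.Lpull

open Groth.Agent.Lib.Helper12

section CouQ

variable {X Y : Scheme.{u}} (f : X ⟶ Y) [DCoh.HasLpull f]

/-- the counit of `Lf^*` along `Q` -/
noncomputable def couQ : DerivedCategory.Q ⋙ DCoh.Lpull f ⟶ pbCx f ⋙ DerivedCategory.Q :=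
  Functor.whiskerRight (DerivedCategory.quotientCompQhIso Y.Modules).inv (DCoh.Lpull f) ≫
    couC f ≫ (eF f).hom

theorem couQ_app (P : CochainComplex Y.Modules ℤ) :
    (couQ f).app P = (DCoh.Lpull f).map ((DerivedCategory.quotientCompQhIso Y.Modules).inv.app P) ≫
      (couC f).app P ≫ (eF f).hom.app P := rfl

theorem isIso_couQ_app (P : CochainComplex Y.Modules ℤ) (hP : DCoh.IsKFlat P) :
    IsIso ((couQ f).app P) := by
  rw [couQ_app]
  have i1 : IsIso ((couC f).app P) := isIso_couC_app (pb f) P hP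
  infer_instance

theorem isLeftDerivedFunctor_couQ :
    (DCoh.Lpull f).IsLeftDerivedFunctor (couQ f) (LTK.qisC (X := Y)) := by
  have h0 : (DerivedCategory.Q (C := Y.Modules)).IsLocalization (KFlat.qisCx Y.sheaf) :=
    inferInstanceAs ((DerivedCategory.Q (C := Y.Modules)).IsLocalization (LTK.qisC (X := Y)))
  have hd : (KFlat.kflatΦ Y.sheaf).Derives (pbCx f ⋙ DerivedCategory.Q) := by
    intro P P' g hg
    have : QuasiIso ((pbCx f).map g.hom) := pb f _ _ g.hom P.property P'.property hg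
    change IsIso (DerivedCategory.Q.map ((pbCx f).map g.hom))
    infer_instance
  refine @LDer.isLeftDerivedFunctor_of_isIso _ _ _ _ _ _ _ _ _ _ (KFlat.kflatΦ Y.sheaf)
    (KFlat.isLeftDerivabilityStructure_kflatΦ Y.sheaf) _ hd
    DerivedCategory.Q h0 _ (couQ f) ?_
  intro P
  exact isIso_couQ_app f P.obj P.property

end CouQ

variable {X Y Z : Scheme.{u}} (f : X ⟶ Y) (g : Y ⟶ Z)

noncomputable def pbCompCx : pbCx g ⋙ pbCx f ≅ pbCx (f ≫ g) :=
  NatIso.mapHomologicalComplex (Scheme.Modules.pullbackComp f g) (ComplexShape.up ℤ)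

variable [DCoh.HasLpull f] [DCoh.HasLpull g]

noncomputable def αComp :
    DerivedCategory.Q ⋙ (DCoh.Lpull g ⋙ DCoh.Lpull f) ⟶ pbCx (f ≫ g) ⋙ DerivedCategory.Q :=
  (Functor.associator _ _ _).inv ≫ Functor.whiskerRight (couQ g) (DCoh.Lpull f) ≫
    (Functor.associator _ _ _).hom ≫ Functor.whiskerLeft (pbCx g) (couQ f) ≫
    (Functor.associator _ _ _).inv ≫ Functor.whiskerRight (pbCompCx f g).hom DerivedCategory.Q

theorem αComp_app (P : CochainComplex Z.Modules ℤ) :
    (αComp f g).app P = (DCoh.Lpull f).map ((couQ g).app P) ≫ (couQ f).app ((pbCx g).obj P) ≫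
      DerivedCategory.Q.map ((pbCompCx f g).hom.app P) := by
  simp [αComp]

theorem isLeftDerivedFunctor_αComp :
    (DCoh.Lpull g ⋙ DCoh.Lpull f).IsLeftDerivedFunctor (αComp f g) (LTK.qisC (X := Z)) := by
  have h0 : (DerivedCategory.Q (C := Z.Modules)).IsLocalization (KFlat.qisCx Z.sheaf) :=
    inferInstanceAs ((DerivedCategory.Q (C := Z.Modules)).IsLocalization (LTK.qisC (X := Z)))
  have hd : (KFlat.kflatΦ Z.sheaf).Derives (pbCx (f ≫ g) ⋙ DerivedCategory.Q) := by
    intro P P' k hk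
    have : QuasiIso ((pbCx (f ≫ g)).map k.hom) := pb (f ≫ g) _ _ k.hom P.property P'.property hk
    change IsIso (DerivedCategory.Q.map ((pbCx (f ≫ g)).map k.hom))
    infer_instance
  refine @LDer.isLeftDerivedFunctor_of_isIso _ _ _ _ _ _ _ _ _ _ (KFlat.kflatΦ Z.sheaf)
    (KFlat.isLeftDerivabilityStructure_kflatΦ Z.sheaf) _ hd
    DerivedCategory.Q h0 _ (αComp f g) ?_
  intro P
  change IsIso ((αComp f g).app P.obj)
  rw [αComp_app]
  have i1 : IsIso ((couQ g).app P.obj) := isIso_couQ_app g P.obj P.property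
  have i2 : IsIso ((couQ f).app ((pbCx g).obj P.obj)) :=
    isIso_couQ_app f _ (isKFlat_pbCx g P.obj P.property)
  infer_instance

/-- `Lf^* ∘ Lg^* ≅ L(g ∘ f)^*` -/
noncomputable def lpullCompIso [DCoh.HasLpull (f ≫ g)] :
    DCoh.Lpull g ⋙ DCoh.Lpull f ≅ DCoh.Lpull (f ≫ g) :=
  have := isLeftDerivedFunctor_αComp f g
  have := isLeftDerivedFunctor_couQ (f ≫ g)
  Functor.leftDerivedNatIso (DCoh.Lpull g ⋙ DCoh.Lpull f) (DCoh.Lpull (f ≫ g))
    (αComp f g) (couQ (f ≫ g)) (LTK.qisC (X := Z)) (Iso.refl _)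

end Groth.Agent.Lib.Helper2.Lpull
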