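import Groth.Agent.Lib.Helper2.DCohLift
import Groth.Agent.S6516

set_option autoImplicit false
universe u
open CategoryTheory Limits AlgebraicGeometry HomologicalComplex
attribute [local instance] HasDerivedCategory.standard

namespace Groth.Agent.Lib.Helper2.DCohPerf

open Scheme.Modules Groth.Agent.Lib.Helper2.DCohBase Groth.Agent.Lib.Helper2.DCohLift
open CategoryTheory.Pretriangulated

section Comp

variable {X U U' : Scheme.{u}} (j : U ⟶ X) [IsOpenImmersion j] (h : U' ⟶ U) [IsOpenImmersion h]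

/-- object-level: restriction of `Q F` -/
noncomputable def resDQ (F : CochainComplex X.Modules ℤ) :
    (resD j).obj (DerivedCategory.Q.obj F) ≅ DerivedCategory.Q.obj ((resCx j).obj F) :=
  (resFac j).app F

/-- object-level composite restriction iso (through a chosen representative) -/
noncomputable def resDComp (K : DCoh.D X) :
    (resD (h ≫ j)).obj K ≅ (resD h).obj ((resD j).obj K) :=
  let F := (DerivedCategory.Q (C := X.Modules)).objPreimage K
  let e : DerivedCategory.Q.obj F ≅ K := (DerivedCategory.Q (C := X.Modules)).objObjPreimageIso K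
  (resD (h ≫ j)).mapIso e.symm ≪≫ resDQ (h ≫ j) F ≪≫
    DerivedCategory.Q.mapIso (resCxComp j h F) ≪≫
    (resDQ h ((resCx j).obj F)).symm ≪≫ (resD h).mapIso (resDQ j F).symm ≪≫
    (resD h).mapIso ((resD j).mapIso e)

/-- object-level congruence -/
noncomputable def resDCongr {j j' : U ⟶ X} [IsOpenImmersion j] [IsOpenImmersion j'] (e : j = j')
    (K : DCoh.D X) : (resD j).obj K ≅ (resD j').obj K :=
  let F := (DerivedCategory.Q (C := X.Modules)).objPreimage K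
  let e' : DerivedCategory.Q.obj F ≅ K := (DerivedCategory.Q (C := X.Modules)).objObjPreimageIso K
  (resD j).mapIso e'.symm ≪≫ resDQ j F ≪≫ DerivedCategory.Q.mapIso (resCxCongr e F) ≪≫
    (resDQ j' F).symm ≪≫ (resD j').mapIso e'

end Comp

section PerfAt

variable {X : Scheme.{u}}

/-- `K` is perfect near `x` -/
def PerfAt (K : DCoh.D X) (x : X) : Prop :=
  ∃ (U : Scheme.{u}) (j : U ⟶ X) (_ : IsOpenImmersion j), x ∈ Set.range j ∧
    ∃ E : CochainComplex U.Modules ℤ, DCoh.IsStrictlyPerfect E ∧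
      Nonempty ((resD j).obj K ≅ DerivedCategory.Q.obj E)

theorem isPerfect_iff (K : DCoh.D X) : DCoh.IsPerfect K ↔ ∀ x, PerfAt K x := by
  constructor
  · intro hK x
    obtain ⟨V, hxV, hV⟩ := hK x
    obtain ⟨F₀, ⟨e₀⟩⟩ := exists_rep K
    obtain ⟨E, hE, ⟨ε⟩⟩ := hV F₀ ⟨e₀⟩
    refine ⟨V, V.ι, inferInstance, by simpa using hxV, E, hE, ⟨?_⟩⟩
    exact (resD V.ι).mapIso e₀.symm ≪≫ resDQ V.ι F₀ ≪≫ ε
  · intro h x
    obtain ⟨U, j, hj, hx, E, hE, ⟨e⟩⟩ := h x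
    haveI := hj
    refine ⟨j.opensRange, hx, fun F ⟨e'⟩ => ?_⟩
    let ε : DerivedCategory.Q.obj ((resCx j).obj F) ≅ DerivedCategory.Q.obj E :=
      (resDQ j F).symm ≪≫ (resD j).mapIso e' ≪≫ e
    exact ⟨(resCx j.isoOpensRange.inv).obj E, isStrictlyPerfect_resCx _ E hE, ⟨packIso j ε⟩⟩

theorem perfAt_of_iso {K K' : DCoh.D X} (e : K ≅ K') {x : X} (h : PerfAt K x) : PerfAt K' x := by
  obtain ⟨U, j, hj, hx, E, hE, ⟨ε⟩⟩ := h
  haveI := hj
  exact ⟨U, j, hj, hx, E, hE, ⟨(resD j).mapIso e.symm ≪≫ ε⟩⟩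

theorem isPerfect_of_iso {K K' : DCoh.D X} (e : K ≅ K') (h : DCoh.IsPerfect K) :
    DCoh.IsPerfect K' := by
  rw [isPerfect_iff] at h ⊢
  exact fun x => perfAt_of_iso e (h x)

/-- two objects perfect near `x` are simultaneously trivialised on a common neighbourhood -/
theorem perfAt_common {K L : DCoh.D X} {x : X} (hK : PerfAt K x) (hL : PerfAt L x) :
    ∃ (U : Scheme.{u}) (j : U ⟶ X) (_ : IsOpenImmersion j), x ∈ Set.range j ∧
      ∃ (E₁ E₂ : CochainComplex U.Modules ℤ), DCoh.IsStrictlyPerfect E₁ ∧ DCoh.IsStrictlyPerfect E₂ ∧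
        Nonempty ((resD j).obj K ≅ DerivedCategory.Q.obj E₁) ∧
        Nonempty ((resD j).obj L ≅ DerivedCategory.Q.obj E₂) := by
  obtain ⟨U₁, j₁, hj₁, hx₁, E₁, hE₁, ⟨e₁⟩⟩ := hK
  obtain ⟨U₂, j₂, hj₂, hx₂, E₂, hE₂, ⟨e₂⟩⟩ := hL
  haveI := hj₁
  haveI := hj₂
  refine ⟨pullback j₁ j₂, pullback.fst j₁ j₂ ≫ j₁, inferInstance, ?_,
    (resCx (pullback.fst j₁ j₂)).obj E₁, (resCx (pullback.snd j₁ j₂)).obj E₂,
    isStrictlyPerfect_resCx _ _ hE₁, isStrictlyPerfect_resCx _ _ hE₂, ⟨?_⟩, ⟨?_⟩⟩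
  · rw [IsOpenImmersion.range_pullback_to_base_of_left]
    exact ⟨hx₁, hx₂⟩
  · exact resDComp j₁ (pullback.fst j₁ j₂) K ≪≫ (resD _).mapIso e₁ ≪≫ resDQ _ E₁
  · exact resDCongr pullback.condition L ≪≫ resDComp j₂ (pullback.snd j₁ j₂) L ≪≫
      (resD _).mapIso e₂ ≪≫ resDQ _ E₂

/-- perfectness near a point can be checked after restricting to an open neighbourhood -/
theorem perfAt_of_resD {U : Scheme.{u}} (j : U ⟶ X) [IsOpenImmersion j] (K : DCoh.D X) (y : U)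
    (h : PerfAt ((resD j).obj K) y) : PerfAt K (j y) := by
  obtain ⟨U', j', hj', ⟨z, hz⟩, E, hE, ⟨ε⟩⟩ := h
  haveI := hj'
  refine ⟨U', j' ≫ j, inferInstance, ⟨z, by rw [Scheme.Hom.comp_apply, hz]⟩, E, hE, ⟨?_⟩⟩
  exact resDComp j j' K ≪≫ ε

end PerfAt

section Tri

variable {U : Scheme.{u}}

/-- third vertex of a distinguished triangle whose first two vertices are strictly perfect -/
theorem perfAt_obj₃ (T : Triangle (DCoh.D U)) (hT : T ∈ distTriang _)
    (E₁ E₂ : CochainComplex U.Modules ℤ) (hE₁ : DCoh.IsStrictlyPerfect E₁)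
    (hE₂ : DCoh.IsStrictlyPerfect E₂)
    (e₁ : T.obj₁ ≅ DerivedCategory.Q.obj E₁) (e₂ : T.obj₂ ≅ DerivedCategory.Q.obj E₂) (y : U) :
    PerfAt T.obj₃ y := by
  obtain ⟨U', j', hj', hy, a', ha⟩ := exists_rep_locally E₁ E₂ hE₁ (e₁.inv ≫ T.mor₁ ≫ e₂.hom) y
  haveI := hj'
  have hT' : (resD j').mapTriangle.obj T ∈ distTriang _ := (resD j').map_distinguished T hT
  have hT'' := DerivedCategory.mappingCone_triangle_distinguished a'
  let φ₁ : ((resD j').mapTriangle.obj T).obj₁ ≅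
      (DerivedCategory.Q.mapTriangle.obj (CochainComplex.mappingCone.triangle a')).obj₁ :=
    (resD j').mapIso e₁ ≪≫ resDQ j' E₁
  let φ₂ : ((resD j').mapTriangle.obj T).obj₂ ≅
      (DerivedCategory.Q.mapTriangle.obj (CochainComplex.mappingCone.triangle a')).obj₂ :=
    (resD j').mapIso e₂ ≪≫ resDQ j' E₂
  have comm : ((resD j').mapTriangle.obj T).mor₁ ≫ φ₂.hom =
      φ₁.hom ≫ (DerivedCategory.Q.mapTriangle.obj (CochainComplex.mappingCone.triangle a')).mor₁ := by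
    change (resD j').map T.mor₁ ≫ (resD j').map e₂.hom ≫ (resFac j').hom.app E₂ =
      ((resD j').map e₁.hom ≫ (resFac j').hom.app E₁) ≫ DerivedCategory.Q.map a'
    have ha' : DerivedCategory.Q.map a' =
        (resFac j').inv.app E₁ ≫ (resD j').map (e₁.inv ≫ T.mor₁ ≫ e₂.hom) ≫
          (resFac j').hom.app E₂ := by
      rw [ha]
      simp
    rw [ha']
    simp only [Functor.map_comp, Category.assoc, Iso.hom_inv_id_app_assoc]
    rw [← Functor.map_comp_assoc (resD j') e₁.hom e₁.inv, Iso.hom_inv_id,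
      CategoryTheory.Functor.map_id, Category.id_comp]
  let Φ := isoTriangleOfIso₁₂ _ _ hT' hT'' φ₁ φ₂ comm
  refine ⟨U', j', hj', hy, CochainComplex.mappingCone a', Groth.Agent.S6516.result a'
    (isStrictlyPerfect_resCx _ _ hE₁) (isStrictlyPerfect_resCx _ _ hE₂), ⟨?_⟩⟩
  exact Triangle.π₃.mapIso Φ

end Tri

section Shift

variable {X : Scheme.{u}}

theorem isStrictlyPerfect_shift (E : CochainComplex X.Modules ℤ) (hE : DCoh.IsStrictlyPerfect E)
    (n : ℤ) : DCoh.IsStrictlyPerfect (E⟦n⟧) := by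
  obtain ⟨⟨a, b, hab⟩, hE'⟩ := hE
  refine ⟨⟨a - n, b - n, fun i hi => ?_⟩, fun i => ?_⟩
  · change IsZero (E.X (i + n))
    exact hab _ (by lia)
  · change FlatMod.IsFinLocFree (E.X (i + n))
    exact hE' _

theorem perfAt_shift {K : DCoh.D X} {x : X} (h : PerfAt K x) (n : ℤ) : PerfAt (K⟦n⟧) x := by
  obtain ⟨U, j, hj, hx, E, hE, ⟨e⟩⟩ := h
  haveI := hj
  refine ⟨U, j, hj, hx, E⟦n⟧, isStrictlyPerfect_shift E hE n, ⟨?_⟩⟩
  exact ((resD j).commShiftIso n).app K ≪≫ (shiftFunctor _ n).mapIso e ≪≫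
    ((DerivedCategory.Q.commShiftIso n).app E).symm

theorem isPerfect_shift {K : DCoh.D X} (h : DCoh.IsPerfect K) (n : ℤ) : DCoh.IsPerfect (K⟦n⟧) := by
  rw [isPerfect_iff] at h ⊢
  exact fun x => perfAt_shift (h x) n

/-- in a distinguished triangle, the third vertex is perfect if the first two are -/
theorem isPerfect_obj₃ (T : Triangle (DCoh.D X)) (hT : T ∈ distTriang _)
    (h₁ : DCoh.IsPerfect T.obj₁) (h₂ : DCoh.IsPerfect T.obj₂) : DCoh.IsPerfect T.obj₃ := by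
  rw [isPerfect_iff] at h₁ h₂ ⊢
  intro x
  obtain ⟨U, j, hj, ⟨y, rfl⟩, E₁, E₂, hE₁, hE₂, ⟨e₁⟩, ⟨e₂⟩⟩ := perfAt_common (h₁ x) (h₂ x)
  haveI := hj
  apply perfAt_of_resD j T.obj₃ y
  exact perfAt_obj₃ ((resD j).mapTriangle.obj T) ((resD j).map_distinguished T hT) E₁ E₂ hE₁ hE₂
    e₁ e₂ y

theorem isPerfect_obj₂ (T : Triangle (DCoh.D X)) (hT : T ∈ distTriang _)
    (h₁ : DCoh.IsPerfect T.obj₁) (h₃ : DCoh.IsPerfect T.obj₃) : DCoh.IsPerfect T.obj₂ :=
  isPerfect_obj₃ T.invRotate (inv_rot_of_distTriang T hT) (isPerfect_shift h₃ (-1)) h₁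

theorem isPerfect_obj₁ (T : Triangle (DCoh.D X)) (hT : T ∈ distTriang _)
    (h₂ : DCoh.IsPerfect T.obj₂) (h₃ : DCoh.IsPerfect T.obj₃) : DCoh.IsPerfect T.obj₁ :=
  isPerfect_obj₂ T.invRotate (inv_rot_of_distTriang T hT) (isPerfect_shift h₃ (-1)) h₂

end Shift

end Groth.Agent.Lib.Helper2.DCohPerf
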