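import Groth.Agent.Lib.Helper2.FinPresAff
import Groth.Prelude.Def_FlatMod2

/-!
# Free modules `FlatMod.freeMod` on affine opens (helper2 seat library)

For `F` quasi-coherent on `X` and `U` an affine open:
* `exists_epi_freeMod_iff F hU n`: `(∃ π : freeMod ↑U n ⟶ F.restrict U.ι, Epi π) ↔
  ∃ g : Fin n → Γ(F, U), span (range g) = ⊤`.
* `nonempty_iso_freeMod_iff F hU n`: `Nonempty (F.restrict U.ι ≅ freeMod ↑U n) ↔
  Nonempty (Γ(F, U) ≃ₗ[Γ(X, U)] (Fin n → Γ(X, U)))`.
* `exists_epi_freeMod_of_le`, `nonempty_iso_freeMod_of_le`: shrinking the open.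
* `freeModIso`: `FlatMod.freeMod X n ≅ SheafOfModules.free (ULift (Fin n))`; versions of all of the
  above for `SheafOfModules.free I`.
-/

set_option autoImplicit false
set_option linter.style.haveILetI false
universe u

open AlgebraicGeometry CategoryTheory Opposite TopologicalSpace Limits

namespace Groth.Agent.Lib.Helper2.FreeModAff

open Scheme.Modules Groth.Agent.Lib.Helper55.TildeEpi Groth.Agent.Lib.Lead.PullbackAff
open Groth.Agent.Lib.Helper2.FinTypeAff

/-- index type in the right universe -/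
abbrev Idx (n : ℕ) : Type u := ULift.{u} (Fin n)

/-- `FlatMod.freeMod` is Mathlib's free sheaf of modules on `ULift (Fin n)`. -/
noncomputable def freeModIso (X : Scheme.{u}) (n : ℕ) :
    FlatMod.freeMod X n ≅ SheafOfModules.free (R := X.ringCatSheaf) (Idx.{u} n) :=
  (Sigma.reindex (Equiv.ulift.{u} (α := Fin n)) (fun _ : Fin n => Coh.structureModule X)).symm

theorem epi_iso_comp_iso {C : Type*} [Category C] {A B D E : C} (a : A ≅ B) (f : B ⟶ D) [Epi f]
    (b : D ≅ E) : Epi (a.hom ≫ f ≫ b.hom) := inferInstance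

section Spec

variable {R : CommRingCat.{u}} (N : (Spec R).Modules) [N.IsQuasicoherent] (I : Type u)

/-- global sections of the free module on `Spec R` -/
noncomputable def ΓfreeIso :
    moduleSpecΓFunctor.obj (SheafOfModules.free.{u} (R := (Spec R).ringCatSheaf) I) ≅
      ModuleCat.of R (I →₀ R) :=
  moduleSpecΓFunctor.mapIso (tildeFinsupp I).symm ≪≫ (tilde.toTildeΓNatIso.app _).symm

theorem exists_epi_free_iff_Spec :
    (∃ π : SheafOfModules.free.{u} I ⟶ N, Epi π) ↔
      ∃ g : I → moduleSpecΓFunctor.obj N, Submodule.span R (Set.range g) = ⊤ := by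
  constructor
  · rintro ⟨π, hπ⟩
    have h2 := free_isQuasicoherent (R := R) I
    have hepi := @epi_Γ_map_of_epi R _ N h2 _ π hπ
    rw [ModuleCat.epi_iff_surjective] at hepi
    let p : (I →₀ R) →ₗ[R] moduleSpecΓFunctor.obj N :=
      (moduleSpecΓFunctor.map π).hom ∘ₗ (ΓfreeIso I).inv.hom
    have hp : Function.Surjective p := hepi.comp (ΓfreeIso I).symm.toLinearEquiv.surjective
    refine ⟨fun i => p (Finsupp.single i 1), ?_⟩
    rw [eq_top_iff]
    rintro x -
    obtain ⟨y, rfl⟩ := hp x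
    induction y using Finsupp.induction_linear with
    | zero => simp
    | add a b ha hb => rw [_root_.map_add]; exact Submodule.add_mem _ ha hb
    | single i r =>
      have : Finsupp.single i r = r • Finsupp.single i (1 : R) := by
        rw [Finsupp.smul_single, smul_eq_mul, mul_one]
      rw [this, LinearMap.map_smul]
      exact Submodule.smul_mem _ _ (Submodule.subset_span ⟨i, rfl⟩)
  · rintro ⟨g, hg⟩
    let G : ModuleCat R := moduleSpecΓFunctor.obj N
    let g' : I → G := g
    let p : ModuleCat.of R (I →₀ R) ⟶ G :=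
      ModuleCat.ofHom (Y := G) (Finsupp.linearCombination R g')
    have hp : Epi p := by
      rw [ModuleCat.epi_iff_surjective, ← LinearMap.range_eq_top]
      change LinearMap.range (Finsupp.linearCombination R g') = ⊤
      rw [Finsupp.range_linearCombination]
      exact hg
    have h1 : Epi ((tilde.functor R).map p) := inferInstance
    have h3 : IsIso N.fromTildeΓ := inferInstance
    exact ⟨_, @epi_iso_comp_iso _ _ _ _ _ _ (tildeFinsupp I).symm ((tilde.functor R).map p) h1
      (@asIso _ _ _ _ N.fromTildeΓ h3)⟩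

theorem nonempty_iso_free_iff_Spec :
    Nonempty (N ≅ SheafOfModules.free.{u} I) ↔
      Nonempty (moduleSpecΓFunctor.obj N ≃ₗ[R] (I →₀ R)) := by
  constructor
  · rintro ⟨e⟩
    exact ⟨(moduleSpecΓFunctor.mapIso e ≪≫ ΓfreeIso I).toLinearEquiv⟩
  · rintro ⟨e⟩
    exact ⟨(asIso N.fromTildeΓ).symm ≪≫ (tilde.functor R).mapIso e.toModuleIso ≪≫ tildeFinsupp I⟩

end Spec

section transport

variable {X Y : Scheme.{u}} (j : Y ⟶ X) [IsOpenImmersion j]

set_option backward.isDefEq.respectTransparency false in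
/-- restriction along an open immersion sends free modules to free modules -/
noncomputable def restrictFreeIso (I : Type u) :
    (restrictFunctor j).obj (SheafOfModules.free.{u} (R := X.ringCatSheaf) I) ≅
      SheafOfModules.free.{u} (R := Y.ringCatSheaf) I :=
  haveI : PreservesColimitsOfSize.{u, u} (restrictFunctor j) := inferInstance
  haveI : PreservesColimitsOfShape (Discrete I) (restrictFunctor j) :=
    PreservesColimitsOfSize.preservesColimitsOfShape
  (SheafOfModules.mapFreeIso (restrictFunctor j) I (restrictUnitIso j).symm).symm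

set_option backward.isDefEq.respectTransparency false in
theorem exists_epi_free_restrict (M : X.Modules) (I : Type u)
    (h : ∃ π : SheafOfModules.free.{u} I ⟶ M, Epi π) :
    ∃ π' : SheafOfModules.free.{u} I ⟶ M.restrict j, Epi π' := by
  obtain ⟨π, hπ⟩ := h
  have : Epi ((restrictFunctor j).map π) := (restrictFunctor j).map_epi π
  exact ⟨(restrictFreeIso j I).inv ≫ (restrictFunctor j).map π, epi_comp _ _⟩

set_option backward.isDefEq.respectTransparency false in
theorem nonempty_iso_free_restrict (M : X.Modules) (I : Type u)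
    (h : Nonempty (M ≅ SheafOfModules.free.{u} I)) :
    Nonempty (M.restrict j ≅ SheafOfModules.free.{u} I) := by
  obtain ⟨e⟩ := h
  exact ⟨(restrictFunctor j).mapIso e ≪≫ restrictFreeIso j I⟩

set_option backward.isDefEq.respectTransparency false in
theorem exists_epi_free_of_iso {M M' : X.Modules} (e : M ≅ M') (I : Type u)
    (h : ∃ π : SheafOfModules.free.{u} I ⟶ M, Epi π) :
    ∃ π' : SheafOfModules.free.{u} I ⟶ M', Epi π' := by
  obtain ⟨π, hπ⟩ := h
  exact ⟨π ≫ e.hom, epi_comp _ _⟩

end transport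

section affine

variable {X : Scheme.{u}} (F : X.Modules) [F.IsQuasicoherent] {U : X.Opens} (hU : IsAffineOpen U)
  (I : Type u)

set_option backward.isDefEq.respectTransparency false in
include hU in
theorem exists_epi_free_iff :
    (∃ π : SheafOfModules.free.{u} I ⟶ F.restrict U.ι, Epi π) ↔
      ∃ g : I → Γ(F, U), Submodule.span Γ(X, U) (Set.range g) = ⊤ := by
  constructor
  · intro h
    have h1 := exists_epi_free_restrict hU.isoSpec.inv (F.restrict U.ι) I h
    have h2 : ∃ π' : SheafOfModules.free.{u} I ⟶ F.restrict hU.fromSpec, Epi π' :=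
      exists_epi_free_of_iso ((restrictFunctorComp hU.isoSpec.inv U.ι).app F).symm I h1
    obtain ⟨g, hg⟩ := (exists_epi_free_iff_Spec (F.restrict hU.fromSpec) I).1 h2
    refine ⟨fun i => secEquiv hU F (g i), ?_⟩
    have : Set.range (fun i => secEquiv hU F (g i)) = (secEquiv hU F) '' Set.range g := by
      rw [← Set.range_comp]; rfl
    rw [this, ← LinearEquiv.coe_coe, ← Submodule.map_span, hg, Submodule.map_top,
      LinearMap.range_eq_top]
    exact (secEquiv hU F).surjective
  · rintro ⟨g, hg⟩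
    have h2 : ∃ π' : SheafOfModules.free.{u} I ⟶ F.restrict hU.fromSpec, Epi π' := by
      refine (exists_epi_free_iff_Spec (F.restrict hU.fromSpec) I).2
        ⟨fun i => (secEquiv hU F).symm (g i), ?_⟩
      have : Set.range (fun i => (secEquiv hU F).symm (g i)) =
          (secEquiv hU F).symm '' Set.range g := by
        rw [← Set.range_comp]; rfl
      rw [this, ← LinearEquiv.coe_coe, ← Submodule.map_span, hg, Submodule.map_top,
        LinearMap.range_eq_top]
      exact (secEquiv hU F).symm.surjective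
    have h3 := exists_epi_free_restrict hU.isoSpec.hom (F.restrict hU.fromSpec) I h2
    exact exists_epi_free_of_iso
      (((restrictFunctorComp hU.isoSpec.hom hU.fromSpec).app F).symm ≪≫
        (restrictFunctorCongr (hU.isoSpec_hom_fromSpec)).app F) I h3

set_option backward.isDefEq.respectTransparency false in
include hU in
theorem nonempty_iso_free_iff :
    Nonempty (F.restrict U.ι ≅ SheafOfModules.free.{u} I) ↔
      Nonempty (Γ(F, U) ≃ₗ[Γ(X, U)] (I →₀ Γ(X, U))) := by
  constructor
  · intro h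
    obtain ⟨e1⟩ := nonempty_iso_free_restrict hU.isoSpec.inv (F.restrict U.ι) I h
    have h2 : Nonempty (F.restrict hU.fromSpec ≅ SheafOfModules.free.{u} I) :=
      ⟨(restrictFunctorComp hU.isoSpec.inv U.ι).app F ≪≫ e1⟩
    obtain ⟨e⟩ := (nonempty_iso_free_iff_Spec (F.restrict hU.fromSpec) I).1 h2
    exact ⟨(secEquiv hU F).symm ≪≫ₗ e⟩
  · rintro ⟨e⟩
    obtain ⟨e2⟩ := (nonempty_iso_free_iff_Spec (F.restrict hU.fromSpec) I).2
      ⟨(secEquiv hU F) ≪≫ₗ e⟩
    obtain ⟨e3⟩ := nonempty_iso_free_restrict hU.isoSpec.hom (F.restrict hU.fromSpec) I ⟨e2⟩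
    exact ⟨((restrictFunctorCongr (hU.isoSpec_hom_fromSpec)).app F).symm ≪≫
      (restrictFunctorComp hU.isoSpec.hom hU.fromSpec).app F ≪≫ e3⟩

end affine

section freeMod

variable {X : Scheme.{u}} (F : X.Modules)

set_option backward.isDefEq.respectTransparency false in
theorem exists_epi_freeMod_iff_free (M : X.Modules) (n : ℕ) :
    (∃ π : FlatMod.freeMod X n ⟶ M, Epi π) ↔
      ∃ π : SheafOfModules.free.{u} (Idx.{u} n) ⟶ M, Epi π := by
  constructor
  · rintro ⟨π, hπ⟩
    exact ⟨(freeModIso X n).inv ≫ π, epi_comp _ _⟩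
  · rintro ⟨π, hπ⟩
    exact ⟨(freeModIso X n).hom ≫ π, epi_comp _ _⟩

theorem nonempty_iso_freeMod_iff_free (M : X.Modules) (n : ℕ) :
    Nonempty (M ≅ FlatMod.freeMod X n) ↔
      Nonempty (M ≅ SheafOfModules.free.{u} (Idx.{u} n)) :=
  ⟨fun ⟨e⟩ => ⟨e ≪≫ freeModIso X n⟩, fun ⟨e⟩ => ⟨e ≪≫ (freeModIso X n).symm⟩⟩

variable [F.IsQuasicoherent] {U : X.Opens} (hU : IsAffineOpen U)

include hU in
/-- **Epimorphisms from a free module of rank `n` onto `F|_U` (`U` affine) correspond to
generating `n`-tuples of sections.** -/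
theorem exists_epi_freeMod_iff (n : ℕ) :
    (∃ π : FlatMod.freeMod (↑U) n ⟶ F.restrict U.ι, Epi π) ↔
      ∃ g : Fin n → Γ(F, U), Submodule.span Γ(X, U) (Set.range g) = ⊤ := by
  rw [exists_epi_freeMod_iff_free, exists_epi_free_iff F hU]
  constructor
  · rintro ⟨g, hg⟩
    refine ⟨fun i => g ⟨i⟩, ?_⟩
    rw [← hg]
    congr 1
    ext x
    constructor
    · rintro ⟨i, rfl⟩; exact ⟨⟨i⟩, rfl⟩
    · rintro ⟨⟨i⟩, rfl⟩; exact ⟨i, rfl⟩
  · rintro ⟨g, hg⟩
    refine ⟨fun i => g i.down, ?_⟩
    rw [← hg]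
    congr 1
    ext x
    constructor
    · rintro ⟨⟨i⟩, rfl⟩; exact ⟨i, rfl⟩
    · rintro ⟨i, rfl⟩; exact ⟨⟨i⟩, rfl⟩

include hU in
/-- **`F|_U ≅ O_U^n` (`U` affine) iff `Γ(F, U)` is free of rank `n`.** -/
theorem nonempty_iso_freeMod_iff (n : ℕ) :
    Nonempty (F.restrict U.ι ≅ FlatMod.freeMod (↑U) n) ↔
      Nonempty (Γ(F, U) ≃ₗ[Γ(X, U)] (Fin n → Γ(X, U))) := by
  rw [nonempty_iso_freeMod_iff_free, nonempty_iso_free_iff F hU]
  let e : (Idx.{u} n →₀ Γ(X, U)) ≃ₗ[Γ(X, U)] (Fin n → Γ(X, U)) :=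
    Finsupp.domLCongr Equiv.ulift ≪≫ₗ Finsupp.linearEquivFunOnFinite Γ(X, U) Γ(X, U) (Fin n)
  exact ⟨fun ⟨e'⟩ => ⟨e' ≪≫ₗ e⟩, fun ⟨e'⟩ => ⟨e' ≪≫ₗ e.symm⟩⟩

end freeMod

section shrink

variable {X : Scheme.{u}} (F : X.Modules) {U V : X.Opens} (h : V ≤ U)

set_option backward.isDefEq.respectTransparency false in
/-- the restriction of `F|_U` to a smaller open -/
noncomputable def restrictRestrictIso :
    (F.restrict U.ι).restrict (X.homOfLE h) ≅ F.restrict V.ι :=
  ((restrictFunctorComp (X.homOfLE h) U.ι).app F).symm ≪≫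
    (restrictFunctorCongr (X.homOfLE_ι h)).app F

include h in
set_option backward.isDefEq.respectTransparency false in
theorem exists_epi_freeMod_of_le (n : ℕ)
    (H : ∃ π : FlatMod.freeMod (↑U) n ⟶ F.restrict U.ι, Epi π) :
    ∃ π : FlatMod.freeMod (↑V) n ⟶ F.restrict V.ι, Epi π := by
  rw [exists_epi_freeMod_iff_free] at H ⊢
  exact exists_epi_free_of_iso (restrictRestrictIso F h) _
    (exists_epi_free_restrict (X.homOfLE h) _ _ H)

include h in
set_option backward.isDefEq.respectTransparency false in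
theorem nonempty_iso_freeMod_of_le (n : ℕ)
    (H : Nonempty (F.restrict U.ι ≅ FlatMod.freeMod (↑U) n)) :
    Nonempty (F.restrict V.ι ≅ FlatMod.freeMod (↑V) n) := by
  rw [nonempty_iso_freeMod_iff_free] at H ⊢
  obtain ⟨e⟩ := nonempty_iso_free_restrict (X.homOfLE h) _ _ H
  exact ⟨(restrictRestrictIso F h).symm ≪≫ e⟩

end shrink

end Groth.Agent.Lib.Helper2.FreeModAff
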