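import Mathlib.Algebra.Homology.HomotopyCategory.MappingCone
import Mathlib.Algebra.Homology.HomotopyCategory.HomologicalFunctor
import Mathlib.Algebra.Homology.HomotopyCategory.ShiftSequence
import Mathlib.Algebra.Homology.HomotopyCategory.Pretriangulated
import Mathlib.Algebra.Homology.HomotopyCategory.Triangulated

/-!
# Lifting through a map of complexes up to homotopy via the mapping cone (helper2 seat library)

* `exists_lift_of_homotopy_inr`: a null-homotopy of `α ≫ inr f : E ⟶ mappingCone f` gives
  `β : E ⟶ G` with `β ≫ f` homotopic to `α`.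
* `isZero_homology_mappingCone`: `H^j(cone f) = 0` when `H^j(f)` is epi and `H^{j+1}(f)` is mono.
* `modify`, `modifyHomotopy`, `modify_f_*`: modification of a map of complexes by the
  null-homotopic map attached to a single component `h : E^{c+1} ⟶ F^c`.
-/

set_option autoImplicit false

open CategoryTheory Limits CochainComplex HomComplex

namespace Groth.Agent.Lib.Helper2.ConeLift

universe v u

section Preadditive

variable {A : Type u} [Category.{v} A] [Preadditive A]

section
variable [HasBinaryBiproducts A]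

theorem exists_lift_of_homotopy_inr {E F G : CochainComplex A ℤ} (α : E ⟶ F) (f : G ⟶ F)
    (H : Homotopy (α ≫ mappingCone.inr f) 0) :
    ∃ β : E ⟶ G, Nonempty (Homotopy (β ≫ f) α) := by
  obtain ⟨z, hz⟩ := Cochain.equivHomotopy _ _ H
  rw [Cochain.ofHom_zero, add_zero] at hz
  let b : Cochain E G 0 := z.comp (mappingCone.fst f).1 (by lia)
  have hb : δ 0 1 b = 0 := by
    rw [δ_comp z (mappingCone.fst f).1 (show (-1 : ℤ) + 1 = 0 by lia) 0 2 1 (by lia)
      (by lia) (by lia), Cocycle.δ_eq_zero, Cochain.comp_zero, zero_add, ← hz,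
      Cochain.ofHom_comp, Cochain.comp_assoc_of_first_is_zero_cochain, mappingCone.inr_fst,
      Cochain.comp_zero, smul_zero]
  let β : E ⟶ G := Cocycle.homOf (Cocycle.mk b 1 (by lia) hb)
  have hβ : Cochain.ofHom β = b := Cocycle.cochain_ofHom_homOf_eq_coe _
  let h : Cochain E F (-1) := z.comp (mappingCone.snd f) (by lia)
  have hh : δ (-1) 0 h = Cochain.ofHom α - b.comp (Cochain.ofHom f) (by lia) := by
    rw [δ_comp z (mappingCone.snd f) (show (-1 : ℤ) + 0 = -1 by lia) 0 1 0 (by lia)
      (by lia) (by lia), mappingCone.δ_snd, ← hz, Cochain.ofHom_comp,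
      Cochain.comp_assoc_of_first_is_zero_cochain, mappingCone.inr_snd, Cochain.comp_neg,
      Int.negOnePow_zero, one_smul, Cochain.comp_id]
    rw [← Cochain.comp_assoc z (mappingCone.fst f).1 (Cochain.ofHom f)
      (show (-1 : ℤ) + 1 = 0 by lia) (show (1 : ℤ) + 0 = 1 by lia)
      (show (-1 : ℤ) + 1 + 0 = 0 by lia)]
    abel
  refine ⟨β, ⟨((Cochain.equivHomotopy α (β ≫ f)).symm ⟨h, ?_⟩).symm⟩⟩
  rw [hh, Cochain.ofHom_comp, hβ]
  abel

end

/-- modification of a map of complexes by the null-homotopic map of a single component -/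
noncomputable def modify {E F : CochainComplex A ℤ} (α : E ⟶ F) (c : ℤ)
    (h : E.X (c + 1) ⟶ F.X c) : E ⟶ F :=
  α - Cocycle.homOf (Cocycle.mk (δ (-1) 0 (Cochain.single h (-1))) 1 (by lia) (δ_δ _ _ _ _))

theorem modify_f {E F : CochainComplex A ℤ} (α : E ⟶ F) (c : ℤ)
    (h : E.X (c + 1) ⟶ F.X c) (i : ℤ) :
    (modify α c h).f i = α.f i - ((Cochain.single (h ≫ F.d c (c + 1)) 0).v i i (add_zero i) +
      (Cochain.single (E.d c (c + 1) ≫ h) 0).v i i (add_zero i)) := by
  have h1 := Cochain.δ_single h (-1) 0 (by lia) c (c + 1) rfl rfl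
  rw [Int.negOnePow_zero, one_smul] at h1
  change α.f i - (δ (-1) 0 (Cochain.single h (-1))).v i i (add_zero i) = _
  rw [h1]
  rfl

theorem modify_f_of_lt {E F : CochainComplex A ℤ} (α : E ⟶ F) (c : ℤ)
    (h : E.X (c + 1) ⟶ F.X c) (i : ℤ) (hi : c + 1 < i) :
    (modify α c h).f i = α.f i := by
  rw [modify_f, Cochain.single_v_eq_zero _ _ _ _ _ (by lia),
    Cochain.single_v_eq_zero _ _ _ _ _ (by lia), add_zero, sub_zero]

theorem modify_f_top {E F : CochainComplex A ℤ} (α : E ⟶ F) (c : ℤ)
    (h : E.X (c + 1) ⟶ F.X c) :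
    (modify α c h).f (c + 1) = α.f (c + 1) - h ≫ F.d c (c + 1) := by
  rw [modify_f, Cochain.single_v, Cochain.single_v_eq_zero _ _ _ _ _ (by lia), add_zero]

/-- the modified map is homotopic to the original one -/
noncomputable def modifyHomotopy {E F : CochainComplex A ℤ} (α : E ⟶ F) (c : ℤ)
    (h : E.X (c + 1) ⟶ F.X c) : Homotopy α (modify α c h) :=
  (Cochain.equivHomotopy _ _).symm ⟨Cochain.single h (-1), by
    unfold modify
    rw [Cochain.ofHom_sub, Cocycle.cochain_ofHom_homOf_eq_coe]
    simp⟩

end Preadditive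

section Abelian

variable {A : Type u} [Category.{v} A] [Abelian A]

open HomologicalComplex

theorem isZero_homology_mappingCone {G F : CochainComplex A ℤ} (f : G ⟶ F) (j : ℤ)
    (hepi : Epi (homologyMap f j)) (hmono : Mono (homologyMap f (j + 1))) :
    IsZero ((mappingCone f).homology j) := by
  let H0 := HomotopyCategory.homologyFunctor A (ComplexShape.up ℤ) 0
  let T := mappingCone.triangleh f
  have hT : T ∈ distTriang (HomotopyCategory A (ComplexShape.up ℤ)) :=
    HomotopyCategory.mappingCone_triangleh_distinguished f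
  have hE : Epi ((HomotopyCategory.quotient A (ComplexShape.up ℤ) ⋙
      HomotopyCategory.homologyFunctor A (ComplexShape.up ℤ) j).map f) := by
    have nat := (HomotopyCategory.homologyFunctorFactors A (ComplexShape.up ℤ) j).hom.naturality f
    have hf : Epi ((homologyFunctor A (ComplexShape.up ℤ) j).map f) := hepi
    have h3 : Epi ((HomotopyCategory.quotient A (ComplexShape.up ℤ) ⋙
        HomotopyCategory.homologyFunctor A (ComplexShape.up ℤ) j).map f ≫
        (HomotopyCategory.homologyFunctorFactors A (ComplexShape.up ℤ) j).hom.app F) := by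
      rw [nat]
      exact epi_comp _ _
    have h4 := epi_comp ((HomotopyCategory.quotient A (ComplexShape.up ℤ) ⋙
        HomotopyCategory.homologyFunctor A (ComplexShape.up ℤ) j).map f ≫
        (HomotopyCategory.homologyFunctorFactors A (ComplexShape.up ℤ) j).hom.app F)
        ((HomotopyCategory.homologyFunctorFactors A (ComplexShape.up ℤ) j).inv.app F)
    rw [Category.assoc, Iso.hom_inv_id_app, Category.comp_id] at h4
    exact h4
  have hM : Mono ((HomotopyCategory.quotient A (ComplexShape.up ℤ) ⋙
      HomotopyCategory.homologyFunctor A (ComplexShape.up ℤ) (j + 1)).map f) := by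
    have nat :=
      (HomotopyCategory.homologyFunctorFactors A (ComplexShape.up ℤ) (j + 1)).hom.naturality f
    have hf : Mono ((homologyFunctor A (ComplexShape.up ℤ) (j + 1)).map f) := hmono
    have h3 : Mono ((HomotopyCategory.quotient A (ComplexShape.up ℤ) ⋙
        HomotopyCategory.homologyFunctor A (ComplexShape.up ℤ) (j + 1)).map f ≫
        (HomotopyCategory.homologyFunctorFactors A (ComplexShape.up ℤ) (j + 1)).hom.app F) := by
      rw [nat]
      exact mono_comp _ _
    exact mono_of_mono _
      ((HomotopyCategory.homologyFunctorFactors A (ComplexShape.up ℤ) (j + 1)).hom.app F)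
  have h1 : Epi ((H0.shift j).map T.mor₁) := hE
  have h2 : Mono ((H0.shift (j + 1)).map T.mor₁) := hM
  rw [H0.homologySequence_epi_shift_map_mor₁_iff T hT] at h1
  rw [H0.homologySequence_mono_shift_map_mor₁_iff T hT j (j + 1) rfl] at h2
  have hex := H0.homologySequence_exact₃ T hT j (j + 1) rfl
  have hz : IsZero ((H0.shift j).obj T.obj₃) :=
    hex.isZero_of_both_zeros h1 h2
  exact hz.of_iso
    ((HomotopyCategory.homologyFunctorFactors A (ComplexShape.up ℤ) j).app (mappingCone f)).symm

end Abelian

end Groth.Agent.Lib.Helper2.ConeLift
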