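import Groth.Prelude.Def_DCoh2
import Groth.Agent.Lib.Helper21.QCohKernel
import Groth.Agent.S0934
import Groth.Agent.Lib.Helper2.ConeLift
import Groth.Agent.Lib.Helper2.FreeModAff
import Groth.Agent.Lib.Helper7.FinLocFree
import Mathlib.Algebra.Homology.DerivedCategory.ExactFunctor
import Mathlib.Algebra.Homology.DerivedCategory.Fractions

set_option autoImplicit false
universe u
open CategoryTheory Limits AlgebraicGeometry
attribute [local instance] HasDerivedCategory.standard

namespace Groth.Agent.Lib.Helper2.DCohBase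

open Scheme.Modules

section Basic

variable {X U U' : Scheme.{u}} (j : U ⟶ X) [IsOpenImmersion j] (h : U' ⟶ U) [IsOpenImmersion h]

/-- chain-level restriction along an open immersion -/
noncomputable abbrev resCx : CochainComplex X.Modules ℤ ⥤ CochainComplex U.Modules ℤ :=
  (restrictFunctor j).mapHomologicalComplex (ComplexShape.up ℤ)

/-- derived restriction along an open immersion -/
noncomputable abbrev resD : DCoh.D X ⥤ DCoh.D U := (restrictFunctor j).mapDerivedCategory

/-- derived restriction is computed termwise -/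
noncomputable abbrev resFac : DerivedCategory.Q ⋙ resD j ≅ resCx j ⋙ DerivedCategory.Q :=
  (restrictFunctor j).mapDerivedCategoryFactors

/-- composition of chain-level restrictions -/
noncomputable def resCxComp (F : CochainComplex X.Modules ℤ) :
    (resCx (h ≫ j)).obj F ≅ (resCx h).obj ((resCx j).obj F) :=
  (NatIso.mapHomologicalComplex (restrictFunctorComp h j) (ComplexShape.up ℤ)).app F

theorem resCxComp_naturality {F G : CochainComplex X.Modules ℤ} (φ : F ⟶ G) :
    (resCx (h ≫ j)).map φ ≫ (resCxComp j h G).hom =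
      (resCxComp j h F).hom ≫ (resCx h).map ((resCx j).map φ) :=
  (NatIso.mapHomologicalComplex (restrictFunctorComp h j) (ComplexShape.up ℤ)).hom.naturality φ

/-- chain-level restriction along equal morphisms -/
noncomputable def resCxCongr {j j' : U ⟶ X} [IsOpenImmersion j] [IsOpenImmersion j'] (e : j = j')
    (F : CochainComplex X.Modules ℤ) : (resCx j).obj F ≅ (resCx j').obj F :=
  (NatIso.mapHomologicalComplex (restrictFunctorCongr e) (ComplexShape.up ℤ)).app F

theorem exists_rep (K : DCoh.D X) : ∃ F : CochainComplex X.Modules ℤ, Nonempty (DCoh.toD X F ≅ K) :=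
  ⟨_, ⟨(DerivedCategory.Q (C := X.Modules)).objObjPreimageIso K⟩⟩

/-- restriction of an isomorphism in `D(O_X)` between complexes -/
noncomputable def resQIso {F F' : CochainComplex X.Modules ℤ}
    (e : DerivedCategory.Q.obj F ≅ DerivedCategory.Q.obj F') :
    DerivedCategory.Q.obj ((resCx j).obj F) ≅ DerivedCategory.Q.obj ((resCx j).obj F') :=
  ((resFac j).app F).symm ≪≫ (resD j).mapIso e ≪≫ (resFac j).app F'

/-- shrinking an isomorphism in `D(O_U)` to a smaller open -/
noncomputable def shrinkIso {F : CochainComplex X.Modules ℤ} {E : CochainComplex U.Modules ℤ}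
    (e : DerivedCategory.Q.obj ((resCx j).obj F) ≅ DerivedCategory.Q.obj E) :
    DerivedCategory.Q.obj ((resCx (h ≫ j)).obj F) ≅ DerivedCategory.Q.obj ((resCx h).obj E) :=
  DerivedCategory.Q.mapIso (resCxComp j h F) ≪≫ resQIso h e

end Basic

section LocFree

open Groth.Agent.Lib.Helper2.FreeModAff

variable {X U : Scheme.{u}} (j : U ⟶ X) [IsOpenImmersion j]

/-- restriction of a finite free module is finite free -/
noncomputable def restrictFreeModIso (n : ℕ) :
    (restrictFunctor j).obj (FlatMod.freeMod X n) ≅ FlatMod.freeMod U n :=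
  (restrictFunctor j).mapIso (freeModIso X n) ≪≫ restrictFreeIso j _ ≪≫ (freeModIso U n).symm

theorem nonempty_iso_freeMod_restrict {M : X.Modules} {n : ℕ}
    (h : Nonempty (M ≅ FlatMod.freeMod X n)) :
    Nonempty ((restrictFunctor j).obj M ≅ FlatMod.freeMod U n) := by
  obtain ⟨e⟩ := h
  exact ⟨(restrictFunctor j).mapIso e ≪≫ restrictFreeModIso j n⟩

theorem isFinLocFree_restrict (M : X.Modules) (hM : FlatMod.IsFinLocFree M) :
    FlatMod.IsFinLocFree ((restrictFunctor j).obj M) := by
  intro y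
  obtain ⟨W, n, hxW, ⟨e⟩⟩ := hM (j y)
  refine ⟨j ⁻¹ᵁ W, n, hxW, ?_⟩
  let e1 : (restrictFunctor (j ⁻¹ᵁ W).ι).obj ((restrictFunctor j).obj M) ≅
      (restrictFunctor (j ∣_ W)).obj ((restrictFunctor W.ι).obj M) :=
    ((restrictFunctorComp (j ⁻¹ᵁ W).ι j).app M).symm ≪≫
      (restrictFunctorCongr (morphismRestrict_ι j W).symm).app M ≪≫
      (restrictFunctorComp (j ∣_ W) W.ι).app M
  exact ⟨e1 ≪≫ (restrictFunctor (j ∣_ W)).mapIso e ≪≫ restrictFreeModIso (j ∣_ W) n⟩

theorem isStrictlyPerfect_resCx (E : CochainComplex X.Modules ℤ) (hE : DCoh.IsStrictlyPerfect E) :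
    DCoh.IsStrictlyPerfect ((resCx j).obj E) := by
  obtain ⟨⟨a, b, hab⟩, hE'⟩ := hE
  exact ⟨⟨a, b, fun i hi => (restrictFunctor j).map_isZero (hab i hi)⟩,
    fun i => isFinLocFree_restrict j _ (hE' i)⟩

theorem isZero_freeMod_zero (X : Scheme.{u}) : IsZero (FlatMod.freeMod X 0) := by
  rw [IsZero.iff_id_eq_zero]
  apply Sigma.hom_ext
  intro i
  exact i.elim0

/-- a strictly perfect complex has finite free terms near any point -/
theorem exists_free_nhd (E : CochainComplex X.Modules ℤ) (hE : DCoh.IsStrictlyPerfect E) (x : X) :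
    ∃ W : X.Opens, x ∈ W ∧
      ∀ i, ∃ n : ℕ, Nonempty (((resCx W.ι).obj E).X i ≅ FlatMod.freeMod (W : Scheme.{u}) n) := by
  obtain ⟨⟨a, b, hab⟩, hE'⟩ := hE
  choose W n hxW hW using fun i => hE' i x
  let W₀ : X.Opens := ⨅ i : Finset.Icc a b, W i.1
  have hxW₀ : x ∈ W₀ := by
    rw [← SetLike.mem_coe, TopologicalSpace.Opens.coe_iInf]
    exact Set.mem_iInter.2 fun i => hxW i.1
  refine ⟨W₀, hxW₀, fun i => ?_⟩
  by_cases hi : i ∈ Finset.Icc a b
  · exact ⟨n i, nonempty_iso_freeMod_of_le (E.X i) (iInf_le (fun i : Finset.Icc a b => W i.1) ⟨i, hi⟩)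
      (n i) (hW i)⟩
  · have hz : IsZero (E.X i) := by
      apply hab
      rw [Finset.mem_Icc] at hi
      lia
    exact ⟨0, ⟨((restrictFunctor W₀.ι).map_isZero hz).iso (isZero_freeMod_zero _)⟩⟩

theorem isFinLocFree_freeMod (X : Scheme.{u}) (n : ℕ) : FlatMod.IsFinLocFree (FlatMod.freeMod X n) :=
  fun _ => ⟨⊤, n, trivial, ⟨restrictFreeModIso _ n⟩⟩

theorem isFinLocFree_of_iso_freeMod {M : X.Modules} {n : ℕ} (h : Nonempty (M ≅ FlatMod.freeMod X n)) :
    FlatMod.IsFinLocFree M := by
  obtain ⟨e⟩ := h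
  exact Groth.Agent.Lib.Helper7.FinLocFree.isFinLocFree_of_iso e.symm (isFinLocFree_freeMod X n)

end LocFree

section Pack

variable {X U : Scheme.{u}} (j : U ⟶ X) [IsOpenImmersion j]

/-- transport an isomorphism in `D(O_U)` along `U ≅ j.opensRange` -/
noncomputable def packIso {F : CochainComplex X.Modules ℤ} {P : CochainComplex U.Modules ℤ}
    (e : DerivedCategory.Q.obj ((resCx j).obj F) ≅ DerivedCategory.Q.obj P) :
    DerivedCategory.Q.obj ((resCx j.opensRange.ι).obj F) ≅
      DerivedCategory.Q.obj ((resCx j.isoOpensRange.inv).obj P) :=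
  DerivedCategory.Q.mapIso (resCxCongr (Scheme.Hom.isoOpensRange_inv_comp j).symm F) ≪≫
    shrinkIso j j.isoOpensRange.inv e

end Pack

end Groth.Agent.Lib.Helper2.DCohBase
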