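import Groth.Agent.Lib.Helper2.FinTypeAff

/-!
# Finitely presented modules have finitely presented modules of sections over affine opens
(helper2 seat library)

* `finitePresentation_sections`: `[SheafOfModules.IsFinitePresentation F]`, `U` affine ⇒
  `Module.FinitePresentation Γ(X,U) Γ(F,U)`.
* `isQuasicoherent_of_isFinitePresentation`.
-/

set_option autoImplicit false
set_option linter.style.haveILetI false
universe u

open AlgebraicGeometry CategoryTheory Opposite TopologicalSpace Limits

namespace Groth.Agent.Lib.Helper2.FinTypeAff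

open Scheme.Modules Groth.Agent.Lib.Helper55.TildeEpi Groth.Agent.Lib.Lead.PullbackAff
open Groth.Agent.Lib.Helper21.RelFPSch Groth.Agent.Lib.Lead.QCohAff

set_option backward.isDefEq.respectTransparency false in
theorem finitePresentation_Γ_of_presentation {R : CommRingCat.{u}} (N : (Spec R).Modules)
    (P : N.Presentation) (hP : P.IsFinite) :
    Module.FinitePresentation R (moduleSpecΓFunctor.obj N) := by
  let g := (tilde.functor _).preimage <| (tildeFinsupp _).hom ≫ P.relations.π ≫ kernel.ι _ ≫
    (tildeFinsupp _).inv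
  let iso : cokernel ((tilde.functor R).map g) ≅ cokernel (P.relations.π ≫ kernel.ι _) := by
    refine cokernel.mapIso _ _ (tildeFinsupp _) (tildeFinsupp _) ?_
    simp only [g, (tilde.functor R).map_preimage]
    simp
  let e : (tilde.functor R).obj (cokernel g) ≅ N :=
    PreservesCokernel.iso (tilde.functor R) g ≪≫ iso ≪≫
      IsColimit.coconePointUniqueUpToIso (colimit.isColimit _) P.isColimit
  let e' : moduleSpecΓFunctor.obj N ≅ ModuleCat.of R (_ ⧸ LinearMap.range g.hom) :=
    moduleSpecΓFunctor.mapIso e.symm ≪≫ (tilde.toTildeΓNatIso.app _).symm ≪≫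
      ModuleCat.cokernelIsoRangeQuotient g
  have h1 : Finite P.generators.I := hP.isFiniteType_generators.finite
  have h2 : Finite P.relations.I := hP.isFiniteType_relations.finite
  have h3 : Module.FinitePresentation R ((P.generators.I →₀ R) ⧸ LinearMap.range g.hom) := by
    refine Module.finitePresentation_of_free_of_surjective (LinearMap.range g.hom).mkQ
      (Submodule.mkQ_surjective _) ?_
    rw [Submodule.ker_mkQ]
    have : Module.Finite R (P.relations.I →₀ R) := inferInstance
    exact Submodule.fg_range _ 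
  exact Module.FinitePresentation.of_equiv e'.symm.toLinearEquiv

set_option backward.isDefEq.respectTransparency false in
theorem exists_isOpenCover_finitePresentation {X : Scheme.{u}} (M : X.Modules)
    [SheafOfModules.IsFinitePresentation (R := X.ringCatSheaf) M] :
    ∃ (ι : Type u) (U : ι → X.Opens) (P : ∀ i, (M.restrict (U i).ι).Presentation),
      (∀ i, (P i).IsFinite) ∧ IsOpenCover U ∧ (∀ i, IsAffineOpen (U i)) := by
  obtain ⟨σ, hσ⟩ :=
    SheafOfModules.IsFinitePresentation.exists_quasicoherentData (R := X.ringCatSheaf) M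
  choose κ hsub heq using fun i ↦ Opens.isBasis_iff_cover.mp X.isBasis_affineOpens (σ.X i)
  have key : ∀ i : (Σ (i : σ.I), κ i),
      ∃ τ : (M.restrict (Scheme.Opens.ι i.2.1)).Presentation, τ.IsFinite := by
    intro i
    let u := X.homOfLE (U := i.2) (V := σ.X i.1) (by simp [heq, le_sSup])
    have : PreservesColimitsOfSize.{u, u} (restrictFunctor u) := inferInstance
    let F := (overEquiv (σ.X i.1)).functor ⋙ restrictFunctor u
    let iso : SheafOfModules.overFunctor X.ringCatSheaf _ ⋙ F ≅ restrictFunctor
      (Scheme.Opens.ι i.2.1) := (Functor.associator _ _ _).symm ≪≫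
        Functor.isoWhiskerRight (Scheme.Modules.overFunctorEquiv _) _ ≪≫
        (restrictFunctorComp _ _).symm ≪≫ (restrictFunctorCongr (by simp [u]))
    have hfin : (σ.presentation i.1).IsFinite := hσ.isFinite_presentation i.1
    have h1 : Finite (σ.presentation i.1).generators.I := hfin.isFiniteType_generators.finite
    have h2 : Finite (σ.presentation i.1).relations.I := hfin.isFiniteType_relations.finite
    refine ⟨SheafOfModules.Presentation.ofIsIso.{u, u, u} (iso.app M).hom <|
      (σ.presentation i.1).map F (Scheme.Modules.restrictUnitIso _).symm, ⟨⟨h1⟩, ⟨h2⟩⟩⟩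
  choose τ hτ using key
  refine ⟨Σ (i : σ.I), κ i, fun j ↦ j.2, τ, hτ, ?_, ?_⟩
  · have cov := σ.coversTop
    rw [Opens.coversTop_iff, IsOpenCover] at cov
    rw [IsOpenCover, iSup_sigma, ← cov]
    refine iSup_congr fun i ↦ ?_
    rw [heq i, sSup_eq_iSup']
  · intro j
    exact hsub _ j.2.2

set_option backward.isDefEq.respectTransparency false in
theorem finitePresentation_sections_of_presentation {X : Scheme.{u}} (M : X.Modules)
    {U : X.Opens} (hU : IsAffineOpen U)
    (τ : (M.restrict U.ι).Presentation) (hτ : τ.IsFinite) :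
    Module.FinitePresentation Γ(X, U) Γ(M, U) := by
  have : PreservesColimitsOfSize.{u, u} (restrictFunctor hU.isoSpec.inv) := inferInstance
  let τ' : (M.restrict hU.fromSpec).Presentation :=
    SheafOfModules.Presentation.ofIsIso.{u, u, u} ((restrictFunctorComp _ _).app M).inv <|
      (presentationRestrict hU.isoSpec.inv τ)
  have h1 : Finite τ.generators.I := hτ.isFiniteType_generators.finite
  have h2 : Finite τ.relations.I := hτ.isFiniteType_relations.finite
  have hτ' : τ'.IsFinite := ⟨⟨h1⟩, ⟨h2⟩⟩
  have := finitePresentation_Γ_of_presentation (M.restrict hU.fromSpec) τ' hτ'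
  exact Module.FinitePresentation.of_equiv (secEquiv hU M)

section localityFP

variable {X : Scheme.{u}} (F : X.Modules)

theorem finitePresentation_congr {U V : X.Opens} (h : U = V)
    (hF : Module.FinitePresentation Γ(X, U) Γ(F, U)) :
    Module.FinitePresentation Γ(X, V) Γ(F, V) := by
  subst h; exact hF

theorem finitePresentation_basicOpen [F.IsQuasicoherent] {U : X.Opens} (hU : IsAffineOpen U)
    (a : Γ(X, U)) (hF : Module.FinitePresentation Γ(X, U) Γ(F, U)) :
    Module.FinitePresentation Γ(X, X.basicOpen a) Γ(F, X.basicOpen a) := by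
  letI : Module Γ(X, U) Γ(F, X.basicOpen a) :=
    Module.compHom _ (resRing X (X.basicOpen_le a))
  haveI : IsScalarTower Γ(X, U) Γ(X, X.basicOpen a) Γ(F, X.basicOpen a) :=
    IsScalarTower.of_algebraMap_smul fun _ _ => rfl
  haveI := hU.isLocalization_basicOpen a
  haveI := isLocalizedModule_resL F hU a
  exact FinitePresentation.of_isBaseChange (resL F (X.basicOpen_le a))
    (IsLocalizedModule.isBaseChange (Submonoid.powers a) _ _)

theorem finitePresentation_of_basicOpen_cover [F.IsQuasicoherent] {U : X.Opens}
    (hU : IsAffineOpen U) (s : Set Γ(X, U)) (hs : Ideal.span s = ⊤)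
    (H : ∀ a ∈ s, Module.FinitePresentation Γ(X, X.basicOpen a) Γ(F, X.basicOpen a)) :
    Module.FinitePresentation Γ(X, U) Γ(F, U) := by
  letI (a : s) : Module Γ(X, U) Γ(F, X.basicOpen a.1) :=
    Module.compHom _ (resRing X (X.basicOpen_le a.1))
  haveI (a : s) : IsScalarTower Γ(X, U) Γ(X, X.basicOpen a.1) Γ(F, X.basicOpen a.1) :=
    IsScalarTower.of_algebraMap_smul fun _ _ => rfl
  haveI (a : s) : IsLocalization.Away a.1 Γ(X, X.basicOpen a.1) := hU.isLocalization_basicOpen a.1
  haveI (a : s) : IsLocalizedModule (Submonoid.powers a.1) (resL F (X.basicOpen_le a.1)) :=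
    isLocalizedModule_resL F hU a.1
  exact Module.FinitePresentation.of_localizationSpan' s hs
    (Rₚ := fun a => Γ(X, X.basicOpen a.1))
    (fun a => resL F (X.basicOpen_le a.1)) (fun a => H a.1 a.2)

/-- Finite presentation of sections on an affine cover gives it on all affine opens. -/
theorem finitePresentation_of_cover [F.IsQuasicoherent] (𝒰 : Set X.Opens)
    (h𝒰 : ∀ x : X, ∃ V ∈ 𝒰, x ∈ V) (haff : ∀ V ∈ 𝒰, IsAffineOpen V)
    (hfin : ∀ V ∈ 𝒰, Module.FinitePresentation Γ(X, V) Γ(F, V))
    {U : X.Opens} (hU : IsAffineOpen U) : Module.FinitePresentation Γ(X, U) Γ(F, U) := by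
  let s : Set Γ(X, U) :=
    {a | Module.FinitePresentation Γ(X, X.basicOpen a) Γ(F, X.basicOpen a)}
  refine finitePresentation_of_basicOpen_cover F hU s ?_ (fun a ha => ha)
  rw [← hU.self_le_iSup_basicOpen_iff]
  intro x hx
  obtain ⟨V, hV, hxV⟩ := h𝒰 x
  obtain ⟨a₀, a₁, ha, hxa, -⟩ := exists_common_basicOpen hU (haff V hV) ⊤ x hx hxV trivial
  rw [Opens.mem_iSup]
  refine ⟨⟨a₀, ?_⟩, hxa⟩
  exact finitePresentation_congr F ha.symm
    (finitePresentation_basicOpen F (haff V hV) a₁ (hfin V hV))

/-- **Sections of a finitely presented module over an affine open form a finitely presented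
module.** -/
theorem finitePresentation_sections
    [SheafOfModules.IsFinitePresentation (R := X.ringCatSheaf) F]
    {U : X.Opens} (hU : IsAffineOpen U) : Module.FinitePresentation Γ(X, U) Γ(F, U) := by
  have hq : F.IsQuasicoherent :=
    SheafOfModules.QuasicoherentData.isQuasicoherent (R := X.ringCatSheaf) (M := F)
      (SheafOfModules.IsFinitePresentation.exists_quasicoherentData
        (R := X.ringCatSheaf) F).choose
  obtain ⟨ι, V, σ, hσ, hcov, haff⟩ := exists_isOpenCover_finitePresentation F
  refine finitePresentation_of_cover F (Set.range V) (fun x => ?_) ?_ ?_ hU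
  · have hx : x ∈ (⊤ : X.Opens) := trivial
    rw [← hcov.iSup_eq_top, Opens.mem_iSup] at hx
    obtain ⟨i, hi⟩ := hx
    exact ⟨V i, ⟨i, rfl⟩, hi⟩
  · rintro _ ⟨i, rfl⟩
    exact haff i
  · rintro _ ⟨i, rfl⟩
    exact finitePresentation_sections_of_presentation F (haff i) (σ i) (hσ i)

end localityFP

end Groth.Agent.Lib.Helper2.FinTypeAff
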