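import Groth.Agent.Lib.Helper2.LocFreeAff
import Groth.Prelude.Def_FinCov

/-!
# Quasi-coherent algebras `RelSpec.QCAlg` as modules (helper2)
-/

set_option autoImplicit false
set_option linter.style.haveILetI false
universe u

open AlgebraicGeometry CategoryTheory Opposite TopologicalSpace Limits

namespace Groth.Agent.Lib.Helper2.QCAlgMod

open Scheme.Modules Groth.Agent.Lib.Lead.QCohAff Groth.Agent.Lib.Lead
open Groth.Agent.Lib.Helper2.KerSec

variable {X : Scheme.{u}} (A : RelSpec.QCAlg X)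

/-- restriction maps of `A.toModule` are those of `A.presheaf` -/
theorem toModule_map_apply {U V : X.Opens} (i : V ⟶ U) (s : Γ(A.toModule, U)) :
    A.toModule.presheaf.map i.op s = (A.presheaf.map i.op).hom (show A.presheaf.obj (op U) from s) :=
  rfl

/-- scalar multiplication on `A.toModule` -/
theorem toModule_smul_def (U : X.Opens) (r : Γ(X, U)) (s : Γ(A.toModule, U)) :
    r • s = ((A.str.app (op U)).hom r * (show A.presheaf.obj (op U) from s) : A.presheaf.obj (op U)) :=
  rfl

theorem str_res {U V : X.Opens} (i : V ⟶ U) (r : Γ(X, U)) :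
    (A.str.app (op V)).hom ((X.presheaf.map i.op).hom r) =
      (A.presheaf.map i.op).hom ((A.str.app (op U)).hom r) :=
  congr($(A.str.naturality i.op) r)

theorem locOn_toModule (U : X.Opens) (hU : IsAffineOpen U) : LocOn A.toModule U := by
  constructor
  · intro f s hs
    letI := (A.presheaf.map (homOfLE (X.basicOpen_le f)).op).hom.toAlgebra
    haveI : IsLocalization.Away ((A.str.app (op U)).hom f)
      (A.presheaf.obj (op (X.basicOpen f))) := A.isQC U hU f
    have h1 : algebraMap (A.presheaf.obj (op U)) (A.presheaf.obj (op (X.basicOpen f)))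
        (show A.presheaf.obj (op U) from s) = 0 := hs
    rw [IsLocalization.map_eq_zero_iff (Submonoid.powers ((A.str.app (op U)).hom f))] at h1
    obtain ⟨⟨_, n, rfl⟩, hm⟩ := h1
    refine ⟨n, ?_⟩
    rw [toModule_smul_def, map_pow]
    exact hm
  · intro f t
    letI := (A.presheaf.map (homOfLE (X.basicOpen_le f)).op).hom.toAlgebra
    haveI : IsLocalization.Away ((A.str.app (op U)).hom f)
      (A.presheaf.obj (op (X.basicOpen f))) := A.isQC U hU f
    obtain ⟨⟨s, ⟨_, n, rfl⟩⟩, hs⟩ := IsLocalization.surj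
      (Submonoid.powers ((A.str.app (op U)).hom f)) (show A.presheaf.obj (op (X.basicOpen f)) from t)
    refine ⟨n, s, ?_⟩
    rw [toModule_smul_def, map_pow, str_res, ← map_pow, mul_comm]
    exact hs.symm

theorem toModule_isQuasicoherent : A.toModule.IsQuasicoherent :=
  (QCohCrit.isQuasicoherent_iff_locOn _).2 (fun U hU => locOn_toModule A U hU)


/-- Two morphisms of modules agreeing on all small enough affine opens are equal. -/
theorem hom_ext_of_local {M N : X.Modules} (φ ψ : M ⟶ N)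
    (h : ∀ x : X, ∃ V : X.Opens, x ∈ V ∧
      ∀ U : X.Opens, U ≤ V → IsAffineOpen U → φ.app U = ψ.app U) : φ = ψ := by
  apply Scheme.Modules.hom_ext
  intro U
  ext s
  apply Groth.Agent.Lib.Helper29.QCohLoc.section_ext'
  intro x hx
  obtain ⟨V, hxV, hV⟩ := h x
  obtain ⟨_, ⟨W, hW : IsAffineOpen W, rfl⟩, hxW, hWle⟩ :=
    (X.isBasis_affineOpens).exists_subset_of_mem_open (show x ∈ ((U ⊓ V : X.Opens) : Set X) from
      ⟨hx, hxV⟩) (U ⊓ V).2
  have hWU : W ≤ U := fun y hy => (hWle hy).1
  have hWV : W ≤ V := fun y hy => (hWle hy).2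
  rw [← Groth.Agent.Lib.Helper29.QCohLoc.germ_res N U W hWU x hxW,
    ← Groth.Agent.Lib.Helper29.QCohLoc.germ_res N U W hWU x hxW,
    ← naturality_apply, ← naturality_apply, hV W hWV hW]


open Groth.Agent.Lib.Helper2.FreeModAff in
/-- Local bases of a quasi-coherent module which is locally free of rank `d`. -/
theorem exists_equiv_of_isFinLocFreeOfRank (F : X.Modules) [F.IsQuasicoherent] (d : ℕ)
    (h : FlatMod.IsFinLocFreeOfRank d F) (x : X) :
    ∃ V : X.Opens, x ∈ V ∧ ∀ U : X.Opens, U ≤ V → IsAffineOpen U →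
      Nonempty (Γ(F, U) ≃ₗ[Γ(X, U)] (Fin d → Γ(X, U))) := by
  obtain ⟨V, hxV, hV⟩ := h x
  refine ⟨V, hxV, fun U hUV hU => ?_⟩
  exact (nonempty_iso_freeMod_iff F hU d).1 (nonempty_iso_freeMod_of_le F hUV d hV)

open Groth.Agent.Lib.Helper2.FreeModAff in
/-- Local bases of a quasi-coherent module which is finite locally free. -/
theorem exists_equiv_of_isFinLocFree (F : X.Modules) [F.IsQuasicoherent]
    (h : FlatMod.IsFinLocFree F) (x : X) :
    ∃ (V : X.Opens) (d : ℕ), x ∈ V ∧ ∀ U : X.Opens, U ≤ V → IsAffineOpen U →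
      Nonempty (Γ(F, U) ≃ₗ[Γ(X, U)] (Fin d → Γ(X, U))) := by
  obtain ⟨V, d, hxV, hV⟩ := h x
  refine ⟨V, d, hxV, fun U hUV hU => ?_⟩
  exact (nonempty_iso_freeMod_iff F hU d).1 (nonempty_iso_freeMod_of_le F hUV d hV)

end Groth.Agent.Lib.Helper2.QCAlgMod
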