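import Groth.Agent.Lib.Helper2.LocFreeAff
import Groth.Agent.Lib.Helper2.QCAlgMod
import Groth.Agent.Lib.Helper2.FinPresAff
import Groth.Agent.Lib.Lead.QCohAff5
import Groth.Agent.Lib.Lead.CohAff4
import Groth.Agent.Lib.Lead.PullbackAff6
import Groth.Agent.S0018
import Mathlib.Algebra.Module.FinitePresentation
import Mathlib.RingTheory.Flat.EquationalCriterion

/-!
# Finite locally free modules and sections over affine opens (helper2 seat library)

* `finitePresentation_sections_of_isFinLocFree`, `projective_sections_of_isFinLocFree`,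
  `isFinLocFree_iff_sections` (Theorem C): for quasi-coherent `F`,
  `FlatMod.IsFinLocFree F ↔ ∀ U affine, Module.Finite Γ(X,U) Γ(F,U) ∧ Module.Projective Γ(X,U) Γ(F,U)`.
* `flat_sections_iff_isFlatAt`: `Module.Flat Γ(X,U) Γ(F,U) ↔ ∀ x ∈ U, FlatMod.IsFlatAt F x`.
* `free_stalk_of_projective`.
* `isFinitePresentation_of_sections`, `isFinitePresentation_iff_sections`.
* `finitePresentation_of_semilinearEquiv`, `specΓEquiv`, `tildeΓEquiv`, `finite_iff_tilde`,
  `projective_iff_tilde`, `finitePresentation_iff_tilde`.
-/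

set_option autoImplicit false
set_option linter.style.haveILetI false
universe u

open AlgebraicGeometry CategoryTheory Opposite TopologicalSpace Limits

namespace Groth.Agent.Lib.Helper2.FinLocFreeAff

open Scheme.Modules Groth.Agent.Lib.Helper2.FinTypeAff Groth.Agent.Lib.Helper2.FreeModAff
open Groth.Agent.Lib.Helper2.LocFreeAff Groth.Agent.Lib.Helper2.QCAlgMod
open Groth.Agent.Lib.Lead.QCohAff Groth.Agent.Lib.Lead.PullbackAff
open Groth.Agent.Lib.Lead.QCohLocal


section Alg

/-- Finite presentation transfers along semilinear equivalences over a ring isomorphism. -/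
theorem finitePresentation_of_semilinearEquiv {R S M N : Type*} [CommRing R] [CommRing S]
    [AddCommGroup M] [AddCommGroup N] [Module R M] [Module S N] {σ : R →+* S} {σ' : S →+* R}
    [RingHomInvPair σ σ'] [RingHomInvPair σ' σ] (e : M ≃ₛₗ[σ] N)
    [Module.FinitePresentation R M] : Module.FinitePresentation S N := by
  letI : Module R N := Module.compHom N σ
  letI : Algebra R S := σ.toAlgebra
  haveI : IsScalarTower R S N := IsScalarTower.of_algebraMap_smul fun _ _ => rfl
  let e' : M ≃ₗ[R] N :=
    { toFun := e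
      invFun := e.symm
      left_inv := e.left_inv
      right_inv := e.right_inv
      map_add' := e.map_add
      map_smul' := fun r m => e.map_smulₛₗ r m }
  haveI : Module.FinitePresentation R N := Module.FinitePresentation.of_equiv e'
  have hbij : Function.Bijective (algebraMap R S) := by
    change Function.Bijective σ
    exact (RingHomInvPair.toRingEquiv σ σ').bijective
  haveI : IsLocalization (⊥ : Submonoid R) S := by
    refine IsLocalization.of_le_isUnit_of_bijective ?_ hbij
    rintro _ ⟨x, hx, rfl⟩
    rw [Submonoid.mem_bot.1 hx, map_one]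
    exact isUnit_one
  haveI := isLocalizedModule_id (⊥ : Submonoid R) N S
  exact FinitePresentation.of_isBaseChange (LinearMap.id : N →ₗ[R] N)
    ((isLocalizedModule_iff_isBaseChange (⊥ : Submonoid R) S _).1 inferInstance)

end Alg

section Spec

variable {R : CommRingCat.{u}}

instance : RingHomInvPair (Scheme.ΓSpecIso R).inv.hom (Scheme.ΓSpecIso R).hom.hom :=
  ⟨by ext x; exact congr($((Scheme.ΓSpecIso R).inv_hom_id) x),
    by ext x; exact congr($((Scheme.ΓSpecIso R).hom_inv_id) x)⟩

instance : RingHomInvPair (Scheme.ΓSpecIso R).hom.hom (Scheme.ΓSpecIso R).inv.hom :=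
  ⟨by ext x; exact congr($((Scheme.ΓSpecIso R).hom_inv_id) x),
    by ext x; exact congr($((Scheme.ΓSpecIso R).inv_hom_id) x)⟩

/-- The identity as a semilinear equivalence from the `R`-module of global sections of a module
on `Spec R` to the `Γ(Spec R, ⊤)`-module of its global sections. -/
noncomputable def specΓEquiv (N : (Spec R).Modules) :
    moduleSpecΓFunctor.obj N ≃ₛₗ[(Scheme.ΓSpecIso R).inv.hom] Γ(N, ⊤) where
  toFun s := s
  invFun s := s
  left_inv _ := rfl
  right_inv _ := rfl
  map_add' _ _ := rfl
  map_smul' _ _ := rfl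

/-- The semilinear equivalence `M ≃ Γ(M~, ⊤)`. -/
noncomputable def tildeΓEquiv (M : ModuleCat.{u} R) :
    M ≃ₛₗ[(Scheme.ΓSpecIso R).inv.hom] Γ(tilde M, ⊤) :=
  (tilde.toTildeΓNatIso.app M).toLinearEquiv.trans (specΓEquiv (tilde M))

theorem finite_iff_Γ (N : (Spec R).Modules) :
    Module.Finite R (moduleSpecΓFunctor.obj N) ↔ Module.Finite Γ(Spec R, ⊤) Γ(N, ⊤) :=
  LinearMap.finite_iff_of_bijective (specΓEquiv N).toLinearMap (specΓEquiv N).bijective

theorem finite_iff_tilde (M : ModuleCat.{u} R) :
    Module.Finite R M ↔ Module.Finite Γ(Spec R, ⊤) Γ(tilde M, ⊤) :=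
  LinearMap.finite_iff_of_bijective (tildeΓEquiv M).toLinearMap (tildeΓEquiv M).bijective

theorem projective_iff_tilde (M : ModuleCat.{u} R) :
    Module.Projective R M ↔ Module.Projective Γ(Spec R, ⊤) Γ(tilde M, ⊤) :=
  ⟨fun _ => Module.Projective.of_equiv (tildeΓEquiv M),
    fun _ => Module.Projective.of_equiv (tildeΓEquiv M).symm⟩

theorem finitePresentation_iff_tilde (M : ModuleCat.{u} R) :
    Module.FinitePresentation R M ↔ Module.FinitePresentation Γ(Spec R, ⊤) Γ(tilde M, ⊤) :=
  ⟨fun _ => finitePresentation_of_semilinearEquiv (tildeΓEquiv M),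
    fun _ => finitePresentation_of_semilinearEquiv (tildeΓEquiv M).symm⟩

end Spec


variable {X : Scheme.{u}}

/-- **Lemma B1**: sections of a quasi-coherent finite locally free module over an affine open are
finitely presented. -/
theorem finitePresentation_sections_of_isFinLocFree (F : X.Modules) [F.IsQuasicoherent]
    (h : FlatMod.IsFinLocFree F) {U : X.Opens} (hU : IsAffineOpen U) :
    Module.FinitePresentation Γ(X, U) Γ(F, U) := by
  refine finitePresentation_of_cover F
    {V | IsAffineOpen V ∧ Module.FinitePresentation Γ(X, V) Γ(F, V)} ?_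
    (fun V hV => hV.1) (fun V hV => hV.2) hU
  intro x
  obtain ⟨W, d, hxW, hW⟩ := exists_equiv_of_isFinLocFree F h x
  obtain ⟨_, ⟨V, hV : IsAffineOpen V, rfl⟩, hxV, hVW⟩ :=
    (X.isBasis_affineOpens).exists_subset_of_mem_open hxW W.2
  obtain ⟨e⟩ := hW V hVW hV
  exact ⟨V, ⟨hV, Module.FinitePresentation.of_equiv e.symm⟩, hxV⟩

/-- **Lemma B2**: sections of a quasi-coherent finite locally free module over an affine open are
projective. -/
theorem projective_sections_of_isFinLocFree (F : X.Modules) [F.IsQuasicoherent]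
    (h : FlatMod.IsFinLocFree F) {U : X.Opens} (hU : IsAffineOpen U) :
    Module.Projective Γ(X, U) Γ(F, U) := by
  haveI := finitePresentation_sections_of_isFinLocFree F h hU
  rw [← Module.freeLocus_eq_univ_iff, Set.eq_univ_iff_forall]
  intro p
  have hx : hU.fromSpec p ∈ U := Groth.Agent.Lib.Lead.QCohAff.fromSpec_mem hU p
  obtain ⟨W, d, hxW, hW⟩ := exists_equiv_of_isFinLocFree F h (hU.fromSpec p)
  obtain ⟨r, hrW, hxr⟩ := hU.exists_basicOpen_le ⟨hU.fromSpec p, hxW⟩ hx
  obtain ⟨e⟩ := hW (X.basicOpen r) hrW (hU.basicOpen r)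
  have hfree : Module.Free Γ(X, X.basicOpen r) Γ(F, X.basicOpen r) := Module.Free.of_equiv e.symm
  letI : Module Γ(X, U) Γ(F, X.basicOpen r) :=
    Module.compHom _ (Groth.Agent.Lib.Helper21.RelFPSch.resRing X (X.basicOpen_le r))
  haveI : IsScalarTower Γ(X, U) Γ(X, X.basicOpen r) Γ(F, X.basicOpen r) :=
    IsScalarTower.of_algebraMap_smul fun _ _ => rfl
  haveI := hU.isLocalization_basicOpen r
  haveI := Groth.Agent.Lib.Helper21.RelFPSch.isLocalizedModule_resL F hU r
  have hfree' : Module.Free (Localization.Away r) (LocalizedModule.Away r Γ(F, U)) :=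
    (free_away_iff r Γ(X, X.basicOpen r) Γ(F, X.basicOpen r)
      (Groth.Agent.Lib.Helper21.RelFPSch.resL F (X.basicOpen_le r))).2 hfree
  have hsub := (Module.basicOpen_subset_freeLocus_iff (R := Γ(X, U)) (M := Γ(F, U)) (f := r)).2
    inferInstance
  apply hsub
  have h1 := (Groth.Agent.Lib.Lead.QCohAff.mem_basicOpen_iff_notMem_primeIdealOf hU
    (hU.fromSpec p) hx r).1 hxr
  rw [Groth.Agent.Lib.Lead.QCohAff.primeIdealOf_fromSpec hU p hx] at h1
  exact h1

/-- **Theorem C**: a quasi-coherent module is finite locally free iff its modules of sections over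
affine opens are finite projective. -/
theorem isFinLocFree_iff_sections (F : X.Modules) [F.IsQuasicoherent] :
    FlatMod.IsFinLocFree F ↔ ∀ U : X.Opens, IsAffineOpen U →
      Module.Finite Γ(X, U) Γ(F, U) ∧ Module.Projective Γ(X, U) Γ(F, U) := by
  constructor
  · intro h U hU
    haveI := finitePresentation_sections_of_isFinLocFree F h hU
    exact ⟨inferInstance, projective_sections_of_isFinLocFree F h hU⟩
  · intro h
    apply isFinLocFree_of_projective
    intro x
    obtain ⟨_, ⟨U, hU : IsAffineOpen U, rfl⟩, hxU, -⟩ :=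
      (X.isBasis_affineOpens).exists_subset_of_mem_open (Set.mem_univ x) isOpen_univ
    exact ⟨U, hU, hxU, h U hU⟩


/-- Absolute flatness at a point in terms of the stalk as a `Γ(X, U)`-module. -/
theorem isFlatAt_iff_flat_stalkOver (F : X.Modules) {U : X.Opens} (hU : IsAffineOpen U) (x : X)
    (hx : x ∈ U) :
    FlatMod.IsFlatAt F x ↔ Module.Flat Γ(X, U) (StalkOver F U x hx) := by
  letI := X.presheaf.algebra_section_stalk ⟨x, hx⟩
  haveI := hU.isLocalization_stalk ⟨x, hx⟩
  haveI : IsScalarTower Γ(X, U) (X.presheaf.stalk x) (StalkOver F U x hx) :=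
    IsScalarTower.of_algebraMap_smul fun r m => rfl
  exact Module.flat_iff_of_isLocalization (X.presheaf.stalk x)
    (hU.primeIdealOf ⟨x, hx⟩).asIdeal.primeCompl (StalkOver F U x hx)

/-- `Γ(F, U)` is flat over `Γ(X, U)` iff `F` is flat at all points of `U`. -/
theorem flat_sections_iff_isFlatAt (F : X.Modules) [F.IsQuasicoherent] {U : X.Opens}
    (hU : IsAffineOpen U) :
    Module.Flat Γ(X, U) Γ(F, U) ↔ ∀ (x : X) (_ : x ∈ U), FlatMod.IsFlatAt F x := by
  constructor
  · intro hflat x hx
    rw [isFlatAt_iff_flat_stalkOver F hU x hx]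
    haveI := isLocalizedModule_germL F hU x hx
    exact flat_of_isLocalizedModule_of_flat Γ(X, U) Γ(F, U)
      (hU.primeIdealOf ⟨x, hx⟩).asIdeal.primeCompl (germL F U x hx)
  · intro h
    let xP : ∀ (P : Ideal Γ(X, U)) [P.IsMaximal], X := fun P _ =>
      hU.fromSpec ⟨P, inferInstance⟩
    have hxP : ∀ (P : Ideal Γ(X, U)) [P.IsMaximal], xP P ∈ U := fun P _ => fromSpec_mem hU _
    have hloc : ∀ (P : Ideal Γ(X, U)) [P.IsMaximal],
        IsLocalizedModule.AtPrime P (germL F U (xP P) (hxP P)) := fun P _ => by
      have := isLocalizedModule_germL F hU (xP P) (hxP P)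
      rwa [primeIdealOf_fromSpec hU ⟨P, inferInstance⟩ (hxP P)] at this
    refine @Module.flat_of_isLocalized_maximal Γ(X, U) Γ(X, U) _ _ _ Γ(F, U) _ _ _ _
      (fun P _ => StalkOver F U (xP P) (hxP P)) (fun P _ => inferInstance)
      (fun P _ => inferInstance) (fun P _ => inferInstance)
      (fun P _ => inferInstance) (fun P _ => germL F U (xP P) (hxP P)) hloc ?_
    intro P _
    exact (isFlatAt_iff_flat_stalkOver F hU (xP P) (hxP P)).1 (h _ (hxP P))

/-- Stalks of a quasi-coherent module with finite projective sections are free. -/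
theorem free_stalk_of_projective (F : X.Modules) [F.IsQuasicoherent] {U : X.Opens}
    (hU : IsAffineOpen U) [Module.Finite Γ(X, U) Γ(F, U)] [Module.Projective Γ(X, U) Γ(F, U)]
    (x : X) (hx : x ∈ U) : Module.Free (X.presheaf.stalk x) (F.presheaf.stalk x) := by
  have hflat : FlatMod.IsFlatAt F x := (flat_sections_iff_isFlatAt F hU).1 inferInstance x hx
  have hfin : Module.Finite (X.presheaf.stalk x) (F.presheaf.stalk x) := by
    letI := X.presheaf.algebra_section_stalk ⟨x, hx⟩
    haveI := hU.isLocalization_stalk ⟨x, hx⟩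
    haveI : IsScalarTower Γ(X, U) (X.presheaf.stalk x) (StalkOver F U x hx) :=
      IsScalarTower.of_algebraMap_smul fun r m => rfl
    haveI := isLocalizedModule_germL F hU x hx
    have h : Module.Finite (X.presheaf.stalk x) (StalkOver F U x hx) :=
      Module.Finite.of_isLocalizedModule (hU.primeIdealOf ⟨x, hx⟩).asIdeal.primeCompl
        (Rₚ := X.presheaf.stalk x) (germL F U x hx)
    exact h
  haveI : Module.Flat (X.presheaf.stalk x) (F.presheaf.stalk x) := hflat
  exact Module.free_of_flat_of_isLocalRing


open SheafOfModules in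

theorem exists_finite_presentation_spec {R : CommRingCat.{u}}
    (N : (Spec R).Modules) [N.IsQuasicoherent]
    [hfp : Module.FinitePresentation R (moduleSpecΓFunctor.obj N)] :
    ∃ P : N.Presentation, P.IsFinite := by
  have hiso : IsIso N.fromTildeΓ := Scheme.Modules.isIso_fromTildeΓ_of_isQuasicoherent N
  obtain ⟨s, hs⟩ := (inferInstance : Module.Finite R (moduleSpecΓFunctor.obj N)).fg_top
  let S : Set (moduleSpecΓFunctor.obj N) := ↑s
  have hSf : S.Finite := s.finite_toSet
  have : Finite S := hSf.to_subtype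
  have hsurj : Function.Surjective (Finsupp.linearCombination R
      ((↑) : S → (moduleSpecΓFunctor.obj N))) := by
    rw [← LinearMap.range_eq_top, Finsupp.range_linearCombination]
    simpa [S] using hs
  obtain ⟨t, ht⟩ := Module.FinitePresentation.fg_ker (Finsupp.linearCombination R
    ((↑) : S → (moduleSpecΓFunctor.obj N))) hsurj
  obtain ⟨P0, hP0⟩ : ∃ P0 : (tilde ((modulesSpecToSheaf.obj N).presheaf.obj (.op ⊤))).Presentation,
      P0.IsFinite := ⟨_, Groth.Agent.S0018.isFinite_presentationTilde _ S hs t ht hSf t.finite_toSet⟩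
  exact ⟨SheafOfModules.Presentation.ofIsIso (asIso N.fromTildeΓ).hom P0, inferInstance⟩

/-- A quasi-coherent module whose sections over the members of an affine open cover are finitely
presented modules is a finitely presented sheaf of modules. -/
theorem isFinitePresentation_of_sections (M : X.Modules) [M.IsQuasicoherent]
    (h : ∀ x : X, ∃ (U : X.Opens) (_ : IsAffineOpen U), x ∈ U ∧
      Module.FinitePresentation Γ(X, U) Γ(M, U)) :
    SheafOfModules.IsFinitePresentation (R := X.ringCatSheaf) M := by
  have key : ∀ x : X, ∃ (U : X.Opens) (_ : x ∈ U)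
      (P : (SheafOfModules.over (R := X.ringCatSheaf) M U).Presentation), P.IsFinite := by
    intro x
    obtain ⟨V, hV, hxV, hfp⟩ := h x
    have : Module.FinitePresentation Γ(X, V) (moduleSpecΓFunctor.obj (M.restrict hV.fromSpec)) :=
      Module.FinitePresentation.of_equiv (Groth.Agent.Lib.Lead.PullbackAff.secEquiv hV M).symm
    obtain ⟨P, hP⟩ := exists_finite_presentation_spec (M.restrict hV.fromSpec)
    have := Groth.Agent.S0018.isFinite_presentationOfFromSpec M hV P
    exact ⟨V, hxV, presentationOver M V (presentationOfFromSpec M hV P),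
      Groth.Agent.S0018.isFinite_presentationOver M V _⟩
  choose U hxU P hP using key
  have hcov : IsOpenCover U := by
    change ⨆ x, U x = ⊤
    exact top_le_iff.1 fun x _ => Opens.mem_iSup.2 ⟨x, hxU x⟩
  let D : SheafOfModules.QuasicoherentData.{u} (R := X.ringCatSheaf) M :=
    { I := ↥X
      X := U
      coversTop := (Opens.coversTop_iff _ U).2 hcov
      presentation := P }
  have hD : D.IsFinitePresentation := { isFinite_presentation := fun x => hP x }
  exact { exists_quasicoherentData := ⟨D, hD⟩ }

/-- A quasi-coherent module is finitely presented iff its sections over all affine opens are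
finitely presented modules. -/
theorem isFinitePresentation_iff_sections (M : X.Modules) [M.IsQuasicoherent] :
    SheafOfModules.IsFinitePresentation (R := X.ringCatSheaf) M ↔
      ∀ U : X.Opens, IsAffineOpen U → Module.FinitePresentation Γ(X, U) Γ(M, U) := by
  constructor
  · intro h U hU
    exact finitePresentation_sections M hU
  · intro h
    apply isFinitePresentation_of_sections
    intro x
    obtain ⟨_, ⟨U, hU : IsAffineOpen U, rfl⟩, hxU, -⟩ :=
      (X.isBasis_affineOpens).exists_subset_of_mem_open (Set.mem_univ x) isOpen_univ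
    exact ⟨U, hU, hxU, h U hU⟩

/-- flat + finitely presented ⇒ finite locally free (quasi-coherent is automatic but assumed). -/
theorem isFinLocFree_of_flat_of_isFP (M : X.Modules) [M.IsQuasicoherent]
    (hflat : FlatMod.IsFlat M)
    (hfp : SheafOfModules.IsFinitePresentation (R := X.ringCatSheaf) M) :
    FlatMod.IsFinLocFree M := by
  apply isFinLocFree_of_projective
  intro x
  obtain ⟨_, ⟨U, hU : IsAffineOpen U, rfl⟩, hxU, -⟩ :=
    (X.isBasis_affineOpens).exists_subset_of_mem_open (Set.mem_univ x) isOpen_univ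
  haveI : Module.FinitePresentation Γ(X, U) Γ(M, U) := finitePresentation_sections M hU
  haveI : Module.Flat Γ(X, U) Γ(M, U) :=
    (flat_sections_iff_isFlatAt M hU).2 (fun y _ => hflat y)
  exact ⟨U, hU, hxU, inferInstance, Module.Flat.projective_of_finitePresentation⟩

/-- finite locally free ⇒ finitely presented. -/
theorem isFP_of_isFinLocFree (M : X.Modules) [M.IsQuasicoherent]
    (h : FlatMod.IsFinLocFree M) :
    SheafOfModules.IsFinitePresentation (R := X.ringCatSheaf) M := by
  apply isFinitePresentation_of_sections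
  intro x
  obtain ⟨_, ⟨U, hU : IsAffineOpen U, rfl⟩, hxU, -⟩ :=
    (X.isBasis_affineOpens).exists_subset_of_mem_open (Set.mem_univ x) isOpen_univ
  exact ⟨U, hU, hxU, finitePresentation_sections_of_isFinLocFree M h hU⟩

/-- finite locally free ⇒ free stalks. -/
theorem free_stalk_of_isFinLocFree (M : X.Modules) [M.IsQuasicoherent]
    (h : FlatMod.IsFinLocFree M) (x : X) :
    Module.Free (X.presheaf.stalk x) (M.presheaf.stalk x) := by
  obtain ⟨_, ⟨U, hU : IsAffineOpen U, rfl⟩, hxU, -⟩ :=
    (X.isBasis_affineOpens).exists_subset_of_mem_open (Set.mem_univ x) isOpen_univ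
  obtain ⟨h1, h2⟩ := (isFinLocFree_iff_sections M).1 h U hU
  exact free_stalk_of_projective M hU x hxU

/-- finite locally free ⇒ flat. -/
theorem isFlat_of_isFinLocFree (M : X.Modules) [M.IsQuasicoherent]
    (h : FlatMod.IsFinLocFree M) : FlatMod.IsFlat M := by
  intro x
  haveI := free_stalk_of_isFinLocFree M h x
  change Module.Flat (X.presheaf.stalk x) (M.presheaf.stalk x)
  infer_instance

end Groth.Agent.Lib.Helper2.FinLocFreeAff
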