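import Groth.Agent.Lib.Helper2.FinLocFreeAff
import Mathlib.RingTheory.Support
import Mathlib.Algebra.Module.LocalizedModule.Submodule
import Mathlib.RingTheory.LocalRing.Module
import Mathlib.RingTheory.OrzechProperty
import Mathlib.LinearAlgebra.FiniteDimensional.Lemmas
import Mathlib.AlgebraicGeometry.Properties

/-!
# Fibre rank and finite locally free modules (helper2 seat library)

* `fibRank M x`: the fibre rank (abbrev matching the Props statements).
* `exists_generators_near`: finite type qcoh `M` is generated near `x` by `fibRank M x` sections.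
* `nonempty_equiv_of_free_stalks` (B1), `nonempty_equiv_of_fibRank` (B2, reduced).
* `isLocallyConstant_fibRank_of_isFinLocFree`, `isFinLocFree_of_free_stalks`,
  `isFinLocFree_of_isReduced`, `stalk_free_of_sections_free`, `fibRank_eq_of_sections_free`.
-/

set_option autoImplicit false
set_option linter.style.haveILetI false
universe u

open AlgebraicGeometry CategoryTheory Opposite TopologicalSpace Limits

namespace Groth.Agent.Lib.Helper2.FibRank

open Groth.Agent.Lib.Lead.QCohAff Groth.Agent.Lib.Lead.PullbackAff Groth.Agent.Lib.Lead.CohAff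
open scoped TensorProduct

section Alg

variable {R : Type*} [CommRing R] {P : Type*} [AddCommGroup P] [Module R P]

/-- If a submodule `N` of a finite module `P` becomes everything after localizing at the prime `p`,
then some `r ∉ p` multiplies `P` into `N`. -/
theorem exists_smul_mem_of_localized'_eq_top [Module.Finite R P] (p : PrimeSpectrum R)
    (N : Submodule R P) (Rp : Type*) [CommRing Rp] [Algebra R Rp]
    [IsLocalization.AtPrime Rp p.asIdeal] {Pp : Type*} [AddCommGroup Pp] [Module R Pp] [Module Rp Pp]
    [IsScalarTower R Rp Pp] (f : P →ₗ[R] Pp) [IsLocalizedModule p.asIdeal.primeCompl f]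
    (h : N.localized' Rp p.asIdeal.primeCompl f = ⊤) :
    ∃ r : R, r ∉ p.asIdeal ∧ ∀ t : P, r • t ∈ N := by
  have hsupp : p ∉ Module.support R (P ⧸ N) := by
    rw [Module.notMem_support_iff']
    intro q
    obtain ⟨t, rfl⟩ := N.mkQ_surjective q
    have ht : f t ∈ N.localized' Rp p.asIdeal.primeCompl f := by rw [h]; trivial
    obtain ⟨m, hm, c, hc⟩ := ht
    rw [IsLocalizedModule.mk'_eq_iff] at hc
    have hc' : f m = f ((c : R) • t) := by rw [hc, map_smul]; rfl
    obtain ⟨c', hc''⟩ := IsLocalizedModule.exists_of_eq (S := p.asIdeal.primeCompl) hc'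
    refine ⟨(c' * c : R), (c' * c).2, ?_⟩
    rw [Submodule.mkQ_apply, ← Submodule.Quotient.mk_smul, Submodule.Quotient.mk_eq_zero]
    have : ((c' : R) * (c : R)) • t = c' • m := by
      rw [hc'', mul_smul]; rfl
    rw [this]
    exact N.smul_mem _ hm
  rw [Module.mem_support_iff_of_finite, SetLike.not_le_iff_exists] at hsupp
  obtain ⟨r, hr, hrp⟩ := hsupp
  refine ⟨r, hrp, fun t => ?_⟩
  have := (Module.mem_annihilator.1 hr) (N.mkQ t)
  rwa [Submodule.mkQ_apply, ← Submodule.Quotient.mk_smul, Submodule.Quotient.mk_eq_zero] at this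

/-- If `r • P ⊆ N` then `N` becomes everything after inverting `r`. -/
theorem localized'_eq_top_of_smul_mem (r : R) (N : Submodule R P) (h : ∀ t : P, r • t ∈ N)
    (Rr : Type*) [CommRing Rr] [Algebra R Rr] [IsLocalization.Away r Rr]
    {Pr : Type*} [AddCommGroup Pr] [Module R Pr] [Module Rr Pr] [IsScalarTower R Rr Pr]
    (g : P →ₗ[R] Pr) [IsLocalizedModule (Submonoid.powers r) g] :
    N.localized' Rr (Submonoid.powers r) g = ⊤ := by
  rw [eq_top_iff]
  rintro x -
  obtain ⟨⟨t, c⟩, rfl⟩ := IsLocalizedModule.mk'_surjective (Submonoid.powers r) g x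
  refine ⟨r • t, h t, ⟨r, Submonoid.mem_powers r⟩ * c, ?_⟩
  exact IsLocalizedModule.mk'_cancel_left (f := g) t ⟨r, Submonoid.mem_powers r⟩ c

end Alg

variable {X : Scheme.{u}} (M : X.Modules)

/-- The fibre rank of `M` at `x`. -/
noncomputable abbrev fibRank (x : X) : ℕ :=
  Module.finrank (IsLocalRing.ResidueField (X.presheaf.stalk x))
    (TensorProduct (X.presheaf.stalk x) (IsLocalRing.ResidueField (X.presheaf.stalk x))
      (M.presheaf.stalk x))

/-- Sections over an affine open whose germs at `x` reduce to a basis of the fibre. -/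
theorem exists_sections_germ_span [M.IsQuasicoherent]
    (hM : SheafOfModules.IsFiniteType (R := X.ringCatSheaf) M) {U : X.Opens} (hU : IsAffineOpen U)
    (x : X) (hxU : x ∈ U) :
    ∃ s : Fin (fibRank M x) → Γ(M, U),
      Submodule.span (X.presheaf.stalk x) (Set.range fun i => M.presheaf.germ U x hxU (s i)) = ⊤ := by
  haveI hfinL : Module.Finite (X.presheaf.stalk x) (M.presheaf.stalk x) :=
    finite_stalk_of_isFiniteType M hM x
  let b := Module.finBasis (IsLocalRing.ResidueField (X.presheaf.stalk x))
    (TensorProduct (X.presheaf.stalk x) (IsLocalRing.ResidueField (X.presheaf.stalk x))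
      (M.presheaf.stalk x))
  have hsurj := TensorProduct.mk_surjective (X.presheaf.stalk x) (M.presheaf.stalk x)
    (IsLocalRing.ResidueField (X.presheaf.stalk x)) Ideal.Quotient.mk_surjective
  choose m hm using fun i => hsurj (b i)
  choose a s hxa hgerm using fun i => exists_germ_smul_eq_germ_of_locOn M hU
    (LocOn.of_isQuasicoherent M hU) x hxU (m i)
  have hunit : ∀ i, IsUnit (IsLocalRing.residue (X.presheaf.stalk x)
      (X.presheaf.germ U x hxU (a i))) :=
    fun i => (isUnit_germ_of_mem_basicOpen (a i) x hxU (hxa i)).map _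
  let b' := b.isUnitSMul hunit
  have hb' : ∀ i, (1 : IsLocalRing.ResidueField (X.presheaf.stalk x)) ⊗ₜ[X.presheaf.stalk x]
      (M.presheaf.germ U x hxU (s i)) = b' i := by
    intro i
    rw [Module.Basis.isUnitSMul_apply, ← hgerm i, TensorProduct.tmul_smul, ← hm i]
    rw [TensorProduct.mk_apply, ← algebraMap_smul (IsLocalRing.ResidueField (X.presheaf.stalk x))
      (X.presheaf.germ U x hxU (a i))]
    rfl
  exact ⟨s, IsLocalRing.span_eq_top_of_tmul_eq_basis _ b' hb'⟩

/-- Around a point, a finite type quasi-coherent module is generated by as many sections as the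
fibre rank at that point. -/
theorem exists_generators_near [M.IsQuasicoherent]
    (hM : SheafOfModules.IsFiniteType (R := X.ringCatSheaf) M) (x : X) (W : X.Opens)
    (hxW : x ∈ W) :
    ∃ (U : X.Opens), IsAffineOpen U ∧ x ∈ U ∧ U ≤ W ∧
      ∃ s : Fin (fibRank M x) → Γ(M, U), Submodule.span Γ(X, U) (Set.range s) = ⊤ := by
  obtain ⟨_, ⟨U, hU : IsAffineOpen U, rfl⟩, hxU, hUW⟩ :=
    (X.isBasis_affineOpens).exists_subset_of_mem_open hxW W.2
  obtain ⟨s, hs⟩ := exists_sections_germ_span M hM hU x hxU
  haveI hfinP : Module.Finite Γ(X, U) Γ(M, U) := finite_sections_of_isFiniteType M hM hU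
  letI := X.presheaf.algebra_section_stalk ⟨x, hxU⟩
  haveI := hU.isLocalization_stalk ⟨x, hxU⟩
  haveI : IsScalarTower Γ(X, U) (X.presheaf.stalk x) (StalkOver M U x hxU) :=
    IsScalarTower.of_algebraMap_smul fun r m => rfl
  haveI := isLocalizedModule_germL M hU x hxU
  have hloc : (Submodule.span Γ(X, U) (Set.range s)).localized' (X.presheaf.stalk x)
      (hU.primeIdealOf ⟨x, hxU⟩).asIdeal.primeCompl (germL M U x hxU) = ⊤ := by
    rw [Submodule.localized'_span, ← Set.range_comp]
    exact hs
  obtain ⟨r, hrp, hr⟩ := exists_smul_mem_of_localized'_eq_top (hU.primeIdealOf ⟨x, hxU⟩)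
    (Submodule.span Γ(X, U) (Set.range s)) (X.presheaf.stalk x) (germL M U x hxU) hloc
  have hxr : x ∈ X.basicOpen r := (mem_basicOpen_iff_notMem_primeIdealOf hU x hxU r).2 hrp
  refine ⟨X.basicOpen r, hU.basicOpen r, hxr, (X.basicOpen_le r).trans hUW,
    fun i => M.presheaf.map (homOfLE (X.basicOpen_le r)).op (s i), ?_⟩
  letI : Module Γ(X, U) Γ(M, X.basicOpen r) :=
    Module.compHom _ (Groth.Agent.Lib.Helper21.RelFPSch.resRing X (X.basicOpen_le r))
  haveI : IsScalarTower Γ(X, U) Γ(X, X.basicOpen r) Γ(M, X.basicOpen r) :=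
    IsScalarTower.of_algebraMap_smul fun _ _ => rfl
  haveI := hU.isLocalization_basicOpen r
  haveI := Groth.Agent.Lib.Helper21.RelFPSch.isLocalizedModule_resL M hU r
  have := localized'_eq_top_of_smul_mem r (Submodule.span Γ(X, U) (Set.range s)) hr
    Γ(X, X.basicOpen r) (Groth.Agent.Lib.Helper21.RelFPSch.resL M (X.basicOpen_le r))
  rw [Submodule.localized'_span, ← Set.range_comp] at this
  exact this

/-- germs of spanning sections span the stalk -/
theorem span_germ_eq_top [M.IsQuasicoherent] {U : X.Opens} (hU : IsAffineOpen U) {n : ℕ}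
    (s : Fin n → Γ(M, U)) (hs : Submodule.span Γ(X, U) (Set.range s) = ⊤) (y : X) (hy : y ∈ U) :
    Submodule.span (X.presheaf.stalk y) (Set.range fun i => M.presheaf.germ U y hy (s i)) = ⊤ := by
  letI := X.presheaf.algebra_section_stalk ⟨y, hy⟩
  haveI := hU.isLocalization_stalk ⟨y, hy⟩
  haveI : IsScalarTower Γ(X, U) (X.presheaf.stalk y) (StalkOver M U y hy) :=
    IsScalarTower.of_algebraMap_smul fun r m => rfl
  haveI := isLocalizedModule_germL M hU y hy
  have h := Submodule.localized'_span (X.presheaf.stalk y)
    (hU.primeIdealOf ⟨y, hy⟩).asIdeal.primeCompl (germL M U y hy) (Set.range s)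
  rw [hs, Submodule.localized'_top, ← Set.range_comp] at h
  exact h.symm

theorem germ_linearCombination {U : X.Opens} {n : ℕ} (s : Fin n → Γ(M, U))
    (k : Fin n → Γ(X, U)) (y : X) (hy : y ∈ U) :
    M.presheaf.germ U y hy (Fintype.linearCombination Γ(X, U) s k) =
      Fintype.linearCombination (X.presheaf.stalk y) (fun i => M.presheaf.germ U y hy (s i))
        (fun i => X.presheaf.germ U y hy (k i)) := by
  rw [Fintype.linearCombination_apply, Fintype.linearCombination_apply, map_sum]
  exact Finset.sum_congr rfl fun i _ => germ_smul M U y hy (k i) (s i)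

/-- **B1**: spanning sections are a basis if the stalks are free of the right rank. -/
theorem nonempty_equiv_of_free_stalks [M.IsQuasicoherent] {U : X.Opens} (hU : IsAffineOpen U)
    {n : ℕ} (s : Fin n → Γ(M, U)) (hs : Submodule.span Γ(X, U) (Set.range s) = ⊤)
    (hfree : ∀ y ∈ U, Module.Free (X.presheaf.stalk y) (M.presheaf.stalk y) ∧
      Module.finrank (X.presheaf.stalk y) (M.presheaf.stalk y) = n) :
    Nonempty (Γ(M, U) ≃ₗ[Γ(X, U)] (Fin n → Γ(X, U))) := by
  have hsurj : Function.Surjective (Fintype.linearCombination Γ(X, U) s) := by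
    rw [← LinearMap.range_eq_top, Fintype.range_linearCombination, hs]
  have hinj : Function.Injective (Fintype.linearCombination Γ(X, U) s) := by
    rw [injective_iff_map_eq_zero]
    intro k hk
    funext i
    refine TopCat.Presheaf.section_ext X.sheaf U (k i) 0 (fun y hy => ?_)
    obtain ⟨hfr, hrk⟩ := hfree y hy
    haveI : Module.Finite (X.presheaf.stalk y) (M.presheaf.stalk y) := by
      classical
      exact Module.Finite.of_fg_top ⟨Finset.univ.image fun i => M.presheaf.germ U y hy (s i), by
        rw [Finset.coe_image, Finset.coe_univ, Set.image_univ]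
        exact span_germ_eq_top M hU s hs y hy⟩
    let b := Module.finBasisOfFinrankEq (X.presheaf.stalk y) (M.presheaf.stalk y) hrk
    have hψsurj : Function.Surjective (Fintype.linearCombination (X.presheaf.stalk y)
        (fun i => M.presheaf.germ U y hy (s i))) := by
      rw [← LinearMap.range_eq_top, Fintype.range_linearCombination]
      exact span_germ_eq_top M hU s hs y hy
    have hψinj := OrzechProperty.injective_of_surjective_of_injective
      b.equivFun.symm.toLinearMap
      (Fintype.linearCombination (X.presheaf.stalk y) (fun i => M.presheaf.germ U y hy (s i)))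
      b.equivFun.symm.injective hψsurj
    have h0 : Fintype.linearCombination (X.presheaf.stalk y)
        (fun i => M.presheaf.germ U y hy (s i)) (fun i => X.presheaf.germ U y hy (k i)) = 0 := by
      rw [← germ_linearCombination, hk, map_zero]
    have h1 := (injective_iff_map_eq_zero _).1 hψinj _ h0
    have h2 := congrFun h1 i
    rw [map_zero]
    exact h2
  exact ⟨(LinearEquiv.ofBijective _ ⟨hinj, hsurj⟩).symm⟩

/-- **B2**: on a reduced scheme, spanning sections are a basis if the fibre rank is constant. -/
theorem nonempty_equiv_of_fibRank [IsReduced X] [M.IsQuasicoherent] {U : X.Opens}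
    (hU : IsAffineOpen U) {n : ℕ} (s : Fin n → Γ(M, U))
    (hs : Submodule.span Γ(X, U) (Set.range s) = ⊤) (hrk : ∀ y ∈ U, fibRank M y = n) :
    Nonempty (Γ(M, U) ≃ₗ[Γ(X, U)] (Fin n → Γ(X, U))) := by
  have hsurj : Function.Surjective (Fintype.linearCombination Γ(X, U) s) := by
    rw [← LinearMap.range_eq_top, Fintype.range_linearCombination, hs]
  have hinj : Function.Injective (Fintype.linearCombination Γ(X, U) s) := by
    rw [injective_iff_map_eq_zero]
    intro k hk
    funext i
    refine (basicOpen_eq_bot_iff (k i)).1 (eq_bot_iff.2 fun y hyb => ?_)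
    have hy : y ∈ U := X.basicOpen_le _ hyb
    have hunit : IsUnit (X.presheaf.germ U y hy (k i)) := (X.mem_basicOpen (k i) y hy).1 hyb
    exfalso
    haveI : Module.Finite (X.presheaf.stalk y) (M.presheaf.stalk y) := by
      classical
      exact Module.Finite.of_fg_top ⟨Finset.univ.image fun i => M.presheaf.germ U y hy (s i), by
        rw [Finset.coe_image, Finset.coe_univ, Set.image_univ]
        exact span_germ_eq_top M hU s hs y hy⟩
    let v : Fin n → (IsLocalRing.ResidueField (X.presheaf.stalk y)) ⊗[X.presheaf.stalk y]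
        (M.presheaf.stalk y) := fun i => 1 ⊗ₜ M.presheaf.germ U y hy (s i)
    have halg : Function.Surjective (algebraMap (X.presheaf.stalk y)
        (IsLocalRing.ResidueField (X.presheaf.stalk y))) := Ideal.Quotient.mk_surjective
    have hspanL : Submodule.span (X.presheaf.stalk y) (Set.range v) = ⊤ := by
      have : Set.range v = (TensorProduct.mk (X.presheaf.stalk y)
          (IsLocalRing.ResidueField (X.presheaf.stalk y)) (M.presheaf.stalk y) 1) ''
          (Set.range fun i => M.presheaf.germ U y hy (s i)) := by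
        rw [← Set.range_comp]; rfl
      rw [this, ← Submodule.map_span, span_germ_eq_top M hU s hs y hy, Submodule.map_top,
        LinearMap.range_eq_top]
      exact TensorProduct.mk_surjective _ _ _ halg
    have hspanκ : Submodule.span (IsLocalRing.ResidueField (X.presheaf.stalk y)) (Set.range v)
        = ⊤ := by
      rw [← Submodule.restrictScalars_eq_top_iff (X.presheaf.stalk y),
        Submodule.restrictScalars_span _ _ halg, hspanL]
    have hψsurj : Function.Surjective (Fintype.linearCombination
        (IsLocalRing.ResidueField (X.presheaf.stalk y)) v) := by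
      rw [← LinearMap.range_eq_top, Fintype.range_linearCombination, hspanκ]
    have hdim : Module.finrank (IsLocalRing.ResidueField (X.presheaf.stalk y))
        (Fin n → IsLocalRing.ResidueField (X.presheaf.stalk y)) =
        Module.finrank (IsLocalRing.ResidueField (X.presheaf.stalk y))
          ((IsLocalRing.ResidueField (X.presheaf.stalk y)) ⊗[X.presheaf.stalk y]
            (M.presheaf.stalk y)) := by
      rw [Module.finrank_fin_fun]
      exact (hrk y hy).symm
    have hψinj := (LinearMap.injective_iff_surjective_of_finrank_eq_finrank hdim).2 hψsurj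
    have h0 : Fintype.linearCombination (IsLocalRing.ResidueField (X.presheaf.stalk y)) v
        (fun i => IsLocalRing.residue (X.presheaf.stalk y) (X.presheaf.germ U y hy (k i))) = 0 := by
      have h1 : (1 : IsLocalRing.ResidueField (X.presheaf.stalk y)) ⊗ₜ[X.presheaf.stalk y]
          (M.presheaf.germ U y hy (Fintype.linearCombination Γ(X, U) s k)) = 0 := by
        rw [hk, map_zero, TensorProduct.tmul_zero]
      rw [germ_linearCombination, Fintype.linearCombination_apply, TensorProduct.tmul_sum] at h1
      rw [Fintype.linearCombination_apply, ← h1]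
      refine Finset.sum_congr rfl fun j _ => ?_
      rw [TensorProduct.tmul_smul]
      exact algebraMap_smul (IsLocalRing.ResidueField (X.presheaf.stalk y))
        (X.presheaf.germ U y hy (k j)) (v j)
    have h1 := (injective_iff_map_eq_zero _).1 hψinj _ h0
    have h2 : IsLocalRing.residue (X.presheaf.stalk y) (X.presheaf.germ U y hy (k i)) = 0 :=
      congrFun h1 i
    rw [IsLocalRing.residue_eq_zero_iff] at h2
    exact (IsLocalRing.mem_maximalIdeal _).1 h2 hunit
  exact ⟨(LinearEquiv.ofBijective _ ⟨hinj, hsurj⟩).symm⟩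

theorem fibRank_eq_finrank_of_free (y : X)
    [Module.Free (X.presheaf.stalk y) (M.presheaf.stalk y)] :
    fibRank M y = Module.finrank (X.presheaf.stalk y) (M.presheaf.stalk y) :=
  Module.finrank_baseChange

/-- If the sections over an affine open are free of rank `d`, so are the stalks. -/
theorem stalk_free_of_sections_free [M.IsQuasicoherent] {U : X.Opens} (hU : IsAffineOpen U)
    {d : ℕ} (e : Γ(M, U) ≃ₗ[Γ(X, U)] (Fin d → Γ(X, U))) (y : X) (hy : y ∈ U) :
    Module.Free (X.presheaf.stalk y) (M.presheaf.stalk y) ∧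
      Module.finrank (X.presheaf.stalk y) (M.presheaf.stalk y) = d := by
  letI := X.presheaf.algebra_section_stalk ⟨y, hy⟩
  haveI := hU.isLocalization_stalk ⟨y, hy⟩
  haveI : IsScalarTower Γ(X, U) (X.presheaf.stalk y) (StalkOver M U y hy) :=
    IsScalarTower.of_algebraMap_smul fun r m => rfl
  haveI := isLocalizedModule_germL M hU y hy
  haveI : Module.Free Γ(X, U) Γ(M, U) := Module.Free.of_equiv e.symm
  haveI : Nonempty U := ⟨⟨y, hy⟩⟩
  haveI : Nontrivial Γ(X, U) := X.component_nontrivial U
  have h1 : Module.Free (X.presheaf.stalk y) (StalkOver M U y hy) :=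
    Module.free_of_isLocalizedModule (hU.primeIdealOf ⟨y, hy⟩).asIdeal.primeCompl
      (germL M U y hy)
  have h2 : Module.finrank (X.presheaf.stalk y) (StalkOver M U y hy) =
      Module.finrank Γ(X, U) Γ(M, U) :=
    Module.finrank_of_isLocalizedModule_of_free (X.presheaf.stalk y)
      (hU.primeIdealOf ⟨y, hy⟩).asIdeal.primeCompl (germL M U y hy)
  have h3 : Module.finrank Γ(X, U) Γ(M, U) = d := by
    rw [e.finrank_eq, Module.finrank_fin_fun]
  exact ⟨h1, h2.trans h3⟩

theorem fibRank_eq_of_sections_free [M.IsQuasicoherent] {U : X.Opens} (hU : IsAffineOpen U)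
    {d : ℕ} (e : Γ(M, U) ≃ₗ[Γ(X, U)] (Fin d → Γ(X, U))) (y : X) (hy : y ∈ U) :
    fibRank M y = d := by
  obtain ⟨h1, h2⟩ := stalk_free_of_sections_free M hU e y hy
  rw [fibRank_eq_finrank_of_free, h2]

open Groth.Agent.Lib.Helper2.QCAlgMod Groth.Agent.Lib.Helper2.FreeModAff in
/-- The fibre rank of a finite locally free module is locally constant. -/
theorem isLocallyConstant_fibRank_of_isFinLocFree [M.IsQuasicoherent]
    (h : FlatMod.IsFinLocFree M) : IsLocallyConstant (fibRank M) := by
  rw [IsLocallyConstant.iff_exists_open]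
  intro x
  obtain ⟨V, d, hxV, hV⟩ := exists_equiv_of_isFinLocFree M h x
  have key : ∀ z ∈ V, fibRank M z = d := by
    intro z hz
    obtain ⟨_, ⟨U, hU : IsAffineOpen U, rfl⟩, hzU, hUV⟩ :=
      (X.isBasis_affineOpens).exists_subset_of_mem_open hz V.2
    obtain ⟨e⟩ := hV U hUV hU
    exact fibRank_eq_of_sections_free M hU e z hzU
  exact ⟨V, V.2, hxV, fun y hy => by rw [key y hy, key x hxV]⟩

open Groth.Agent.Lib.Helper2.FreeModAff in
/-- finite type + free stalks + locally constant fibre rank ⇒ finite locally free. -/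
theorem isFinLocFree_of_free_stalks [M.IsQuasicoherent]
    (hM : SheafOfModules.IsFiniteType (R := X.ringCatSheaf) M)
    (hfree : ∀ x : X, Module.Free (X.presheaf.stalk x) (M.presheaf.stalk x))
    (hlc : IsLocallyConstant (fibRank M)) : FlatMod.IsFinLocFree M := by
  intro x
  obtain ⟨W, hWo, hxW, hW⟩ := (IsLocallyConstant.iff_exists_open _).1 hlc x
  obtain ⟨U, hU, hxU, hUW, s, hs⟩ := exists_generators_near M hM x ⟨W, hWo⟩ hxW
  have := nonempty_equiv_of_free_stalks M hU s hs (fun y hy => ⟨hfree y, by
    haveI := hfree y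
    rw [← fibRank_eq_finrank_of_free]; exact hW y (hUW hy)⟩)
  exact ⟨U, fibRank M x, hxU, (nonempty_iso_freeMod_iff M hU _).2 this⟩

open Groth.Agent.Lib.Helper2.FreeModAff in
/-- reduced + finite type + locally constant fibre rank ⇒ finite locally free. -/
theorem isFinLocFree_of_isReduced [IsReduced X] [M.IsQuasicoherent]
    (hM : SheafOfModules.IsFiniteType (R := X.ringCatSheaf) M)
    (hlc : IsLocallyConstant (fibRank M)) : FlatMod.IsFinLocFree M := by
  intro x
  obtain ⟨W, hWo, hxW, hW⟩ := (IsLocallyConstant.iff_exists_open _).1 hlc x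
  obtain ⟨U, hU, hxU, hUW, s, hs⟩ := exists_generators_near M hM x ⟨W, hWo⟩ hxW
  have := nonempty_equiv_of_fibRank M hU s hs (fun y hy => hW y (hUW hy))
  exact ⟨U, fibRank M x, hxU, (nonempty_iso_freeMod_iff M hU _).2 this⟩

end Groth.Agent.Lib.Helper2.FibRank
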