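import Groth.Agent.Lib.Helper2.KerSec
import Mathlib.CategoryTheory.Abelian.Basic

set_option autoImplicit false
universe u

open AlgebraicGeometry CategoryTheory Limits Opposite TopologicalSpace

namespace Groth.Agent.Lib.Helper2.KerSec

open Scheme.Modules Groth.Agent.Lib.Lead.QCohAff Groth.Agent.Lib.Lead

variable {X : Scheme.{u}} (F G : X.Modules)

theorem biprod_total_apply (U : X.Opens) (s : Γ(F ⊞ G, U)) :
    (biprod.inl : F ⟶ F ⊞ G).app U ((biprod.fst : F ⊞ G ⟶ F).app U s) +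
      (biprod.inr : G ⟶ F ⊞ G).app U ((biprod.snd : F ⊞ G ⟶ G).app U s) = s := by
  have h : (biprod.fst ≫ biprod.inl + biprod.snd ≫ biprod.inr : F ⊞ G ⟶ F ⊞ G).app U =
      (𝟙 _ : F ⊞ G ⟶ F ⊞ G).app U := by rw [biprod.total]
  rw [Hom.add_app, Hom.comp_app, Hom.comp_app, Hom.id_app] at h
  exact congr($h s)

theorem locOn_biprod [F.IsQuasicoherent] [G.IsQuasicoherent] (U : X.Opens) (hU : IsAffineOpen U) :
    LocOn (F ⊞ G) U := by
  obtain ⟨hF1, hF2⟩ := LocOn.of_isQuasicoherent F hU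
  obtain ⟨hG1, hG2⟩ := LocOn.of_isQuasicoherent G hU
  constructor
  · intro f s hs
    have h1 : F.presheaf.map (homOfLE (X.basicOpen_le f)).op ((biprod.fst : F ⊞ G ⟶ F).app U s) = 0 := by
      rw [← naturality_apply, hs, map_zero]
    have h2 : G.presheaf.map (homOfLE (X.basicOpen_le f)).op ((biprod.snd : F ⊞ G ⟶ G).app U s) = 0 := by
      rw [← naturality_apply, hs, map_zero]
    obtain ⟨n, hn⟩ := hF1 f _ h1
    obtain ⟨m, hm⟩ := hG1 f _ h2
    refine ⟨n + m, ?_⟩
    have e1 : f ^ (n + m) • (biprod.fst : F ⊞ G ⟶ F).app U s = 0 := by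
      rw [pow_add, mul_comm, mul_smul, hn, smul_zero]
    have e2 : f ^ (n + m) • (biprod.snd : F ⊞ G ⟶ G).app U s = 0 := by
      rw [pow_add, mul_smul, hm, smul_zero]
    calc f ^ (n + m) • s
        = f ^ (n + m) • ((biprod.inl : F ⟶ F ⊞ G).app U ((biprod.fst : F ⊞ G ⟶ F).app U s) +
          (biprod.inr : G ⟶ F ⊞ G).app U ((biprod.snd : F ⊞ G ⟶ G).app U s)) := by
          rw [biprod_total_apply]
      _ = (biprod.inl : F ⟶ F ⊞ G).app U (f ^ (n + m) • (biprod.fst : F ⊞ G ⟶ F).app U s) +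
          (biprod.inr : G ⟶ F ⊞ G).app U (f ^ (n + m) • (biprod.snd : F ⊞ G ⟶ G).app U s) := by
          rw [smul_add, Hom.app_smul, Hom.app_smul]
      _ = 0 := by rw [e1, e2, map_zero, map_zero, add_zero]
  · intro f t
    obtain ⟨n, a, ha⟩ := hF2 f ((biprod.fst : F ⊞ G ⟶ F).app _ t)
    obtain ⟨m, b, hb⟩ := hG2 f ((biprod.snd : F ⊞ G ⟶ G).app _ t)
    refine ⟨n + m, (biprod.inl : F ⟶ F ⊞ G).app U (f ^ m • a) + (biprod.inr : G ⟶ F ⊞ G).app U (f ^ n • b), ?_⟩
    rw [map_add, ← naturality_apply, ← naturality_apply, Scheme.Modules.map_smul,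
      Scheme.Modules.map_smul, ha, hb, ← mul_smul, ← mul_smul, map_pow, map_pow, ← pow_add, ← pow_add,
      Hom.app_smul, Hom.app_smul, add_comm m n, ← smul_add, biprod_total_apply]

theorem isQuasicoherent_biprod [F.IsQuasicoherent] [G.IsQuasicoherent] :
    (F ⊞ G).IsQuasicoherent :=
  (QCohCrit.isQuasicoherent_iff_locOn _).2 (fun U hU => locOn_biprod F G U hU)

theorem isQuasicoherent_of_iso {F G : X.Modules} (e : F ≅ G) [hF : F.IsQuasicoherent] :
    G.IsQuasicoherent :=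
  (SheafOfModules.isQuasicoherent X.ringCatSheaf).prop_of_iso e hF

theorem isQuasicoherent_pullback {A B C : X.Modules} (α : A ⟶ C) (β : B ⟶ C)
    [A.IsQuasicoherent] [B.IsQuasicoherent] [C.IsQuasicoherent] :
    (pullback α β).IsQuasicoherent := by
  have hk : (kernel (biprod.desc α (-β))).IsQuasicoherent :=
    @isQuasicoherent_kernel _ _ _ (biprod.desc α (-β)) (isQuasicoherent_biprod A B) inferInstance
  let e : pullback α β ≅ kernel (biprod.desc α (-β)) :=
    IsLimit.conePointUniqueUpToIso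
      (Abelian.PullbackToBiproductIsKernel.isLimitPullbackToBiproduct α β)
      (limit.isLimit _)
  exact isQuasicoherent_of_iso e.symm

end Groth.Agent.Lib.Helper2.KerSec
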