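import Groth.Agent.Lib.Helper2.FreeModAff
import Groth.Agent.Lib.Helper2.QCohLim
import Mathlib.RingTheory.Spectrum.Prime.FreeLocus
import Groth.Agent.Lib.Lead.QCohAff3

/-!
# Finite local freeness of quasi-coherent modules from algebra on affine opens (helper2)
-/

set_option autoImplicit false
set_option linter.style.haveILetI false
universe u

open AlgebraicGeometry CategoryTheory Opposite TopologicalSpace Limits

namespace Groth.Agent.Lib.Helper2.LocFreeAff

open Scheme.Modules Groth.Agent.Lib.Helper2.FinTypeAff Groth.Agent.Lib.Helper2.FreeModAff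
open Groth.Agent.Lib.Helper21.RelFPSch Groth.Agent.Lib.Lead.QCohAff Groth.Agent.Lib.Lead
open Groth.Agent.Lib.Helper2.KerSec

section Alg

attribute [local instance] RingHomInvPair.of_ringEquiv in
/-- the canonical semilinear equivalence between two models of the localization away from `f` -/
noncomputable def awayEquiv {R M : Type*} [CommRing R] [AddCommGroup M] [Module R M] (f : R)
    (Rf Mf : Type*) [CommRing Rf] [Algebra R Rf] [IsLocalization.Away f Rf]
    [AddCommGroup Mf] [Module R Mf] (l : M →ₗ[R] Mf) [IsLocalizedModule (Submonoid.powers f) l]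
    [Module Rf Mf] [IsScalarTower R Rf Mf] :
    LocalizedModule.Away f M ≃ₛₗ[((IsLocalization.algEquiv (Submonoid.powers f)
      (Localization.Away f) Rf).toRingEquiv : Localization.Away f →+* Rf)] Mf := by
  set e := (IsLocalization.algEquiv (Submonoid.powers f) (Localization.Away f) Rf).toRingEquiv
  refine { __ := IsLocalizedModule.iso (Submonoid.powers f) l, map_smul' := ?_ }
  intro r x
  obtain ⟨r, s, rfl⟩ := IsLocalization.exists_mk'_eq (Submonoid.powers f) r
  apply ((Module.End.isUnit_iff _).mp (IsLocalizedModule.map_units l s)).1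
  simp only [e, RingEquiv.coe_toRingHom, AlgEquiv.coe_ringEquiv,
    IsLocalization.algEquiv_mk', LinearEquiv.coe_coe, Module.algebraMap_end_apply,
    AddHom.toFun_eq_coe, LinearMap.coe_toAddHom]
  rw [← LinearEquiv.map_smul, ← smul_assoc]
  have h1 : (s : R) • IsLocalization.mk' (Localization.Away f) r s = algebraMap R _ r := by
    rw [Algebra.smul_def, IsLocalization.mk'_spec']
  have h2 : (s : R) • IsLocalization.mk' Rf r s = algebraMap R _ r := by
    rw [Algebra.smul_def, IsLocalization.mk'_spec']
  rw [h1, ← smul_assoc, h2, algebraMap_smul, algebraMap_smul, LinearEquiv.map_smul]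

attribute [local instance] RingHomInvPair.of_ringEquiv in
/-- freeness of a localization away from `f` does not depend on the model -/
theorem free_away_iff {R M : Type*} [CommRing R] [AddCommGroup M] [Module R M] (f : R)
    (Rf Mf : Type*) [CommRing Rf] [Algebra R Rf] [IsLocalization.Away f Rf]
    [AddCommGroup Mf] [Module R Mf] (l : M →ₗ[R] Mf) [IsLocalizedModule (Submonoid.powers f) l]
    [Module Rf Mf] [IsScalarTower R Rf Mf] :
    Module.Free (Localization.Away f) (LocalizedModule.Away f M) ↔ Module.Free Rf Mf :=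
  Module.Free.iff_of_equiv (awayEquiv f Rf Mf l)

attribute [local instance] RingHomInvPair.of_ringEquiv in
/-- the rank of a localization away from `f` does not depend on the model -/
theorem finrank_away_eq {R M : Type*} [CommRing R] [AddCommGroup M] [Module R M] (f : R)
    (Rf Mf : Type*) [CommRing Rf] [Algebra R Rf] [IsLocalization.Away f Rf]
    [AddCommGroup Mf] [Module R Mf] (l : M →ₗ[R] Mf) [IsLocalizedModule (Submonoid.powers f) l]
    [Module Rf Mf] [IsScalarTower R Rf Mf] :
    Module.finrank (Localization.Away f) (LocalizedModule.Away f M) = Module.finrank Rf Mf := by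
  have h := lift_rank_eq_of_equiv_equiv
    ((IsLocalization.algEquiv (Submonoid.powers f) (Localization.Away f) Rf).toRingEquiv :
      Localization.Away f → Rf) (awayEquiv f Rf Mf l).toAddEquiv
    (RingEquiv.bijective _) (fun r m => (awayEquiv f Rf Mf l).map_smulₛₗ r m)
  unfold Module.finrank
  rw [← Cardinal.toNat_lift, h, Cardinal.toNat_lift]

end Alg

variable {X : Scheme.{u}}

/-- A retract of a quasi-coherent module is quasi-coherent. -/
theorem isQuasicoherent_of_retract {M F : X.Modules} [F.IsQuasicoherent] (i : M ⟶ F) (r : F ⟶ M)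
    (h : i ≫ r = 𝟙 M) : M.IsQuasicoherent := by
  have hri : ∀ (U : X.Opens) (s : Γ(M, U)), r.app U (i.app U s) = s := fun U s => by
    have := congr($(congrArg (fun ψ : M ⟶ M => ψ.app U) h) s)
    simpa using this
  refine (QCohCrit.isQuasicoherent_iff_locOn _).2 (fun U hU => ?_)
  obtain ⟨hF1, hF2⟩ := LocOn.of_isQuasicoherent F hU
  constructor
  · intro f s hs
    have h1 : F.presheaf.map (homOfLE (X.basicOpen_le f)).op (i.app U s) = 0 := by
      rw [← naturality_apply, hs, map_zero]
    obtain ⟨n, hn⟩ := hF1 f _ h1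
    refine ⟨n, ?_⟩
    rw [← hri U (f ^ n • s), Hom.app_smul, hn, map_zero]
  · intro f t
    obtain ⟨n, s, hs⟩ := hF2 f (i.app _ t)
    refine ⟨n, r.app U s, ?_⟩
    rw [← naturality_apply, hs, Hom.app_smul, hri]


/-- **Lemma A**: if the module of sections of a quasi-coherent module `F` over an affine open `U`
is finitely presented and free at the prime of `x ∈ U`, then `F` is free of that rank on a basic
open neighbourhood of `x`. -/
theorem exists_basicOpen_iso_freeMod (F : X.Modules) [F.IsQuasicoherent] {U : X.Opens}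
    (hU : IsAffineOpen U) [Module.FinitePresentation Γ(X, U) Γ(F, U)] (x : X) (hx : x ∈ U)
    (hfree : Module.Free (Localization.AtPrime (hU.primeIdealOf ⟨x, hx⟩).asIdeal)
      (LocalizedModule (hU.primeIdealOf ⟨x, hx⟩).asIdeal.primeCompl Γ(F, U))) :
    ∃ r : Γ(X, U), x ∈ X.basicOpen r ∧
      Nonempty (F.restrict (X.basicOpen r).ι ≅ FlatMod.freeMod (X.basicOpen r)
        (Module.finrank (Localization.AtPrime (hU.primeIdealOf ⟨x, hx⟩).asIdeal)
          (LocalizedModule (hU.primeIdealOf ⟨x, hx⟩).asIdeal.primeCompl Γ(F, U)))) := by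
  set p := (hU.primeIdealOf ⟨x, hx⟩).asIdeal with hp
  obtain ⟨r, hr, hfree_r, hrank⟩ := Module.FinitePresentation.exists_free_localizedModule_powers
    p.primeCompl (LocalizedModule.mkLinearMap p.primeCompl Γ(F, U)) (Localization.AtPrime p)
  have hxr : x ∈ X.basicOpen r := (QCohAff.mem_basicOpen_iff_notMem_primeIdealOf hU x hx r).2 hr
  refine ⟨r, hxr, ?_⟩
  letI : Module Γ(X, U) Γ(F, X.basicOpen r) :=
    Module.compHom _ (resRing X (X.basicOpen_le r))
  haveI : IsScalarTower Γ(X, U) Γ(X, X.basicOpen r) Γ(F, X.basicOpen r) :=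
    IsScalarTower.of_algebraMap_smul fun _ _ => rfl
  haveI := hU.isLocalization_basicOpen r
  haveI := Groth.Agent.Lib.Helper21.RelFPSch.isLocalizedModule_resL F hU r
  haveI : Nonempty (X.basicOpen r) := ⟨⟨x, hxr⟩⟩
  haveI : Nontrivial Γ(X, X.basicOpen r) := X.component_nontrivial (X.basicOpen r)
  have hfree' : Module.Free Γ(X, X.basicOpen r) Γ(F, X.basicOpen r) :=
    (free_away_iff r Γ(X, X.basicOpen r) Γ(F, X.basicOpen r) (Groth.Agent.Lib.Helper21.RelFPSch.resL F (X.basicOpen_le r))).1 hfree_r
  have hrank' : Module.finrank Γ(X, X.basicOpen r) Γ(F, X.basicOpen r) =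
      Module.finrank (Localization.AtPrime p) (LocalizedModule p.primeCompl Γ(F, U)) := by
    rw [← finrank_away_eq r Γ(X, X.basicOpen r) Γ(F, X.basicOpen r) (Groth.Agent.Lib.Helper21.RelFPSch.resL F (X.basicOpen_le r)),
      hrank]
  have hfin : Module.Finite Γ(X, X.basicOpen r) Γ(F, X.basicOpen r) :=
    Module.Finite.of_isLocalizedModule (Submonoid.powers r) (Rₚ := Γ(X, X.basicOpen r))
      (Groth.Agent.Lib.Helper21.RelFPSch.resL F (X.basicOpen_le r))
  rw [← hrank']
  exact (nonempty_iso_freeMod_iff F (hU.basicOpen r) _).2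
    ⟨(Module.finBasis Γ(X, X.basicOpen r) Γ(F, X.basicOpen r)).equivFun⟩


/-- A quasi-coherent module whose modules of sections over the members of an affine open cover are
finite projective is finite locally free. -/
theorem isFinLocFree_of_projective (F : X.Modules) [F.IsQuasicoherent]
    (h : ∀ x : X, ∃ U : X.Opens, IsAffineOpen U ∧ x ∈ U ∧ Module.Finite Γ(X, U) Γ(F, U) ∧
      Module.Projective Γ(X, U) Γ(F, U)) :
    FlatMod.IsFinLocFree F := by
  intro x
  obtain ⟨U, hU, hxU, hfin, hproj⟩ := h x
  haveI : Module.FinitePresentation Γ(X, U) Γ(F, U) := Module.finitePresentation_of_projective _ _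
  have hfree : Module.Free (Localization.AtPrime (hU.primeIdealOf ⟨x, hxU⟩).asIdeal)
      (LocalizedModule (hU.primeIdealOf ⟨x, hxU⟩).asIdeal.primeCompl Γ(F, U)) :=
    Module.free_of_flat_of_isLocalRing
  obtain ⟨r, hxr, hiso⟩ := exists_basicOpen_iso_freeMod F hU x hxU hfree
  exact ⟨X.basicOpen r, _, hxr, hiso⟩

/-- Rank version. -/
theorem isFinLocFreeOfRank_of_projective (F : X.Modules) [F.IsQuasicoherent] (d : ℕ)
    (h : ∀ x : X, ∃ (U : X.Opens) (hU : IsAffineOpen U) (hx : x ∈ U),
      Module.Finite Γ(X, U) Γ(F, U) ∧ Module.Projective Γ(X, U) Γ(F, U) ∧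
      Module.rankAtStalk Γ(F, U) (hU.primeIdealOf ⟨x, hx⟩) = d) :
    FlatMod.IsFinLocFreeOfRank d F := by
  intro x
  obtain ⟨U, hU, hxU, hfin, hproj, hrank⟩ := h x
  haveI : Module.FinitePresentation Γ(X, U) Γ(F, U) := Module.finitePresentation_of_projective _ _
  have hfree : Module.Free (Localization.AtPrime (hU.primeIdealOf ⟨x, hxU⟩).asIdeal)
      (LocalizedModule (hU.primeIdealOf ⟨x, hxU⟩).asIdeal.primeCompl Γ(F, U)) :=
    Module.free_of_flat_of_isLocalRing
  obtain ⟨r, hxr, hiso⟩ := exists_basicOpen_iso_freeMod F hU x hxU hfree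
  refine ⟨X.basicOpen r, hxr, ?_⟩
  have : Module.finrank (Localization.AtPrime (hU.primeIdealOf ⟨x, hxU⟩).asIdeal)
      (LocalizedModule (hU.primeIdealOf ⟨x, hxU⟩).asIdeal.primeCompl Γ(F, U)) = d := hrank
  rw [this] at hiso
  exact hiso


/-- Free modules on any scheme are quasi-coherent. -/
theorem free_isQuasicoherent' (X : Scheme.{u}) (I : Type u) :
    (SheafOfModules.free.{u} (R := X.ringCatSheaf) I).IsQuasicoherent := by
  apply QCohLocal.isQuasicoherent_of_forall_affine
  intro x
  obtain ⟨_, ⟨U, hU : IsAffineOpen U, rfl⟩, hxU, -⟩ :=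
    (X.isBasis_affineOpens).exists_subset_of_mem_open (Set.mem_univ x) isOpen_univ
  refine ⟨U, hU, hxU, ?_⟩
  haveI := free_isQuasicoherent (R := Γ(X, U)) I
  exact isQuasicoherent_of_iso (restrictFreeIso hU.fromSpec I).symm

theorem freeMod_isQuasicoherent (X : Scheme.{u}) (n : ℕ) :
    (FlatMod.freeMod X n).IsQuasicoherent := by
  haveI := free_isQuasicoherent' X (Idx.{u} n)
  exact isQuasicoherent_of_iso (freeModIso X n).symm

/-- sections of a free module over an affine open -/
theorem nonempty_sections_freeMod_equiv (X : Scheme.{u}) (n : ℕ) {U : X.Opens}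
    (hU : IsAffineOpen U) :
    Nonempty (Γ(FlatMod.freeMod X n, U) ≃ₗ[Γ(X, U)] (Fin n → Γ(X, U))) := by
  haveI := freeMod_isQuasicoherent X n
  refine (nonempty_iso_freeMod_iff (FlatMod.freeMod X n) hU n).1 ?_
  rw [nonempty_iso_freeMod_iff_free]
  exact nonempty_iso_free_restrict U.ι _ _ ⟨freeModIso X n⟩

end Groth.Agent.Lib.Helper2.LocFreeAff
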