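import Groth.Agent.Lib.Helper2.FinLocFreeAff
import Groth.Agent.Lib.Helper2.FibRank
import Groth.Agent.Lib.Helper2.LocFreeAff
import Mathlib.RingTheory.QuasiFinite.Basic
import Mathlib.RingTheory.Flat.LocallyFree
import Mathlib.RingTheory.LocalRing.Module

/-!
# Ranks of sections of finite locally free modules; freeness over preimages under finite
morphisms (helper2)
-/

set_option autoImplicit false
set_option linter.style.haveILetI false
universe u

open AlgebraicGeometry CategoryTheory Opposite TopologicalSpace Limits TensorProduct Module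

namespace Groth.Agent.Lib.Helper2.RankSections

section Alg

/-- rank in terms of the quotient by a maximal ideal -/
theorem finrank_quot_tensor {R M : Type u} [CommRing R] [AddCommGroup M] [Module R M]
    [Module.Finite R M] [Module.Flat R M] (P : MaximalSpectrum R) :
    finrank (R ⧸ P.1) ((R ⧸ P.1) ⊗[R] M) = rankAtStalk M ⟨P.1, P.2.isPrime⟩ := by
  letI := Ideal.Quotient.field P.1
  have h1 := Module.rankAtStalk_baseChange (R := R) (M := M) (S := R ⧸ P.1)
    (p := ⟨⊥, Ideal.isPrime_bot⟩)
  rw [Module.rankAtStalk_eq_finrank_of_free] at h1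
  simp only [Pi.natCast_def, Nat.cast_id] at h1
  rw [h1]
  congr 1
  ext x
  simp [Ideal.Quotient.eq_zero_iff_mem]

/-- a ring finite over a local ring is semilocal -/
theorem finite_maximalSpectrum_of_finite (R S : Type u) [CommRing R] [CommRing S] [Algebra R S]
    [IsLocalRing R] [Module.Finite R S] : Finite (MaximalSpectrum S) := by
  have h := Algebra.QuasiFinite.finite_comap_preimage_singleton (R := R) (S := S)
    (IsLocalRing.closedPoint R)
  let φ : MaximalSpectrum S → ((PrimeSpectrum.comap (algebraMap R S)) ⁻¹'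
      {IsLocalRing.closedPoint R}) := fun P => ⟨P.toPrimeSpectrum, by
    have : (P.1.comap (algebraMap R S)).IsMaximal :=
      Ideal.isMaximal_comap_of_isIntegral_of_isMaximal (R := R) P.1
    apply PrimeSpectrum.ext
    exact IsLocalRing.eq_maximalIdeal this⟩
  have hφ : Function.Injective φ := by
    intro P Q hPQ
    have := congrArg (fun x => x.1.asIdeal) hPQ
    exact MaximalSpectrum.ext this
  haveI := h.to_subtype
  exact Finite.of_injective φ hφ

/-- **Semilocal freeness, spread out**: for a finite `A`-algebra `B`, a finite projective `B`-module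
of constant rank `r` becomes free of rank `r` over `B_a` for some `a ∈ A` outside a given prime. -/
theorem exists_basis_away_of_finite {A B M : Type u} [CommRing A] [CommRing B] [Algebra A B]
    [Module.Finite A B] [AddCommGroup M] [Module B M] [Module.FinitePresentation B M]
    [Module.Flat B M] (r : ℕ) (hr : ∀ q : PrimeSpectrum B, rankAtStalk M q = r)
    (p : Ideal A) [p.IsPrime] :
    ∃ a : A, a ∉ p ∧ Nonempty (Basis (Fin r) (Localization.Away (algebraMap A B a))
      (LocalizedModule.Away (algebraMap A B a) M)) := by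
  set S' : Submonoid B := Algebra.algebraMapSubmonoid B p.primeCompl with hS'
  haveI : Module.Finite (Localization.AtPrime p) (Localization S') :=
    Module.Finite.of_isLocalization A B p.primeCompl
  haveI : Finite (MaximalSpectrum (Localization S')) :=
    finite_maximalSpectrum_of_finite (Localization.AtPrime p) (Localization S')
  have rk : ∀ P : MaximalSpectrum (Localization S'),
      finrank ((Localization S') ⧸ P.1)
        (((Localization S') ⧸ P.1) ⊗[Localization S'] (LocalizedModule S' M)) = r := by
    intro P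
    rw [finrank_quot_tensor, Module.rankAtStalk_isBaseChange
      (LocalizedModule.isBaseChange S' M), hr]
  obtain ⟨bM⟩ := Module.nonempty_basis_of_flat_of_finrank_eq (Localization S')
    (LocalizedModule S' M) r rk
  have bN : Basis (Fin r) (Localization S') (LocalizedModule S' (Fin r →₀ B)) :=
    (Finsupp.basisSingleOne (R := B) (ι := Fin r)).ofIsLocalizedModule (Localization S') S'
      (LocalizedModule.mkLinearMap S' (Fin r →₀ B))
  obtain ⟨b, hb, l', -⟩ := Module.FinitePresentation.exists_lift_equiv_of_isLocalizedModule S'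
    (M' := LocalizedModule S' M) (N' := LocalizedModule S' (Fin r →₀ B))
    (LocalizedModule.mkLinearMap S' M) (LocalizedModule.mkLinearMap S' (Fin r →₀ B))
    ((bM.equiv bN (Equiv.refl _)).restrictScalars B)
  obtain ⟨a, ha, rfl⟩ := hb
  refine ⟨a, ha, ?_⟩
  have bN' : Basis (Fin r) (Localization.Away (algebraMap A B a))
      (LocalizedModule.Away (algebraMap A B a) (Fin r →₀ B)) :=
    (Finsupp.basisSingleOne (R := B) (ι := Fin r)).ofIsLocalizedModule _
      (Submonoid.powers (algebraMap A B a))
      (LocalizedModule.mkLinearMap (Submonoid.powers (algebraMap A B a)) (Fin r →₀ B))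
  exact ⟨bN'.map l'.symm⟩

end Alg

open Scheme.Modules Groth.Agent.Lib.Helper2.FinTypeAff Groth.Agent.Lib.Helper2.FreeModAff
open Groth.Agent.Lib.Helper21.RelFPSch Groth.Agent.Lib.Lead.QCohAff Groth.Agent.Lib.Lead
open Groth.Agent.Lib.Helper2.LocFreeAff Groth.Agent.Lib.Helper2.KerSec

variable {X : Scheme.{u}}

/-- A finite locally free module is quasi-coherent. -/
theorem isQuasicoherent_of_isFinLocFree (F : X.Modules) (h : FlatMod.IsFinLocFree F) :
    F.IsQuasicoherent := by
  apply Groth.Agent.Lib.Lead.QCohLocal.isQuasicoherent_of_forall_affine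
  intro x
  obtain ⟨U, n, hxU, hiso⟩ := h x
  obtain ⟨V, hV, hxV, hVU⟩ := exists_isAffineOpen_mem_and_subset (U := U) (x := x) hxU
  refine ⟨V, hV, hxV, ?_⟩
  have h' := nonempty_iso_freeMod_of_le F hVU n hiso
  rw [nonempty_iso_freeMod_iff_free] at h'
  obtain ⟨e1⟩ := nonempty_iso_free_restrict hV.isoSpec.inv (F.restrict V.ι) _ h'
  have e2 : F.restrict hV.fromSpec ≅ SheafOfModules.free.{u} _ :=
    (restrictFunctorComp hV.isoSpec.inv V.ι).app F ≪≫ e1
  haveI := Groth.Agent.Lib.Helper2.LocFreeAff.free_isQuasicoherent' (Spec Γ(X, V))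
    (Idx.{u} n)
  exact isQuasicoherent_of_iso e2.symm

theorem isFinLocFree_of_rank {F : X.Modules} {r : ℕ} (h : FlatMod.IsFinLocFreeOfRank r F) :
    FlatMod.IsFinLocFree F := fun x => by
  obtain ⟨U, hxU, hU⟩ := h x
  exact ⟨U, r, hxU, hU⟩

open Groth.Agent.Lib.Helper2.QCAlgMod Groth.Agent.Lib.Helper2.FibRank in
/-- The module of sections of a locally free module of rank `r` over an affine open has rank `r`
at every prime. -/
theorem rankAtStalk_sections_eq (F : X.Modules) [F.IsQuasicoherent] (r : ℕ)
    (hF : FlatMod.IsFinLocFreeOfRank r F) {U : X.Opens} (hU : IsAffineOpen U)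
    (q : PrimeSpectrum Γ(X, U)) : rankAtStalk Γ(F, U) q = r := by
  haveI := Groth.Agent.Lib.Helper2.FinLocFreeAff.finitePresentation_sections_of_isFinLocFree F
    (isFinLocFree_of_rank hF) hU
  haveI := Groth.Agent.Lib.Helper2.FinLocFreeAff.projective_sections_of_isFinLocFree F
    (isFinLocFree_of_rank hF) hU
  have hy : hU.fromSpec q ∈ U := fromSpec_mem hU q
  have hq : hU.primeIdealOf ⟨hU.fromSpec q, hy⟩ = q := primeIdealOf_fromSpec hU q hy
  set y := hU.fromSpec q with hydef
  obtain ⟨V, hyV, hV⟩ := exists_equiv_of_isFinLocFreeOfRank F r hF y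
  obtain ⟨W, hW, hyW, hWV⟩ := exists_isAffineOpen_mem_and_subset (U := V) (x := y) hyV
  obtain ⟨e⟩ := hV W hWV hW
  obtain ⟨hfree, hrank⟩ := stalk_free_of_sections_free F hW e y hyW
  letI := X.presheaf.algebra_section_stalk ⟨y, hy⟩
  haveI := hU.isLocalization_stalk ⟨y, hy⟩
  haveI : IsScalarTower Γ(X, U) (X.presheaf.stalk y) (StalkOver F U y hy) :=
    IsScalarTower.of_algebraMap_smul fun r m => rfl
  haveI := isLocalizedModule_germL F hU y hy
  have hbc : IsBaseChange (X.presheaf.stalk y) (germL F U y hy) :=
    (isLocalizedModule_iff_isBaseChange (hU.primeIdealOf ⟨y, hy⟩).asIdeal.primeCompl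
      (X.presheaf.stalk y) (germL F U y hy)).mp inferInstance
  have h1 := Module.rankAtStalk_isBaseChange hbc (IsLocalRing.closedPoint (X.presheaf.stalk y))
  have h2 : PrimeSpectrum.comap (algebraMap Γ(X, U) (X.presheaf.stalk y))
      (IsLocalRing.closedPoint (X.presheaf.stalk y)) = hU.primeIdealOf ⟨y, hy⟩ :=
    PrimeSpectrum.ext (IsLocalization.AtPrime.under_maximalIdeal (X.presheaf.stalk y)
      (hU.primeIdealOf ⟨y, hy⟩).asIdeal)
  haveI : Module.Free (X.presheaf.stalk y) (StalkOver F U y hy) := hfree
  rw [← hq, ← h2, ← h1, Module.rankAtStalk_eq_finrank_of_free]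
  exact hrank

end Groth.Agent.Lib.Helper2.RankSections
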