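import Groth.Agent.Lib.Helper78.ModStalkExact
import Groth.Agent.Lib.Helper78.FlatSES
import Groth.Agent.Lib.Helper2.FinLocFreeAff
import Groth.Agent.Lib.Helper2.RankSections
import Mathlib.RingTheory.Flat.Stability

/-!
# Stalkwise flat `O_X`-modules: short exact sequences, restriction to opens (helper2)
-/

set_option autoImplicit false
universe u
open CategoryTheory Limits AlgebraicGeometry TensorProduct

namespace Groth.Agent.Lib.Helper2.DCohFlat

open Scheme.Modules Groth.Agent.Lib.Helper78.ModStalk Groth.Agent.Lib.Helper78.ModStalkExact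

section Alg

/-- flatness transfers along a semilinear additive equivalence over a bijective ring map -/
theorem flat_of_semilinear {R S A B : Type*} [CommRing R] [CommRing S] [AddCommGroup A]
    [AddCommGroup B] [Module S A] [Module R B] (φ : R →+* S) (hφ : Function.Bijective φ)
    (e : A ≃+ B) (he : ∀ (r : R) (a : A), e (φ r • a) = r • e a) (hB : Module.Flat R B) :
    Module.Flat S A := by
  letI : Algebra R S := φ.toAlgebra
  letI : Module R A := Module.compHom A φ
  haveI : IsScalarTower R S A := ⟨fun r s a => by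
    change (φ r * s) • a = φ r • (s • a)
    rw [mul_smul]⟩
  let e' : A ≃ₗ[R] B := { e with map_smul' := fun r a => he r a }
  haveI : Module.Flat R A := Module.Flat.of_linearEquiv e'
  haveI : TensorProduct.CompatibleSMul R S S A :=
    TensorProduct.CompatibleSMul.of_algebraMap_surjective S A hφ.2
  haveI : Module.Flat S (S ⊗[R] A) := inferInstance
  exact Module.Flat.of_linearEquiv (TensorProduct.lidOfCompatibleSMul R S A).symm

end Alg

section Sch

variable {X : Scheme.{u}}

theorem stalkMap_id (M : X.Modules) (x : X) (m : M.presheaf.stalk x) :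
    stalkMap (𝟙 M) x m = m := by
  obtain ⟨U, hx, s, rfl⟩ := M.presheaf.exists_germ_eq (x := x) m
  rw [stalkMap_germ]
  rfl

theorem stalkMap_comp {M N P : X.Modules} (f : M ⟶ N) (g : N ⟶ P) (x : X)
    (m : M.presheaf.stalk x) : stalkMap (f ≫ g) x m = stalkMap g x (stalkMap f x m) := by
  obtain ⟨U, hx, s, rfl⟩ := M.presheaf.exists_germ_eq (x := x) m
  rw [stalkMap_germ, stalkMap_germ, stalkMap_germ]
  rfl

/-- the linear equivalence of stalks induced by an isomorphism of modules -/
noncomputable def stalkEquiv {M N : X.Modules} (e : M ≅ N) (x : X) :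
    M.presheaf.stalk x ≃ₗ[X.presheaf.stalk x] N.presheaf.stalk x :=
  LinearEquiv.ofLinear (stalkMap e.hom x) (stalkMap e.inv x)
    (LinearMap.ext fun n => by
      change stalkMap e.hom x (stalkMap e.inv x n) = n
      rw [← stalkMap_comp, e.inv_hom_id, stalkMap_id])
    (LinearMap.ext fun m => by
      change stalkMap e.inv x (stalkMap e.hom x m) = m
      rw [← stalkMap_comp, e.hom_inv_id, stalkMap_id])

theorem isFlat_of_iso {M N : X.Modules} (e : M ≅ N) (h : FlatMod.IsFlat M) : FlatMod.IsFlat N := by
  intro x
  haveI : Module.Flat (X.presheaf.stalk x) (M.presheaf.stalk x) := h x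
  exact Module.Flat.of_linearEquiv (stalkEquiv e x).symm

theorem subsingleton_stalk_of_isZero (M : X.Modules) (h : IsZero M) (x : X) :
    Subsingleton (M.presheaf.stalk x) := by
  refine ⟨fun a b => ?_⟩
  have key : ∀ c : M.presheaf.stalk x, c = 0 := by
    intro c
    have h1 : 𝟙 M = 0 := (IsZero.iff_id_eq_zero M).1 h
    rw [← stalkMap_id M x c, h1]
    obtain ⟨U, hx, s, rfl⟩ := M.presheaf.exists_germ_eq (x := x) c
    rw [stalkMap_germ]
    exact map_zero _
  rw [key a, key b]

theorem isFlat_of_isZero (M : X.Modules) (h : IsZero M) : FlatMod.IsFlat M := by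
  intro x
  haveI := subsingleton_stalk_of_isZero M h x
  change Module.Flat (X.presheaf.stalk x) (M.presheaf.stalk x)
  infer_instance

/-- kernel of an epimorphism of flat modules is flat -/
theorem isFlat_X₁ (S : ShortComplex X.Modules) (hS : S.ShortExact) (h2 : FlatMod.IsFlat S.X₂)
    (h3 : FlatMod.IsFlat S.X₃) : FlatMod.IsFlat S.X₁ := by
  intro x
  haveI : Module.Flat (X.presheaf.stalk x) (S.X₃.presheaf.stalk x) := h3 x
  exact (Groth.Agent.Lib.Helper78.FlatSES.flat_iff_of_exact (stalkMap S.f x) (stalkMap S.g x)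
    (stalk_injective S hS x) (stalk_function_exact S hS x) (stalk_surjective S hS x)).1 (h2 x)

/-- an extension of flat modules is flat -/
theorem isFlat_X₂ (S : ShortComplex X.Modules) (hS : S.ShortExact) (h1 : FlatMod.IsFlat S.X₁)
    (h3 : FlatMod.IsFlat S.X₃) : FlatMod.IsFlat S.X₂ := by
  intro x
  haveI : Module.Flat (X.presheaf.stalk x) (S.X₃.presheaf.stalk x) := h3 x
  exact (Groth.Agent.Lib.Helper78.FlatSES.flat_iff_of_exact (stalkMap S.f x) (stalkMap S.g x)
    (stalk_injective S hS x) (stalk_function_exact S hS x) (stalk_surjective S hS x)).2 (h1 x)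

/-- a biproduct of flat modules is flat -/
theorem isFlat_biprod (M N : X.Modules) (hM : FlatMod.IsFlat M) (hN : FlatMod.IsFlat N) :
    FlatMod.IsFlat (M ⊞ N) := by
  let S : ShortComplex X.Modules := ShortComplex.mk (biprod.inl : M ⟶ M ⊞ N) biprod.snd (by simp)
  have hS : S.ShortExact := by
    refine ShortComplex.Splitting.shortExact (S := S) ?_
    exact
      { r := biprod.fst
        s := biprod.inr
        f_r := by simp [S]
        s_g := by simp [S]
        id := by simp [S] }
  exact isFlat_X₂ S hS hM hN

/-- finite locally free modules are flat -/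
theorem isFlat_of_isFinLocFree (M : X.Modules) (h : FlatMod.IsFinLocFree M) : FlatMod.IsFlat M := by
  haveI := Groth.Agent.Lib.Helper2.RankSections.isQuasicoherent_of_isFinLocFree M h
  exact Groth.Agent.Lib.Helper2.FinLocFreeAff.isFlat_of_isFinLocFree M h

end Sch

section Restrict

variable {X U : Scheme.{u}} (j : U ⟶ X) [IsOpenImmersion j]

theorem stalkMap_bijective (y : U) : Function.Bijective (j.stalkMap y).hom :=
  ConcreteCategory.bijective_of_isIso (j.stalkMap y)

/-- the stalk of a restriction, as an additive equivalence -/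
noncomputable def restrictStalkEquiv (M : X.Modules) (y : U) :
    ((restrictFunctor j).obj M).presheaf.stalk y ≃+ M.presheaf.stalk (j y) :=
  ((restrictStalkNatIso j y).app M).addCommGroupIsoToAddEquiv

theorem restrictStalkEquiv_germ (M : X.Modules) (y : U) (V : U.Opens) (hy : y ∈ V)
    (m : Γ(M.restrict j, V)) :
    restrictStalkEquiv j M y ((M.restrict j).presheaf.germ V y hy m) =
      M.presheaf.germ (j ''ᵁ V) (j y) ⟨y, hy, rfl⟩ m :=
  congr($(germ_restrictStalkNatIso_hom_app j y M hy) m)

theorem restrictStalkEquiv_smul (M : X.Modules) (y : U) (t : X.presheaf.stalk (j y))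
    (a : ((restrictFunctor j).obj M).presheaf.stalk y) :
    restrictStalkEquiv j M y ((j.stalkMap y).hom t • a) = t • restrictStalkEquiv j M y a := by
  obtain ⟨V, hyV, r, m, hr, ha⟩ := exists_germ_eq₂ (M.restrict j) y ((j.stalkMap y).hom t) a
  have ht : t = X.presheaf.germ (j ''ᵁ V) (j y) ⟨y, hyV, rfl⟩ ((j.appIso V).inv r) := by
    apply (stalkMap_bijective j y).1
    rw [← hr]
    change _ = j.stalkMap y (X.presheaf.germ (j ''ᵁ V) (j y) _ ((j.appIso V).inv r))
    rw [Scheme.Hom.germ_stalkMap_apply]
    have h1 := congr($(Scheme.Hom.appIso_inv_app j V) r)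
    change j.app (j ''ᵁ V) ((j.appIso V).inv r) = _ at h1
    rw [h1]
    exact (TopCat.Presheaf.germ_res_apply _ _ _ _ _).symm
  rw [← ha, ← hr, ← germ_smul, restrictStalkEquiv_germ, restrictStalkEquiv_germ, ht]
  exact germ_smul M (j y) (j ''ᵁ V) ⟨y, hyV, rfl⟩ ((j.appIso V).inv r) m

/-- the restriction of a flat module to an open subscheme is flat -/
theorem isFlat_restrict (M : X.Modules) (h : FlatMod.IsFlat M) :
    FlatMod.IsFlat ((restrictFunctor j).obj M) := by
  intro y
  exact flat_of_semilinear (j.stalkMap y).hom (stalkMap_bijective j y) (restrictStalkEquiv j M y)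
    (restrictStalkEquiv_smul j M y) (h (j y))

end Restrict

end Groth.Agent.Lib.Helper2.DCohFlat
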