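import Groth.Agent.Lib.Helper12.LTK
import Groth.Agent.Lib.Helper12.LDer3
import Groth.Agent.Lib.Helper12.KFlat20
import Groth.Agent.Lib.Helper25.KanDescend
import Groth.Prelude.Def_DDual2

set_option autoImplicit false
universe u
open CategoryTheory CategoryTheory.Limits AlgebraicGeometry

attribute [local instance] HasDerivedCategory.standard

namespace Groth.Agent.Lib.Helper2.Lpull

open Groth.Agent.Lib.Helper12

variable {X Y : Scheme.{u}} (f : X ⟶ Y)

/-- termwise pullback of complexes -/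
noncomputable abbrev pbCx : CochainComplex Y.Modules ℤ ⥤ CochainComplex X.Modules ℤ :=
  (Scheme.Modules.pullback f).mapHomologicalComplex (ComplexShape.up ℤ)

/-- `f^*` preserves quasi-isomorphisms between K-flat complexes. -/
def PB : Prop := ∀ (P Q : CochainComplex Y.Modules ℤ) (g : P ⟶ Q), DCoh.IsKFlat P →
  DCoh.IsKFlat Q → QuasiIso g → QuasiIso ((pbCx f).map g)

/-- `quot ⋙ pullKh f ≅ pbCx f ⋙ Q`. -/
noncomputable def eF : LTK.quot ⋙ DCoh.pullKh f ≅ pbCx f ⋙ DerivedCategory.Q :=
  (Functor.associator _ _ _).symm ≪≫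
    Functor.isoWhiskerRight
      ((Scheme.Modules.pullback f).mapHomotopyCategoryFactors (ComplexShape.up ℤ))
      DerivedCategory.Qh ≪≫
    Functor.associator _ _ _ ≪≫
    Functor.isoWhiskerLeft (pbCx f) (DerivedCategory.quotientCompQhIso X.Modules)

variable {f} in
theorem isIso_map_of_quasiIso (h : PB f) {P Q : CochainComplex Y.Modules ℤ} (g : P ⟶ Q)
    (hg : QuasiIso g) (hP : DCoh.IsKFlat P) (hQ : DCoh.IsKFlat Q) :
    IsIso ((LTK.quot ⋙ DCoh.pullKh f).map g) := by
  have h1 : QuasiIso ((pbCx f).map g) := h P Q g hP hQ hg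
  have h2 : IsIso ((pbCx f ⋙ DerivedCategory.Q).map g) := by
    change IsIso (DerivedCategory.Q.map ((pbCx f).map g))
    infer_instance
  exact (NatIso.isIso_map_iff (eF f) g).mpr h2

section Counit

variable [DCoh.HasLpull f]

noncomputable def cou : DerivedCategory.Qh ⋙ DCoh.Lpull f ⟶ DCoh.pullKh f :=
  (DCoh.pullKh f).totalLeftDerivedCounit DerivedCategory.Qh LTK.qisH

instance : (DCoh.Lpull f).IsLeftDerivedFunctor (cou f) LTK.qisH := by
  unfold cou
  infer_instance

noncomputable def couC :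
    (LTK.quot ⋙ DerivedCategory.Qh) ⋙ DCoh.Lpull f ⟶ LTK.quot ⋙ DCoh.pullKh f :=
  LDer.preAlpha LTK.quot (DCoh.Lpull f) (cou f)

instance : (DCoh.Lpull f).IsLeftDerivedFunctor (couC f) (LTK.qisC (X := Y)) :=
  LDer.isLeftDerivedFunctor_precomp LTK.quot
    (HomologicalComplex.homotopyEquivalences Y.Modules (ComplexShape.up ℤ))
    (DCoh.Lpull f) (cou f) LTK.qisC (W := LTK.qisH)

variable {f} in
theorem isIso_couC_app (h : PB f) (P : CochainComplex Y.Modules ℤ) (hP : DCoh.IsKFlat P) :
    IsIso ((couC f).app P) := by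
  have h0 : ((LTK.quot (X := Y)) ⋙ DerivedCategory.Qh).IsLocalization (KFlat.qisCx Y.sheaf) :=
    LTK.isLocalization_quot_Qh
  have h00 : (DCoh.Lpull f).IsLeftDerivedFunctor (couC f) (KFlat.qisCx Y.sheaf) :=
    inferInstanceAs ((DCoh.Lpull f).IsLeftDerivedFunctor (couC f) (LTK.qisC (X := Y)))
  refine @KFlat.isIso_counit_app_of_isKFlat _ _ _ Y.sheaf _ _ _ _ (LTK.quot ⋙ DCoh.pullKh f) ?_
    (LTK.quot ⋙ DerivedCategory.Qh) h0 (DCoh.Lpull f) (couC f) h00 P hP
  intro P Q g hP hQ hg
  exact isIso_map_of_quasiIso h g hg hP hQ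

variable {f} in
/-- `Lf^*` is computed termwise on K-flat complexes. -/
noncomputable def lpQIso (h : PB f) (P : CochainComplex Y.Modules ℤ) (hP : DCoh.IsKFlat P) :
    (DCoh.Lpull f).obj (DerivedCategory.Q.obj P) ≅ DerivedCategory.Q.obj ((pbCx f).obj P) :=
  (DCoh.Lpull f).mapIso ((DerivedCategory.quotientCompQhIso Y.Modules).symm.app P) ≪≫
    @asIso _ _ _ _ ((couC f).app P) (isIso_couC_app h P hP) ≪≫ (eF f).app P

end Counit

section Existence

/-- scheme-typed wrapper of helper12's functorial K-flat resolution -/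
noncomputable def resX (Y : Scheme.{u}) : CochainComplex Y.Modules ℤ ⥤ CochainComplex Y.Modules ℤ :=
  KFlat.resFunctor Y.sheaf

noncomputable def resXNat (Y : Scheme.{u}) : resX Y ⟶ 𝟭 (CochainComplex Y.Modules ℤ) :=
  KFlat.resNat Y.sheaf

theorem isKFlat_resX (P : CochainComplex Y.Modules ℤ) : DCoh.IsKFlat ((resX Y).obj P) :=
  KFlat.isKFlat_resFunctor_obj P

theorem quasiIso_resXNat (P : CochainComplex Y.Modules ℤ) : QuasiIso ((resXNat Y).app P) :=
  KFlat.quasiIso_resNat_app P

variable {f}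

/-- the functor `P ↦ Q(f^*(ρ P))` with `ρ` the functorial K-flat resolution -/
noncomputable def G : CochainComplex Y.Modules ℤ ⥤ DCoh.D X :=
  resX Y ⋙ pbCx f ⋙ DerivedCategory.Q

theorem G_inverts (h : PB f) : (LTK.qisC (X := Y)).IsInvertedBy (G (f := f)) := by
  intro P Q g hg
  have hg' : QuasiIso g := hg
  have hsq := (resXNat Y).naturality g
  have h1 : QuasiIso ((resXNat Y).app P) := quasiIso_resXNat P
  have h2 : QuasiIso ((resXNat Y).app Q) := quasiIso_resXNat Q
  have h3 : QuasiIso ((resX Y).map g) := by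
    have h4 : (LTK.qisC (X := Y)) ((resX Y).map g ≫
        (resXNat Y).app Q) := by
      rw [hsq]
      exact MorphismProperty.comp_mem _ _ _ h1 hg
    have h2' : (LTK.qisC (X := Y)) ((resXNat Y).app Q) := h2
    exact MorphismProperty.of_postcomp (LTK.qisC (X := Y)) _ _ h2' h4
  have h5 : QuasiIso ((pbCx f).map ((resX Y).map g)) :=
    h _ _ _ (isKFlat_resX P) (isKFlat_resX Q) h3
  change IsIso (DerivedCategory.Q.map ((pbCx f).map ((resX Y).map g)))
  infer_instance

noncomputable def LF (h : PB f) : DCoh.D Y ⥤ DCoh.D X :=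
  Localization.lift (G (f := f)) (G_inverts h) DerivedCategory.Q

noncomputable def LFfac (h : PB f) : DerivedCategory.Q ⋙ LF h ≅ G (f := f) :=
  Localization.fac _ _ _

noncomputable def αC (h : PB f) : DerivedCategory.Q ⋙ LF h ⟶ pbCx f ⋙ DerivedCategory.Q :=
  (LFfac h).hom ≫ Functor.whiskerRight (resXNat Y) (pbCx f ⋙ DerivedCategory.Q)

theorem αC_app (h : PB f) (P : CochainComplex Y.Modules ℤ) :
    (αC h).app P = (LFfac h).hom.app P ≫
      DerivedCategory.Q.map ((pbCx f).map ((resXNat Y).app P)) := rfl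

theorem isLeftDerivedFunctor_αC (h : PB f) :
    (LF h).IsLeftDerivedFunctor (αC h) (LTK.qisC (X := Y)) := by
  have h0 : (DerivedCategory.Q (C := Y.Modules)).IsLocalization (KFlat.qisCx Y.sheaf) :=
    inferInstanceAs ((DerivedCategory.Q (C := Y.Modules)).IsLocalization (LTK.qisC (X := Y)))
  have hd : (KFlat.kflatΦ Y.sheaf).Derives (pbCx f ⋙ DerivedCategory.Q) := by
    intro P P' g hg
    have : QuasiIso ((pbCx f).map g.hom) := h _ _ g.hom P.property P'.property hg
    change IsIso (DerivedCategory.Q.map ((pbCx f).map g.hom))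
    infer_instance
  refine @LDer.isLeftDerivedFunctor_of_isIso _ _ _ _ _ _ _ _ _ _ (KFlat.kflatΦ Y.sheaf)
    (KFlat.isLeftDerivabilityStructure_kflatΦ Y.sheaf) _ hd
    DerivedCategory.Q h0 _ (αC h) ?_
  intro P
  have : QuasiIso ((pbCx f).map ((resXNat Y).app P.obj)) :=
    h _ _ _ (isKFlat_resX P.obj) P.property (quasiIso_resXNat P.obj)
  change IsIso ((αC h).app P.obj)
  rw [αC_app]
  have i1 : IsIso (DerivedCategory.Q.map ((pbCx f).map ((resXNat Y).app P.obj))) :=
    (DerivedCategory.isIso_Q_map_iff_quasiIso _ _).mpr this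
  have i2 : IsIso ((LFfac h).hom.app P.obj) := inferInstance
  exact @IsIso.comp_isIso _ _ _ _ _ _ _ i2 i1

theorem hasLpull_of_PB (h : PB f) : DCoh.HasLpull f := by
  have i1 := isLeftDerivedFunctor_αC h
  have i2 : (LF h).IsRightKanExtension (αC h) :=
    Functor.IsLeftDerivedFunctor.isRightKanExtension (LF h) (αC h) (LTK.qisC (X := Y))
  have i3 : (LF h).IsRightKanExtension
      (Groth.Agent.Lib.Helper25.KanDescend.descendCounit LTK.quot
        (HomologicalComplex.homotopyEquivalences Y.Modules (ComplexShape.up ℤ))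
        (DerivedCategory.quotientCompQhIso Y.Modules) (eF f) (LF h) (αC h)) :=
    inferInstance
  have i4 : (LF h).IsLeftDerivedFunctor
      (Groth.Agent.Lib.Helper25.KanDescend.descendCounit LTK.quot
        (HomologicalComplex.homotopyEquivalences Y.Modules (ComplexShape.up ℤ))
        (DerivedCategory.quotientCompQhIso Y.Modules) (eF f) (LF h) (αC h)) LTK.qisH := ⟨i3⟩
  exact Functor.HasLeftDerivedFunctor.mk' (LF := LF h) (L := DerivedCategory.Qh)
    (F := DCoh.pullKh f) (W := LTK.qisH)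
    (α := Groth.Agent.Lib.Helper25.KanDescend.descendCounit LTK.quot
        (HomologicalComplex.homotopyEquivalences Y.Modules (ComplexShape.up ℤ))
        (DerivedCategory.quotientCompQhIso Y.Modules) (eF f) (LF h) (αC h))

end Existence

end Groth.Agent.Lib.Helper2.Lpull
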