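import Groth.Agent.Lib.Helper12.SkyK3
import Groth.Agent.Lib.Helper12.Sky7
import Groth.Agent.Lib.Helper12.StalkExact2
import Groth.Agent.Lib.Helper15.LBCKFlat
import Groth.Agent.Lib.Helper25.KFlatBC
import Groth.Agent.Lib.Helper2.LpullBase

/-!
# Pullback of K-flat complexes (stalkwise arguments)
`f^*` preserves K-flat complexes, acyclic K-flat complexes, and quasi-isomorphisms between K-flat
complexes. Consequently `Lf^*` exists and is computed termwise on K-flat complexes.
-/

set_option autoImplicit false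
universe u
open CategoryTheory CategoryTheory.Limits AlgebraicGeometry

attribute [local instance] HasDerivedCategory.standard

namespace Groth.Agent.Lib.Helper2.Lpull

open Groth.Agent.Lib.Helper12 Groth.Agent.Lib.Helper12.Sky Groth.Agent.Lib.Helper12.StalkExact

variable {X Y : Scheme.{u}} (f : X ⟶ Y)

/-- stalk of the pulled back complex -/
noncomputable def stalkPbCxIso (K : CochainComplex Y.Modules ℤ) (x : X) :
    (stalkCx X x).obj ((pbCx f).obj K) ≅
      ((ModuleCat.extendScalars.{u, u, u} (f.stalkMap x).hom).mapHomologicalComplex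
        (ComplexShape.up ℤ)).obj ((stalkCx Y (f.base x)).obj K) :=
  (NatIso.mapHomologicalComplex (stalkPullbackIso f x) (ComplexShape.up ℤ)).app K

theorem isKFlat_of_iso {R : Type u} [CommRing R] {K L : DRing.Cx R} (e : K ≅ L)
    (hK : DRing.IsKFlat R K) : DRing.IsKFlat R L := by
  intro M hM i
  have e' : (MonoidalCategory.tensorObj M K) ≅ (MonoidalCategory.tensorObj M L) :=
    MonoidalCategory.whiskerLeftIso M e
  exact (hK M hM i).of_iso ((HomologicalComplex.homologyFunctor _ _ i).mapIso e'.symm)

/-- S0952: the termwise pullback of a K-flat complex is K-flat. -/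
theorem isKFlat_pbCx (K : CochainComplex Y.Modules ℤ) (hK : DCoh.IsKFlat K) :
    DCoh.IsKFlat ((pbCx f).obj K) := by
  rw [isKFlat_iff_stalks]
  intro x
  have h1 : DRing.IsKFlat _ ((stalkCx Y (f.base x)).obj K) := stalks_isKFlat K hK (f.base x)
  have h2 := Groth.Agent.Lib.Helper25.KFlat.isKFlat_extCx (f.stalkMap x).hom _ h1
  exact isKFlat_of_iso (stalkPbCxIso f K x).symm h2

/-- the pullback of an acyclic K-flat complex is acyclic -/
theorem acyclic_pbCx (K : CochainComplex Y.Modules ℤ) (hK : DCoh.IsKFlat K)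
    (hac : ∀ i : ℤ, K.ExactAt i) : ∀ i : ℤ, ((pbCx f).obj K).ExactAt i := by
  intro i
  rw [exactAt_iff_stalk]
  intro x
  have h1 : DRing.IsKFlat _ ((stalkCx Y (f.base x)).obj K) := stalks_isKFlat K hK (f.base x)
  have h0 : Groth.Agent.Lib.Helper25.KFlat.Acyclic ((stalkCx Y (f.base x)).obj K) := by
    intro j
    rw [← HomologicalComplex.exactAt_iff_isZero_homology]
    exact (exactAt_iff_stalk K j).1 (hac j) (f.base x)
  have h2 := Groth.Agent.Lib.Helper15.LBCKFlat.acyclic_extCx (f.stalkMap x).hom _ h0 h1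
  rw [HomologicalComplex.exactAt_iff_isZero_homology]
  exact (h2 i).of_iso ((HomologicalComplex.homologyFunctor _ _ i).mapIso (stalkPbCxIso f K x))

/-- `f^*` preserves quasi-isomorphisms between K-flat complexes. -/
theorem pb (f : X ⟶ Y) : PB f := by
  intro P Q g hP hQ hg
  have hc : DCoh.IsKFlat (CochainComplex.mappingCone g) :=
    (KFlat.isKFlat_cone (O := Y.sheaf) g).1 hP hQ
  have hac : (CochainComplex.mappingCone g).Acyclic := (KFlat.acyclic_mappingCone_iff g).2 hg
  have h1 := acyclic_pbCx f _ hc hac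
  have e := CochainComplex.mappingCone.mapHomologicalComplexIso g (Scheme.Modules.pullback f)
  rw [← KFlat.acyclic_mappingCone_iff]
  intro i
  have := h1 i
  rw [HomologicalComplex.exactAt_iff_isZero_homology] at this ⊢
  exact this.of_iso ((HomologicalComplex.homologyFunctor _ _ i).mapIso e.symm)

/-- S0959: `Lf^*` exists. -/
theorem hasLpull (f : X ⟶ Y) : DCoh.HasLpull f := hasLpull_of_PB (pb f)

/-- `Lf^*` is computed termwise on K-flat complexes. -/
noncomputable def lpIso [DCoh.HasLpull f] (P : CochainComplex Y.Modules ℤ)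
    (hP : DCoh.IsKFlat P) :
    (DCoh.Lpull f).obj (DerivedCategory.Q.obj P) ≅ DerivedCategory.Q.obj ((pbCx f).obj P) :=
  lpQIso (pb f) P hP

end Groth.Agent.Lib.Helper2.Lpull
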