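import Groth.Agent.Lib.Lead.QCohCrit
import Groth.Agent.Lib.Lead.QCohPush
import Groth.Agent.Lib.Helper29.QCohQcqs
import Mathlib.Algebra.Category.ModuleCat.Sheaf.Limits
import Mathlib.Algebra.Homology.ShortComplex.ModuleCat

/-!
# Sections of kernels of morphisms of `𝒪_X`-modules; kernels of quasi-coherent modules are
quasi-coherent; pushforward of quasi-coherent along qcqs morphisms is quasi-coherent (helper2)
-/

set_option autoImplicit false
universe u

open AlgebraicGeometry CategoryTheory Limits Opposite TopologicalSpace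

namespace Groth.Agent.Lib.Helper2.KerSec

variable {X : Scheme.{u}} {F G : X.Modules} (φ : F ⟶ G)

set_option backward.isDefEq.respectTransparency false in
theorem kernelι_app_injective (U : X.Opens) :
    Function.Injective ((kernel.ι φ).val.app (op U)).hom := by
  have h1 : Mono ((SheafOfModules.evaluation X.ringCatSheaf (op U)).map (kernel.ι φ)) :=
    Functor.map_mono _ _
  exact (ModuleCat.mono_iff_injective _).1 h1

set_option backward.isDefEq.respectTransparency false in
theorem mem_range_kernelι_iff (U : X.Opens) (s : F.val.obj (op U)) :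
    s ∈ Set.range ((kernel.ι φ).val.app (op U)).hom ↔ (φ.val.app (op U)).hom s = 0 := by
  let E := SheafOfModules.evaluation X.ringCatSheaf (op U)
  have hlim : IsLimit (KernelFork.ofι (kernel.ι φ) (kernel.condition φ)) :=
    kernelIsKernel φ
  have : E.PreservesZeroMorphisms := ⟨fun _ _ => rfl⟩
  have hfl : PreservesFiniteLimits E := SheafOfModules.Finite.evaluationPreservesFiniteLimits _ _
  have : PreservesLimit (parallelPair φ 0) E := inferInstance
  have hlim' := KernelFork.mapIsLimit _ hlim E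
  let S : ShortComplex (ModuleCat (X.ringCatSheaf.obj.obj (op U))) :=
    ShortComplex.mk (E.map (kernel.ι φ)) (E.map φ)
      (by rw [← Functor.map_comp, kernel.condition, Functor.map_zero])
  have hS : S.Exact := ShortComplex.exact_of_f_is_kernel S hlim'
  have := (ShortComplex.moduleCat_exact_iff_range_eq_ker S).1 hS
  constructor
  · rintro ⟨t, rfl⟩
    have h0 := kernel.condition φ
    exact congr($(congrArg (fun ψ => (E.map ψ)) h0).hom t)
  · intro hs
    have h3 : s ∈ LinearMap.ker S.g.hom := hs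
    rw [← this] at h3
    exact h3

end Groth.Agent.Lib.Helper2.KerSec

namespace Groth.Agent.Lib.Helper2.KerSec

open Scheme.Modules Groth.Agent.Lib.Lead.QCohAff Groth.Agent.Lib.Lead

variable {X : Scheme.{u}} {F G : X.Modules} (φ : F ⟶ G)

theorem app_kernelι_injective (U : X.Opens) : Function.Injective ((kernel.ι φ).app U) :=
  kernelι_app_injective φ U

theorem exists_of_app_eq_zero (U : X.Opens) (s : Γ(F, U)) (h : φ.app U s = 0) :
    ∃ t : Γ(kernel φ, U), (kernel.ι φ).app U t = s :=
  (mem_range_kernelι_iff φ U s).2 h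

theorem app_kernelι_comp (U : X.Opens) (t : Γ(kernel φ, U)) :
    φ.app U ((kernel.ι φ).app U t) = 0 :=
  (mem_range_kernelι_iff φ U _).1 ⟨t, rfl⟩

theorem naturality_apply {M N : X.Modules} (ψ : M ⟶ N) {U V : X.Opens} (i : U ⟶ V) (s : Γ(M, V)) :
    ψ.app U (M.presheaf.map i.op s) = N.presheaf.map i.op (ψ.app V s) :=
  congr($(ψ.mapPresheaf.naturality i.op) s)

theorem locOn_kernel [F.IsQuasicoherent] [G.IsQuasicoherent] (U : X.Opens) (hU : IsAffineOpen U) :
    LocOn (kernel φ) U := by
  obtain ⟨hF1, hF2⟩ := LocOn.of_isQuasicoherent F hU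
  obtain ⟨hG1, hG2⟩ := LocOn.of_isQuasicoherent G hU
  constructor
  · intro f s hs
    have h1 : F.presheaf.map (homOfLE (X.basicOpen_le f)).op ((kernel.ι φ).app U s) = 0 := by
      rw [← naturality_apply, hs, map_zero]
    obtain ⟨n, hn⟩ := hF1 f _ h1
    refine ⟨n, app_kernelι_injective φ U ?_⟩
    rw [Hom.app_smul, hn, map_zero]
  · intro f t
    obtain ⟨n, s, hs⟩ := hF2 f ((kernel.ι φ).app _ t)
    have h1 : G.presheaf.map (homOfLE (X.basicOpen_le f)).op (φ.app U s) = 0 := by
      rw [← naturality_apply, hs, Hom.app_smul, app_kernelι_comp, smul_zero]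
    obtain ⟨m, hm⟩ := hG1 f _ h1
    have h2 : φ.app U (f ^ m • s) = 0 := by rw [Hom.app_smul, hm]
    obtain ⟨s', hs'⟩ := exists_of_app_eq_zero φ U _ h2
    refine ⟨m + n, s', app_kernelι_injective φ _ ?_⟩
    rw [naturality_apply, hs', Hom.app_smul, Scheme.Modules.map_smul, hs, ← mul_smul, map_pow,
      pow_add]

theorem isQuasicoherent_kernel [F.IsQuasicoherent] [G.IsQuasicoherent] :
    (kernel φ).IsQuasicoherent :=
  (QCohCrit.isQuasicoherent_iff_locOn _).2 (fun U hU => locOn_kernel φ U hU)

end Groth.Agent.Lib.Helper2.KerSec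

namespace Groth.Agent.Lib.Helper2.KerSec

open Scheme.Modules Groth.Agent.Lib.Lead.QCohAff Groth.Agent.Lib.Lead Groth.Agent.Lib.Helper29.QCohLoc

theorem isQuasicoherent_pushforward_of_qcqs {X Y : Scheme.{u}} (f : X ⟶ Y) [QuasiCompact f]
    [QuasiSeparated f] (F : X.Modules) [F.IsQuasicoherent] :
    ((pushforward f).obj F).IsQuasicoherent := by
  apply QCohPush.isQuasicoherent_pushforward_of_locOn
  intro y
  obtain ⟨_, ⟨W, hW : IsAffineOpen W, rfl⟩, hyW, -⟩ :=
    (Y.isBasis_affineOpens).exists_subset_of_mem_open (Set.mem_univ y) isOpen_univ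
  have hlocF : ∀ U : X.Opens, IsAffineOpen U → LocAt F U :=
    fun U hU => LocAt.of_isQuasicoherent F hU
  have hWc : IsCompact ((f ⁻¹ᵁ W : X.Opens) : Set X) :=
    f.isCompact_preimage hW.isCompact
  have hWq : IsQuasiSeparated ((f ⁻¹ᵁ W : X.Opens) : Set X) :=
    f.isQuasiSeparated_preimage hW.isQuasiSeparated
  have h := LocAt.of_qcqs F hlocF hWc hWq
  exact ⟨W, hW, hyW, ⟨h.kill, h.ext⟩⟩

end Groth.Agent.Lib.Helper2.KerSec
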