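import Mathlib.AlgebraicGeometry.Modules.Tilde
import Mathlib.Algebra.Category.ModuleCat.Sheaf.Generators
import Mathlib.RingTheory.LocalProperties.FinitePresentation
import Groth.Agent.Lib.Helper55.TildeEpi
import Groth.Agent.Lib.Lead.PullbackAff2
import Groth.Agent.Lib.Helper21.RelFPSch

/-!
# Finite type quasi-coherent modules have finite modules of sections over affine opens
(helper2 seat library)

* `exists_isOpenCover_generators`: `SheafOfModules.IsFiniteType M` gives an affine open cover with
  finite generating sections of the restrictions.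
* `finite_sections_of_generatingSections`: finite generating sections of `M|_U` (`U` affine, `M`
  quasi-coherent) make `Γ(M, U)` a finite `Γ(X, U)`-module.
* `finite_of_cover`: finiteness of sections is local (on affine covers).
* `finite_sections`: `M` quasi-coherent of finite type, `U` affine ⇒ `Module.Finite Γ(X,U) Γ(M,U)`.
-/

set_option autoImplicit false
set_option linter.style.haveILetI false
universe u

open AlgebraicGeometry CategoryTheory Opposite TopologicalSpace Limits

namespace Groth.Agent.Lib.Helper2.FinTypeAff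

open Scheme.Modules Groth.Agent.Lib.Helper55.TildeEpi Groth.Agent.Lib.Lead.PullbackAff
open Groth.Agent.Lib.Helper21.RelFPSch Groth.Agent.Lib.Lead.QCohAff

set_option backward.isDefEq.respectTransparency false in
theorem exists_isOpenCover_generators {X : Scheme.{u}} (M : X.Modules)
    [SheafOfModules.IsFiniteType (R := X.ringCatSheaf) M] :
    ∃ (ι : Type u) (U : ι → X.Opens) (σ : ∀ i, (M.restrict (U i).ι).GeneratingSections),
      (∀ i, (σ i).IsFiniteType) ∧ IsOpenCover U ∧ (∀ i, IsAffineOpen (U i)) := by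
  obtain ⟨σ, hσ⟩ := SheafOfModules.IsFiniteType.exists_localGeneratorsData (R := X.ringCatSheaf) M
  choose κ hsub heq using fun i ↦ Opens.isBasis_iff_cover.mp X.isBasis_affineOpens (σ.X i)
  have key : ∀ i : (Σ (i : σ.I), κ i),
      ∃ τ : (M.restrict (Scheme.Opens.ι i.2.1)).GeneratingSections, τ.IsFiniteType := by
    intro i
    let u := X.homOfLE (U := i.2) (V := σ.X i.1) (by simp [heq, le_sSup])
    have : PreservesColimitsOfSize.{u, u} (restrictFunctor u) := inferInstance
    let F := (overEquiv (σ.X i.1)).functor ⋙ restrictFunctor u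
    let iso : SheafOfModules.overFunctor X.ringCatSheaf _ ⋙ F ≅ restrictFunctor
      (Scheme.Opens.ι i.2.1) := (Functor.associator _ _ _).symm ≪≫
        Functor.isoWhiskerRight (Scheme.Modules.overFunctorEquiv _) _ ≪≫
        (restrictFunctorComp _ _).symm ≪≫ (restrictFunctorCongr (by simp [u]))
    have hfin : (σ.generators i.1).IsFiniteType := hσ.isFiniteType i.1
    refine ⟨((σ.generators i.1).map F (Scheme.Modules.restrictUnitIso _).symm).ofEpi
      (iso.app M).hom, ?_⟩
    infer_instance
  choose τ hτ using key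
  refine ⟨Σ (i : σ.I), κ i, fun j ↦ j.2, τ, hτ, ?_, ?_⟩
  · have cov := σ.coversTop
    rw [Opens.coversTop_iff, IsOpenCover] at cov
    rw [IsOpenCover, iSup_sigma, ← cov]
    refine iSup_congr fun i ↦ ?_
    rw [heq i, sSup_eq_iSup']
  · intro j
    exact hsub _ j.2.2

theorem free_isQuasicoherent {R : CommRingCat.{u}} (ι : Type u) :
    (SheafOfModules.free.{u} (R := (Spec R).ringCatSheaf) ι).IsQuasicoherent := by
  have h : IsIso (Scheme.Modules.fromTildeΓ (R := R) (SheafOfModules.free.{u} ι)) := inferInstance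
  exact (isQuasicoherent_iff_isIso_fromTildeΓ _).2 h

theorem finite_Γ_of_generatingSections {R : CommRingCat.{u}} (N : (Spec R).Modules)
    [N.IsQuasicoherent] (σ : N.GeneratingSections) (hσ : σ.IsFiniteType) :
    Module.Finite R (moduleSpecΓFunctor.obj N) := by
  have h2 := free_isQuasicoherent (R := R) σ.I
  have h1 : Epi σ.π := σ.epi
  have hepi := @epi_Γ_map_of_epi R _ N h2 _ σ.π h1
  rw [ModuleCat.epi_iff_surjective] at hepi
  let e : moduleSpecΓFunctor.obj (SheafOfModules.free.{u} σ.I) ≅ ModuleCat.of R (σ.I →₀ R) :=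
    moduleSpecΓFunctor.mapIso (tildeFinsupp σ.I).symm ≪≫ (tilde.toTildeΓNatIso.app _).symm
  have : Finite σ.I := hσ.finite
  have : Module.Finite R (σ.I →₀ R) := inferInstance
  have : Module.Finite R (moduleSpecΓFunctor.obj (SheafOfModules.free.{u} σ.I)) :=
    Module.Finite.equiv e.symm.toLinearEquiv
  exact Module.Finite.of_surjective _ hepi

set_option backward.isDefEq.respectTransparency false in
/-- Finite generating sections of `M|_U` (for `U` affine) make `Γ(M, U)` a finite module. -/
theorem finite_sections_of_generatingSections {X : Scheme.{u}} (M : X.Modules)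
    [M.IsQuasicoherent] {U : X.Opens} (hU : IsAffineOpen U)
    (τ : (M.restrict U.ι).GeneratingSections) (hτ : τ.IsFiniteType) :
    Module.Finite Γ(X, U) Γ(M, U) := by
  have : PreservesColimitsOfSize.{u, u} (restrictFunctor hU.isoSpec.inv) := inferInstance
  let τ' : (M.restrict hU.fromSpec).GeneratingSections :=
    (τ.map (restrictFunctor hU.isoSpec.inv) (Scheme.Modules.restrictUnitIso _).symm).ofEpi
      ((restrictFunctorComp _ _).app M).inv
  have hτ' : τ'.IsFiniteType := ⟨hτ.finite⟩
  have := finite_Γ_of_generatingSections (M.restrict hU.fromSpec) τ' hτ'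
  exact Module.Finite.equiv (secEquiv hU M)

section locality

variable {X : Scheme.{u}} (F : X.Modules)

theorem finite_congr {U V : X.Opens} (h : U = V) (hF : Module.Finite Γ(X, U) Γ(F, U)) :
    Module.Finite Γ(X, V) Γ(F, V) := by
  subst h; exact hF

theorem finite_basicOpen [F.IsQuasicoherent] {U : X.Opens} (hU : IsAffineOpen U) (a : Γ(X, U))
    (hF : Module.Finite Γ(X, U) Γ(F, U)) :
    Module.Finite Γ(X, X.basicOpen a) Γ(F, X.basicOpen a) := by
  letI : Module Γ(X, U) Γ(F, X.basicOpen a) :=
    Module.compHom _ (resRing X (X.basicOpen_le a))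
  haveI : IsScalarTower Γ(X, U) Γ(X, X.basicOpen a) Γ(F, X.basicOpen a) :=
    IsScalarTower.of_algebraMap_smul fun _ _ => rfl
  haveI := hU.isLocalization_basicOpen a
  haveI := isLocalizedModule_resL F hU a
  exact Module.Finite.of_isLocalizedModule (Submonoid.powers a) (resL F (X.basicOpen_le a))

theorem finite_of_basicOpen_cover [F.IsQuasicoherent] {U : X.Opens} (hU : IsAffineOpen U)
    (s : Set Γ(X, U)) (hs : Ideal.span s = ⊤)
    (H : ∀ a ∈ s, Module.Finite Γ(X, X.basicOpen a) Γ(F, X.basicOpen a)) :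
    Module.Finite Γ(X, U) Γ(F, U) := by
  letI (a : s) : Module Γ(X, U) Γ(F, X.basicOpen a.1) :=
    Module.compHom _ (resRing X (X.basicOpen_le a.1))
  haveI (a : s) : IsScalarTower Γ(X, U) Γ(X, X.basicOpen a.1) Γ(F, X.basicOpen a.1) :=
    IsScalarTower.of_algebraMap_smul fun _ _ => rfl
  haveI (a : s) : IsLocalization.Away a.1 Γ(X, X.basicOpen a.1) := hU.isLocalization_basicOpen a.1
  haveI (a : s) : IsLocalizedModule.Away a.1 (resL F (X.basicOpen_le a.1)) :=
    isLocalizedModule_resL F hU a.1
  exact Module.Finite.of_localizationSpan' s hs (Rₚ := fun a => Γ(X, X.basicOpen a.1))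
    (fun a => resL F (X.basicOpen_le a.1)) (fun a => H a.1 a.2)

/-- Finiteness of sections on an affine cover gives finiteness on all affine opens. -/
theorem finite_of_cover [F.IsQuasicoherent] (𝒰 : Set X.Opens)
    (h𝒰 : ∀ x : X, ∃ V ∈ 𝒰, x ∈ V) (haff : ∀ V ∈ 𝒰, IsAffineOpen V)
    (hfin : ∀ V ∈ 𝒰, Module.Finite Γ(X, V) Γ(F, V))
    {U : X.Opens} (hU : IsAffineOpen U) : Module.Finite Γ(X, U) Γ(F, U) := by
  let s : Set Γ(X, U) := {a | Module.Finite Γ(X, X.basicOpen a) Γ(F, X.basicOpen a)}
  refine finite_of_basicOpen_cover F hU s ?_ (fun a ha => ha)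
  rw [← hU.self_le_iSup_basicOpen_iff]
  intro x hx
  obtain ⟨V, hV, hxV⟩ := h𝒰 x
  obtain ⟨a₀, a₁, ha, hxa, -⟩ := exists_common_basicOpen hU (haff V hV) ⊤ x hx hxV trivial
  rw [Opens.mem_iSup]
  refine ⟨⟨a₀, ?_⟩, hxa⟩
  exact finite_congr F ha.symm (finite_basicOpen F (haff V hV) a₁ (hfin V hV))

/-- **Sections of a quasi-coherent module of finite type over an affine open form a finite
module.** -/
theorem finite_sections [F.IsQuasicoherent] [SheafOfModules.IsFiniteType (R := X.ringCatSheaf) F]
    {U : X.Opens} (hU : IsAffineOpen U) : Module.Finite Γ(X, U) Γ(F, U) := by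
  obtain ⟨ι, V, σ, hσ, hcov, haff⟩ := exists_isOpenCover_generators F
  refine finite_of_cover F (Set.range V) (fun x => ?_) ?_ ?_ hU
  · have hx : x ∈ (⊤ : X.Opens) := trivial
    rw [← hcov.iSup_eq_top, Opens.mem_iSup] at hx
    obtain ⟨i, hi⟩ := hx
    exact ⟨V i, ⟨i, rfl⟩, hi⟩
  · rintro _ ⟨i, rfl⟩
    exact haff i
  · rintro _ ⟨i, rfl⟩
    exact finite_sections_of_generatingSections F (haff i) (σ i) (hσ i)

end locality

end Groth.Agent.Lib.Helper2.FinTypeAff
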