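import Groth.Agent.Lib.Helper2.DCohLift

set_option autoImplicit false
universe u
open CategoryTheory Limits AlgebraicGeometry HomologicalComplex
attribute [local instance] HasDerivedCategory.standard

namespace Groth.Agent.Lib.Helper2.DCohOpens

open Scheme.Modules Groth.Agent.Lib.Helper2.DCohBase Groth.Agent.Lib.Helper2.ConeLift
open Groth.Agent.Lib.Helper2.StrictPerfLift Groth.Agent.Lib.Helper2.DCohLift

theorem homotopy_opensRange {X U : Scheme.{u}} (j : U ⟶ X) [IsOpenImmersion j]
    {E F : CochainComplex X.Modules ℤ} (α : E ⟶ F) (H : Homotopy ((resCx j).map α) 0) :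
    Nonempty (Homotopy ((resCx j.opensRange.ι).map α) 0) :=
  transport_null (restrictFunctor j) (restrictFunctor j.isoOpensRange.inv)
    (restrictFunctor j.opensRange.ι)
    ((restrictFunctorComp j.isoOpensRange.inv j).symm ≪≫
      restrictFunctorCongr (Scheme.Hom.isoOpensRange_inv_comp j))
    α ((resCx j).map α) (Homotopy.refl _)
    (((restrictFunctor j.isoOpensRange.inv).mapHomotopy H).trans
      (Homotopy.ofEq (Functor.map_zero _ _ _)))

/-- `X.Opens` version of `null_locally` -/
theorem null_locally_opens {X : Scheme.{u}} {E F : CochainComplex X.Modules ℤ}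
    (α : E ⟶ F) (hE : DCoh.IsStrictlyPerfect E) (a : ℤ) (hEa : ∀ i : ℤ, i < a → IsZero (E.X i))
    (hF : ∀ i : ℤ, a ≤ i → IsZero (F.homology i)) (x : X) :
    ∃ V : X.Opens, x ∈ V ∧ Nonempty (Homotopy ((DCoh.restrictCx V).map α) 0) := by
  obtain ⟨⟨a', b, hab⟩, hsum⟩ := hE
  have hb : ∀ i, b < i → α.f i = 0 := fun i hi => (hab i (Or.inr hi)).eq_of_src _ _
  obtain ⟨U, j, hj, hx, ⟨H⟩⟩ := null_locally (b - a + 1).toNat E F α a b
    (by have := Int.self_le_toNat (b - a + 1); lia) hsum hEa hb hF x
  haveI := hj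
  exact ⟨j.opensRange, hx, homotopy_opensRange j α H⟩

/-- `X.Opens` version of `lift_locally` -/
theorem lift_locally_opens {X : Scheme.{u}} {E F G : CochainComplex X.Modules ℤ}
    (α : E ⟶ F) (f : G ⟶ F) (hE : DCoh.IsStrictlyPerfect E) (a : ℤ)
    (hEa : ∀ j : ℤ, j < a → IsZero (E.X j))
    (hiso : ∀ j : ℤ, a < j → IsIso (HomologicalComplex.homologyMap f j))
    (hepi : Epi (HomologicalComplex.homologyMap f a)) (x : X) :
    ∃ (V : X.Opens) (β : (DCoh.restrictCx V).obj E ⟶ (DCoh.restrictCx V).obj G), x ∈ V ∧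
      Nonempty (Homotopy (β ≫ (DCoh.restrictCx V).map f) ((DCoh.restrictCx V).map α)) := by
  let γ : E ⟶ CochainComplex.mappingCone f := α ≫ CochainComplex.mappingCone.inr f
  have hF : ∀ j, a ≤ j → IsZero ((CochainComplex.mappingCone f).homology j) := by
    intro j hj
    apply isZero_homology_mappingCone f j
    · rcases eq_or_lt_of_le hj with h | h
      · subst h
        exact hepi
      · haveI := hiso j h
        infer_instance
    · haveI := hiso (j + 1) (by lia)
      infer_instance
  obtain ⟨V, hxV, ⟨H⟩⟩ := null_locally_opens γ hE a hEa hF x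
  have e1 : (resCx V.ι).map γ ≫
      (CochainComplex.mappingCone.mapHomologicalComplexIso f (restrictFunctor V.ι)).hom =
      (resCx V.ι).map α ≫ CochainComplex.mappingCone.inr ((resCx V.ι).map f) := by
    rw [← CochainComplex.mappingCone.map_inr, ← Category.assoc, ← Functor.map_comp]
  have H' : Homotopy ((resCx V.ι).map α ≫ CochainComplex.mappingCone.inr ((resCx V.ι).map f)) 0 :=
    (Homotopy.ofEq e1.symm).trans
      ((H.compRight (CochainComplex.mappingCone.mapHomologicalComplexIso f
        (restrictFunctor V.ι)).hom).trans (Homotopy.ofEq zero_comp))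
  obtain ⟨β, hβ⟩ := exists_lift_of_homotopy_inr _ _ H'
  exact ⟨V, β, hxV, hβ⟩

/-- `X.Opens` version of `exists_rep_locally` -/
theorem exists_rep_locally_opens {X : Scheme.{u}} (E F : CochainComplex X.Modules ℤ)
    (hE : DCoh.IsStrictlyPerfect E)
    (α : DerivedCategory.Q.obj E ⟶ DerivedCategory.Q.obj F) (x : X) :
    ∃ V : X.Opens, x ∈ V ∧
      ∃ α' : (resCx V.ι).obj E ⟶ (resCx V.ι).obj F,
        (resD V.ι).map α =
          (resFac V.ι).hom.app E ≫ DerivedCategory.Q.map α' ≫ (resFac V.ι).inv.app F := by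
  obtain ⟨F', g₀, s, hs, hα⟩ := DerivedCategory.left_fac α
  have hqi : QuasiIso s := (DerivedCategory.isIso_Q_map_iff_quasiIso (φ := s)).1 hs
  have hE' := hE
  obtain ⟨⟨a, b, hab⟩, hsum⟩ := hE
  have hi : ∀ j, IsIso (HomologicalComplex.homologyMap s j) := fun j =>
    (quasiIsoAt_iff_isIso_homologyMap s j).1 (hqi.quasiIsoAt j)
  obtain ⟨V, β, hxV, ⟨H⟩⟩ := lift_locally_opens g₀ s hE' a
    (fun j hj => hab j (Or.inl hj)) (fun j _ => hi j) (by haveI := hi a; infer_instance) x
  refine ⟨V, hxV, β, ?_⟩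
  have hQ := DerivedCategory.Q_map_eq_of_homotopy (h := H)
  rw [Functor.map_comp] at hQ
  have nat_g := (restrictFunctor V.ι).mapDerivedCategoryFactors_hom_naturality g₀
  have nat_s := (restrictFunctor V.ι).mapDerivedCategoryFactors_hom_naturality s
  haveI : IsIso ((resD V.ι).map (DerivedCategory.Q.map s)) := inferInstance
  rw [hα, Functor.map_comp, Functor.map_inv,
    ← cancel_mono ((resD V.ι).map (DerivedCategory.Q.map s))]
  simp only [Category.assoc, IsIso.inv_hom_id, Category.comp_id]
  rw [← cancel_mono ((resFac V.ι).hom.app F')]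
  simp only [Category.assoc]
  rw [nat_g, nat_s, Iso.inv_hom_id_app_assoc, hQ]

end Groth.Agent.Lib.Helper2.DCohOpens
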