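import Groth.Agent.Lib.Helper2.DCohCoh
import Groth.Agent.Lib.Helper2.DCohOpens
import Groth.Agent.Lib.Lead.QCohLocal

/-!
# Finite type / finite presentation of cohomology sheaves of pseudo-coherent objects (helper2)
-/

set_option autoImplicit false
universe u v₁ u₁
open CategoryTheory Limits AlgebraicGeometry HomologicalComplex
attribute [local instance] HasDerivedCategory.standard

namespace Groth.Agent.Lib.Helper2.DCohFP

open Scheme.Modules Groth.Agent.Lib.Lead.CohAff TopologicalSpace
open Groth.Agent.Lib.Helper2.DCohBase Groth.Agent.Lib.Helper2.DCohHom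
open Groth.Agent.Lib.Helper2.DCohCoh Groth.Agent.Lib.Helper2.DCohOpens
open Groth.Agent.Lib.Helper2.DCohPC Groth.Agent.Lib.Helper2.FreeModAff
open Groth.Agent.Lib.Helper2.DCohLift
open Groth.Agent.Lib.Lead.PullbackAff Groth.Agent.Lib.Lead.QCohLocal

section general

variable {C : Type*} [Category C] {J : GrothendieckTopology C} {R : Sheaf J RingCat.{u}}
  [HasSheafify J AddCommGrpCat.{u}] [J.WEqualsLocallyBijective AddCommGrpCat.{u}]
  {C' : Type*} [Category C'] {J' : GrothendieckTopology C'} {S : Sheaf J' RingCat.{u}}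
  [HasSheafify J' AddCommGrpCat.{u}] [J'.WEqualsLocallyBijective AddCommGrpCat.{u}]

theorem hasFinGen_quot {M N : SheafOfModules.{u} R} (h : HasFinGen M) (p : M ⟶ N) (hp : Epi p) :
    HasFinGen N := by
  obtain ⟨σ, hσ⟩ := h
  exact ⟨σ.ofEpi p, hσ⟩

/-- `M` has a finite (global) presentation -/
def HasFinPres (M : SheafOfModules.{u} R) : Prop := ∃ P : M.Presentation, P.IsFinite

theorem isFinite_map {M : SheafOfModules.{u} R} (P : SheafOfModules.Presentation M)
    [hP : P.IsFinite]
    (F : SheafOfModules.{u} R ⥤ SheafOfModules.{u} S) [PreservesColimitsOfSize.{u, u} F]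
    (η : SheafOfModules.unit S ≅ F.obj (SheafOfModules.unit R)) : (P.map F η).IsFinite where
  isFiniteType_generators := ⟨by
    rw [SheafOfModules.Presentation.map_generators_I]
    exact hP.isFiniteType_generators.finite⟩
  isFiniteType_relations := ⟨by
    rw [SheafOfModules.Presentation.map_relations_I]
    exact hP.isFiniteType_relations.finite⟩

theorem HasFinPres.map {M : SheafOfModules.{u} R} (h : HasFinPres M)
    (F : SheafOfModules.{u} R ⥤ SheafOfModules.{u} S) [PreservesColimitsOfSize.{u, u} F]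
    (η : SheafOfModules.unit S ≅ F.obj (SheafOfModules.unit R)) : HasFinPres (F.obj M) := by
  obtain ⟨P, hP⟩ := h
  exact ⟨P.map F η, isFinite_map P F η⟩

theorem HasFinPres.of_iso {M N : SheafOfModules.{u} R} (h : HasFinPres M) (e : M ≅ N) :
    HasFinPres N := by
  obtain ⟨P, hP⟩ := h
  exact ⟨P.ofIsIso e.hom, inferInstance⟩

/-- a finite presentation from an epimorphism out of a finite free module whose kernel is finitely
generated -/
theorem hasFinPres_of_epi {M : SheafOfModules.{u} R} {σ : Type u} [Finite σ]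
    (π : SheafOfModules.free σ ⟶ M) (hπ : Epi π) (h : HasFinGen (kernel π)) : HasFinPres M := by
  let g : M.GeneratingSections :=
    { I := σ
      s := M.freeHomEquiv π
      epi := by rw [Equiv.symm_apply_apply]; infer_instance }
  have hg : g.π = π := M.freeHomEquiv.symm_apply_apply π
  obtain ⟨τ, hτ⟩ := h
  let e : kernel π ≅ kernel g.π := kernelIsoOfEq hg.symm
  refine ⟨⟨g, τ.ofEpi e.hom⟩, ⟨⟨‹Finite σ›⟩, ⟨hτ⟩⟩⟩

end general

section general2

variable {C : Type u₁} [Category.{v₁} C] {J : GrothendieckTopology C} {R : Sheaf J RingCat.{u}}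
  [HasWeakSheafify J AddCommGrpCat.{u}] [J.WEqualsLocallyBijective AddCommGrpCat.{u}]
  [J.HasSheafCompose (forget₂ RingCat.{u} AddCommGrpCat.{u})]

theorem hasFinGen_free (I : Type u) [Finite I] :
    HasFinGen (SheafOfModules.free (R := R) I) :=
  hasFinGen_of_epi (𝟙 _)

theorem hasFinGen_coprod {A B : SheafOfModules.{u} R} (hA : HasFinGen A) (hB : HasFinGen B) :
    HasFinGen (A ⨿ B) := by
  obtain ⟨σA, hσA⟩ := hA
  obtain ⟨σB, hσB⟩ := hB
  haveI : Epi ((SheafOfModules.freeSumIso (R := R) σA.I σB.I).inv ≫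
      coprod.map σA.π σB.π) := epi_comp _ _
  exact hasFinGen_of_epi ((SheafOfModules.freeSumIso (R := R) σA.I σB.I).inv ≫
      coprod.map σA.π σB.π)

end general2

section Sch

variable {X : Scheme.{u}} (M : X.Modules)

set_option backward.isDefEq.respectTransparency false in
theorem hasFinPres_restrict_of_over {W D : X.Opens} (hDW : D ≤ W)
    (h : HasFinPres (SheafOfModules.over (R := X.ringCatSheaf) M W)) :
    HasFinPres (R := D.toScheme.ringCatSheaf) (M.restrict D.ι) := by
  let u := X.homOfLE hDW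
  have : PreservesColimitsOfSize.{u, u} (restrictFunctor u) := inferInstance
  let F := (overEquiv W).functor ⋙ restrictFunctor u
  let iso : SheafOfModules.overFunctor X.ringCatSheaf W ⋙ F ≅ restrictFunctor D.ι :=
    (Functor.associator _ _ _).symm ≪≫
      Functor.isoWhiskerRight (Scheme.Modules.overFunctorEquiv _) _ ≪≫
      (restrictFunctorComp _ _).symm ≪≫ (restrictFunctorCongr (by simp [u]))
  exact (h.map F (Scheme.Modules.restrictUnitIso _).symm).of_iso (iso.app M)

set_option backward.isDefEq.respectTransparency false in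
theorem hasFinPres_over_of_restrict {U : X.Opens}
    (h1 : HasFinPres (R := U.toScheme.ringCatSheaf) (M.restrict U.ι)) :
    HasFinPres (SheafOfModules.over (R := X.ringCatSheaf) M U) := by
  let E := overEquiv U
  let i : E.inverse.obj (M.restrict U.ι) ≅ SheafOfModules.over (R := X.ringCatSheaf) M U :=
    E.inverse.mapIso ((overFunctorEquiv U).app M).symm ≪≫ (E.unitIso.app _).symm
  exact (h1.map E.inverse
    (TopologicalSpace.Opens.sheafOfModulesEquivOverInverseUnit _ _).symm).of_iso i

set_option backward.isDefEq.respectTransparency false in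
theorem hasFinPres_restrict_of_iso {Y Z : Scheme.{u}} (e : Y ≅ Z) (f : Z ⟶ X) (g : Y ⟶ X)
    [IsOpenImmersion f] [IsOpenImmersion g] (hfg : e.hom ≫ f = g)
    (h : HasFinPres (R := Z.ringCatSheaf) (M.restrict f)) :
    HasFinPres (R := Y.ringCatSheaf) (M.restrict g) := by
  have : PreservesColimitsOfSize.{u, u} (restrictFunctor e.hom) := inferInstance
  exact ((h.map (restrictFunctor e.hom) (Scheme.Modules.restrictUnitIso _).symm).of_iso
      ((restrictFunctorComp e.hom f).app M).symm).of_iso
      ((restrictFunctorCongr hfg).app M)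

/-- finite type is detected by local finite generation -/
theorem isFiniteType_of_locally_hasFinGen
    (h : ∀ x : X, ∃ U : X.Opens, x ∈ U ∧
      HasFinGen (R := (U : Scheme.{u}).ringCatSheaf) (M.restrict U.ι)) :
    SheafOfModules.IsFiniteType (R := X.ringCatSheaf) M := by
  choose U hxU hgen' using h
  have hgen : ∀ x, HasFinGen (SheafOfModules.over (R := X.ringCatSheaf) M (U x)) :=
    fun x => hasFinGen_over_of_restrict M (hgen' x)
  choose σ hσ using hgen
  have hcov : IsOpenCover U := by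
    change ⨆ x, U x = ⊤
    exact top_le_iff.1 fun x _ => Opens.mem_iSup.2 ⟨x, hxU x⟩
  let D : SheafOfModules.LocalGeneratorsData.{u} (R := X.ringCatSheaf) M :=
    { I := ↥X
      X := U
      coversTop := (Opens.coversTop_iff _ U).2 hcov
      generators := σ }
  have hD : D.IsFiniteType := { isFiniteType := fun x => { finite := hσ x } }
  exact { exists_localGeneratorsData := ⟨D, hD⟩ }

theorem exists_hasFinGen_restrict
    (hM : SheafOfModules.IsFiniteType (R := X.ringCatSheaf) M) (x : X) :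
    ∃ U : X.Opens, x ∈ U ∧ HasFinGen (R := (U : Scheme.{u}).ringCatSheaf) (M.restrict U.ι) := by
  obtain ⟨σ, hσ⟩ := hM.exists_localGeneratorsData
  have hcov : IsOpenCover σ.X := (Opens.coversTop_iff _ σ.X).1 σ.coversTop
  obtain ⟨i, hi⟩ := hcov.exists_mem x
  exact ⟨σ.X i, hi, hasFinGen_restrict_of_over M (le_refl _)
    ⟨σ.generators i, (hσ.isFiniteType i).finite⟩⟩

/-- quotients of finite type modules are of finite type (no quasi-coherence needed) -/
theorem isFiniteType_of_epi {M N : X.Modules} (p : M ⟶ N) [Epi p]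
    (hM : SheafOfModules.IsFiniteType (R := X.ringCatSheaf) M) :
    SheafOfModules.IsFiniteType (R := X.ringCatSheaf) N := by
  refine isFiniteType_of_locally_hasFinGen N (fun x => ?_)
  obtain ⟨U, hxU, hU⟩ := exists_hasFinGen_restrict M hM x
  haveI : Epi ((restrictFunctor U.ι).map p) := inferInstance
  exact ⟨U, hxU, hasFinGen_quot hU ((restrictFunctor U.ι).map p) this⟩

/-- finite presentation is detected by local finite presentations -/
theorem isFP_of_locally_hasFinPres
    (h : ∀ x : X, ∃ U : X.Opens, x ∈ U ∧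
      HasFinPres (R := (U : Scheme.{u}).ringCatSheaf) (M.restrict U.ι)) :
    SheafOfModules.IsFinitePresentation (R := X.ringCatSheaf) M := by
  choose U hxU hgen' using h
  have hgen : ∀ x, HasFinPres (SheafOfModules.over (R := X.ringCatSheaf) M (U x)) :=
    fun x => hasFinPres_over_of_restrict M (hgen' x)
  choose P hP using hgen
  have hcov : IsOpenCover U := by
    change ⨆ x, U x = ⊤
    exact top_le_iff.1 fun x _ => Opens.mem_iSup.2 ⟨x, hxU x⟩
  let D : SheafOfModules.QuasicoherentData.{u} (R := X.ringCatSheaf) M :=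
    { I := ↥X
      X := U
      coversTop := (Opens.coversTop_iff _ U).2 hcov
      presentation := P }
  have hD : D.IsFinitePresentation := { isFinite_presentation := fun x => hP x }
  exact { exists_quasicoherentData := ⟨D, hD⟩ }

theorem exists_hasFinPres_restrict
    (hM : SheafOfModules.IsFinitePresentation (R := X.ringCatSheaf) M) (x : X) :
    ∃ U : X.Opens, x ∈ U ∧ HasFinPres (R := (U : Scheme.{u}).ringCatSheaf) (M.restrict U.ι) := by
  obtain ⟨σ, hσ⟩ := hM.exists_quasicoherentData
  have hcov : IsOpenCover σ.X := (Opens.coversTop_iff _ σ.X).1 σ.coversTop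
  obtain ⟨i, hi⟩ := hcov.exists_mem x
  exact ⟨σ.X i, hi, hasFinPres_restrict_of_over M (le_refl _)
    ⟨σ.presentation i, hσ.isFinite_presentation i⟩⟩

/-- finite presentation is local on opens -/
theorem isFP_of_locally
    (h : ∀ x : X, ∃ V : X.Opens, x ∈ V ∧
      SheafOfModules.IsFinitePresentation (R := (V : Scheme.{u}).ringCatSheaf) (M.restrict V.ι)) :
    SheafOfModules.IsFinitePresentation (R := X.ringCatSheaf) M := by
  refine isFP_of_locally_hasFinPres M (fun x => ?_)
  obtain ⟨V, hxV, hV⟩ := h x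
  obtain ⟨W, hxW, h2⟩ := exists_hasFinPres_restrict (M.restrict V.ι) hV ⟨x, hxV⟩
  have h3 : HasFinPres (R := (W : Scheme.{u}).ringCatSheaf)
      (M.restrict (W.ι ≫ V.ι)) :=
    h2.of_iso ((restrictFunctorComp _ _).app M).symm
  have h4 : HasFinPres (R := ((V.ι ''ᵁ W : X.Opens) : Scheme.{u}).ringCatSheaf)
      (M.restrict (V.ι ''ᵁ W).ι) :=
    hasFinPres_restrict_of_iso M (V.ι.isoImage W).symm (W.ι ≫ V.ι) _ (by simp) h3
  exact ⟨V.ι ''ᵁ W, ⟨⟨x, hxV⟩, hxW, rfl⟩, h4⟩

theorem isFP_of_iso {M N : X.Modules} (e : M ≅ N)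
    (hM : SheafOfModules.IsFinitePresentation (R := X.ringCatSheaf) M) :
    SheafOfModules.IsFinitePresentation (R := X.ringCatSheaf) N :=
  (SheafOfModules.isFinitePresentation X.ringCatSheaf).prop_of_iso e hM

end Sch

section Retract

/-- a contracting homotopy of a map which is invertible in degrees `n+1`, `n+2` gives a retraction
of the inclusion of the `n`-cycles -/
theorem exists_retract_of_homotopy {𝒜 : Type*} [Category 𝒜] [Abelian 𝒜]
    {T B : CochainComplex 𝒜 ℤ} (φ : T ⟶ B) (n : ℤ) (h1 : IsIso (φ.f (n + 1)))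
    (h2 : Mono (φ.f (n + 1 + 1))) (H : Homotopy φ 0) :
    ∃ p' : B.X n ⟶ B.cycles n, B.iCycles n ≫ p' = 𝟙 _ := by
  have hcomm := H.comm (n + 1)
  rw [dNext_eq H.hom (show (ComplexShape.up ℤ).Rel (n + 1) (n + 1 + 1) from rfl),
    prevD_eq H.hom (show (ComplexShape.up ℤ).Rel n (n + 1) from rfl),
    HomologicalComplex.zero_f, add_zero] at hcomm
  obtain ⟨r, hr', hr⟩ : ∃ r : B.X (n + 1) ⟶ T.X (n + 1),
      φ.f (n + 1) ≫ r = 𝟙 _ ∧ r ≫ φ.f (n + 1) = 𝟙 _ :=
    ⟨inv (φ.f (n + 1)), IsIso.hom_inv_id _, IsIso.inv_hom_id _⟩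
  let s : B.X (n + 1) ⟶ B.X n := r ≫ H.hom (n + 1) n
  have hz : B.d n (n + 1) ≫ r ≫ T.d (n + 1) (n + 1 + 1) = 0 := by
    rw [← cancel_mono (φ.f (n + 1 + 1))]
    simp only [Category.assoc, zero_comp]
    rw [← φ.comm (n + 1) (n + 1 + 1), reassoc_of% hr, B.d_comp_d]
  have key : B.d n (n + 1) ≫ s ≫ B.d n (n + 1) = B.d n (n + 1) := by
    have e1 := hr
    rw [hcomm, Preadditive.comp_add] at e1
    have e2 := congrArg (fun t => B.d n (n + 1) ≫ t) e1
    simp only [Preadditive.comp_add, Category.comp_id] at e2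
    rw [reassoc_of% hz, zero_comp, zero_add] at e2
    simpa [s] using e2
  let p : B.X n ⟶ B.X n := 𝟙 _ - B.d n (n + 1) ≫ s
  have hp : p ≫ B.d n (n + 1) = 0 := by
    simp only [p, Preadditive.sub_comp, Category.id_comp, Category.assoc, key, sub_self]
  refine ⟨B.liftCycles p (n + 1) (by simp) hp, ?_⟩
  rw [← cancel_mono (B.iCycles n), Category.assoc, HomologicalComplex.liftCycles_i]
  simp only [p, Preadditive.comp_sub, Category.comp_id, Category.id_comp,
    HomologicalComplex.iCycles_d_assoc, zero_comp, sub_zero]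

variable {Y : Scheme.{u}}

/-- locally, the cycles in degree `n` of a strictly perfect complex without cohomology above `n`
are a retract of the term in degree `n` -/
theorem exists_retract_cycles (A : CochainComplex Y.Modules ℤ) (hA : DCoh.IsStrictlyPerfect A)
    (n : ℤ) (hz : ∀ i : ℤ, n < i → IsZero (A.homology i)) (y : Y) :
    ∃ W : Y.Opens, y ∈ W ∧
      ∃ p' : ((DCoh.restrictCx W).obj A).X n ⟶ ((DCoh.restrictCx W).obj A).cycles n,
        ((DCoh.restrictCx W).obj A).iCycles n ≫ p' = 𝟙 _ := by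
  obtain ⟨W, hyW, ⟨H⟩⟩ := null_locally_opens (BrutalTrunc.ι A (n + 1))
    (isStrictlyPerfect_trunc A hA (n + 1)) (n + 1) (BrutalTrunc.isZero_trunc_X A (n + 1))
    (fun i hi => hz i (by omega)) y
  refine ⟨W, hyW, exists_retract_of_homotopy ((DCoh.restrictCx W).map (BrutalTrunc.ι A (n + 1))) n
    ?_ ?_ H⟩
  · haveI : IsIso ((BrutalTrunc.ι A (n + 1)).f (n + 1)) :=
      BrutalTrunc.isIso_tι A (n + 1) (n + 1) le_rfl
    change IsIso ((restrictFunctor W.ι).map ((BrutalTrunc.ι A (n + 1)).f (n + 1)))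
    infer_instance
  · haveI : IsIso ((BrutalTrunc.ι A (n + 1)).f (n + 1 + 1)) :=
      BrutalTrunc.isIso_tι A (n + 1) (n + 1 + 1) (by omega)
    haveI : IsIso ((restrictFunctor W.ι).map ((BrutalTrunc.ι A (n + 1)).f (n + 1 + 1))) :=
      inferInstance
    change Mono ((restrictFunctor W.ι).map ((BrutalTrunc.ι A (n + 1)).f (n + 1 + 1)))
    infer_instance

end Retract

section Abelian

variable {𝒜 : Type*} [Category 𝒜] [Abelian 𝒜]

theorem retract_comp_zero {C Z P H : 𝒜} (t : C ⟶ Z) (c : Z ⟶ H) (w : t ≫ c = 0)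
    (i : Z ⟶ P) (r : P ⟶ Z) (hir : i ≫ r = 𝟙 Z) :
    coprod.desc (t ≫ i) (𝟙 P - r ≫ i) ≫ r ≫ c = 0 := by
  apply coprod.hom_ext
  · rw [coprod.inl_desc_assoc, Category.assoc, reassoc_of% hir, w, comp_zero]
  · rw [coprod.inr_desc_assoc, Preadditive.sub_comp, Category.id_comp, Category.assoc,
      reassoc_of% hir, sub_self, comp_zero]

/-- if `c` is a cokernel of `t : C ⟶ Z` and `Z` is a retract of `P`, the kernel of `P ⟶ Z ⟶ H` is
a quotient of `C ⨿ P` -/
theorem epi_kernel_lift_of_retract {C Z P H : 𝒜} (t : C ⟶ Z) (c : Z ⟶ H) (w : t ≫ c = 0)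
    (hc : IsColimit (CokernelCofork.ofπ c w)) (i : Z ⟶ P) (r : P ⟶ Z) (hir : i ≫ r = 𝟙 Z) :
    Epi (kernel.lift (r ≫ c) (coprod.desc (t ≫ i) (𝟙 P - r ≫ i))
      (retract_comp_zero t c w i r hir)) := by
  let S : ShortComplex 𝒜 := ShortComplex.mk (coprod.desc (t ≫ i) (𝟙 P - r ≫ i)) (r ≫ c)
    (retract_comp_zero t c w i r hir)
  have hS : IsColimit (CokernelCofork.ofπ S.g S.zero) := by
    refine CokernelCofork.IsColimit.ofπ _ _
      (fun {Y} g hg => (CokernelCofork.IsColimit.desc' hc (i ≫ g) ?_).1) ?_ ?_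
    · have := coprod.inl ≫= hg
      rw [comp_zero] at this
      change coprod.inl ≫ coprod.desc (t ≫ i) (𝟙 P - r ≫ i) ≫ g = 0 at this
      rw [coprod.inl_desc_assoc, Category.assoc] at this
      exact this
    · intro Y g hg
      have h2 := coprod.inr ≫= hg
      rw [comp_zero] at h2
      change coprod.inr ≫ coprod.desc (t ≫ i) (𝟙 P - r ≫ i) ≫ g = 0 at h2
      rw [coprod.inr_desc_assoc, Preadditive.sub_comp, Category.id_comp, Category.assoc] at h2
      have h3 := (CokernelCofork.IsColimit.desc' hc (i ≫ g) (by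
        have := coprod.inl ≫= hg
        rw [comp_zero] at this
        change coprod.inl ≫ coprod.desc (t ≫ i) (𝟙 P - r ≫ i) ≫ g = 0 at this
        rw [coprod.inl_desc_assoc, Category.assoc] at this
        exact this)).2
      change c ≫ _ = i ≫ g at h3
      change (r ≫ c) ≫ _ = g
      rw [Category.assoc, h3]
      exact (sub_eq_zero.1 h2).symm
    · intro Y g hg b hb
      haveI : Epi c := epi_of_isColimit_cofork hc
      haveI : IsSplitEpi r := ⟨⟨i, hir⟩⟩
      rw [← cancel_epi (r ≫ c)]
      have h3 := (CokernelCofork.IsColimit.desc' hc (i ≫ g) (by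
        have := coprod.inl ≫= hg
        rw [comp_zero] at this
        change coprod.inl ≫ coprod.desc (t ≫ i) (𝟙 P - r ≫ i) ≫ g = 0 at this
        rw [coprod.inl_desc_assoc, Category.assoc] at this
        exact this)).2
      change c ≫ _ = i ≫ g at h3
      have h2 := coprod.inr ≫= hg
      rw [comp_zero] at h2
      change coprod.inr ≫ coprod.desc (t ≫ i) (𝟙 P - r ≫ i) ≫ g = 0 at h2
      rw [coprod.inr_desc_assoc, Preadditive.sub_comp, Category.id_comp, Category.assoc] at h2
      change (r ≫ c) ≫ b = g at hb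
      rw [hb, Category.assoc, h3]
      exact sub_eq_zero.1 h2
  exact S.exact_iff_epi_kernel_lift.1 (S.exact_of_g_is_cokernel hS)

end Abelian

section Pres

variable {W : Scheme.{u}}

theorem hasFinGen_of_iso_freeMod {M : W.Modules} (a : ℕ) (e : M ≅ FlatMod.freeMod W a) :
    HasFinGen (R := W.ringCatSheaf) M :=
  (hasFinGen_free (R := W.ringCatSheaf) (Idx.{u} a)).of_iso
    ((freeModIso W a).symm ≪≫ e.symm)

/-- explicit finite presentation of the cohomology in degree `n` when the cycles are a retract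
of a free term and the previous term is free -/
theorem hasFinPres_homology_of_retract (B : CochainComplex W.Modules ℤ) (n : ℤ)
    (p' : B.X n ⟶ B.cycles n) (hp : B.iCycles n ≫ p' = 𝟙 _) (a b : ℕ)
    (ea : B.X (n - 1) ≅ FlatMod.freeMod W a) (eb : B.X n ≅ FlatMod.freeMod W b) :
    HasFinPres (R := W.ringCatSheaf) (B.homology n) := by
  let P : W.Modules := SheafOfModules.free (R := W.ringCatSheaf) (Idx.{u} b)
  let i : B.cycles n ⟶ P := B.iCycles n ≫ eb.hom ≫ (freeModIso W b).hom
  let r : P ⟶ B.cycles n := (freeModIso W b).inv ≫ eb.inv ≫ p'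
  have hir : i ≫ r = 𝟙 _ := by
    simp only [i, r, Category.assoc, Iso.hom_inv_id_assoc]
    exact hp
  have hc := B.homologyIsCokernel (n - 1) n (by simp)
  have hepi := epi_kernel_lift_of_retract (B.toCycles (n - 1) n) (B.homologyπ n)
    (B.toCycles_comp_homologyπ (n - 1) n) hc i r hir
  haveI : IsSplitEpi r := ⟨⟨i, hir⟩⟩
  haveI : Epi (r ≫ B.homologyπ n) := epi_comp _ _
  refine hasFinPres_of_epi (R := W.ringCatSheaf) (σ := Idx.{u} b) (r ≫ B.homologyπ n) this ?_
  refine hasFinGen_quot (R := W.ringCatSheaf) ?_ _ hepi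
  exact hasFinGen_coprod (R := W.ringCatSheaf) (hasFinGen_of_iso_freeMod a ea)
    (hasFinGen_free (R := W.ringCatSheaf) (Idx.{u} b))

end Pres

section Top

variable {Y : Scheme.{u}}

/-- restriction of the cohomology of a complex -/
noncomputable def homologyRestrictIso {U : Scheme.{u}} (j : U ⟶ Y) [IsOpenImmersion j]
    (A : CochainComplex Y.Modules ℤ) (n : ℤ) :
    ((resCx j).obj A).homology n ≅ (restrictFunctor j).obj (A.homology n) :=
  (homCx (restrictFunctor j) n).app A

/-- the top cohomology sheaf of a strictly perfect complex is of finite type -/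
theorem isFiniteType_homology_of_isZero (A : CochainComplex Y.Modules ℤ)
    (hA : DCoh.IsStrictlyPerfect A) (n : ℤ) (hz : ∀ i : ℤ, n < i → IsZero (A.homology i)) :
    SheafOfModules.IsFiniteType (R := Y.ringCatSheaf) (A.homology n) := by
  refine isFiniteType_of_locally _ (fun y => ?_)
  obtain ⟨W, hyW, p', hp⟩ := exists_retract_cycles A hA n hz y
  refine ⟨W, hyW, ?_⟩
  let B := (DCoh.restrictCx W).obj A
  have h1 : SheafOfModules.IsFiniteType (R := (W : Scheme.{u}).ringCatSheaf) (B.X n) :=
    isFiniteType_of_isFinLocFree _ (isFinLocFree_restrict W.ι _ (hA.2 n))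
  haveI : IsSplitEpi p' := ⟨⟨B.iCycles n, hp⟩⟩
  haveI : Epi (p' ≫ B.homologyπ n) := epi_comp _ _
  have h2 : SheafOfModules.IsFiniteType (R := (W : Scheme.{u}).ringCatSheaf) (B.homology n) :=
    isFiniteType_of_epi (p' ≫ B.homologyπ n) h1
  exact isFiniteType_of_epi (homologyRestrictIso W.ι A n).hom h2

/-- with free terms: finite presentation of the top cohomology sheaf -/
theorem isFP_homology_of_isZero_of_free (A : CochainComplex Y.Modules ℤ)
    (hA : DCoh.IsStrictlyPerfect A) (n : ℤ) (hz : ∀ i : ℤ, n < i → IsZero (A.homology i))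
    (hfree : ∀ i : ℤ, ∃ k : ℕ, Nonempty (A.X i ≅ FlatMod.freeMod Y k)) :
    SheafOfModules.IsFinitePresentation (R := Y.ringCatSheaf) (A.homology n) := by
  refine isFP_of_locally_hasFinPres _ (fun y => ?_)
  obtain ⟨W, hyW, p', hp⟩ := exists_retract_cycles A hA n hz y
  refine ⟨W, hyW, ?_⟩
  let B := (DCoh.restrictCx W).obj A
  obtain ⟨a, ha⟩ := hfree (n - 1)
  obtain ⟨b, hb⟩ := hfree n
  obtain ⟨ea⟩ := nonempty_iso_freeMod_restrict W.ι ha
  obtain ⟨eb⟩ := nonempty_iso_freeMod_restrict W.ι hb
  have h2 : HasFinPres (R := (W : Scheme.{u}).ringCatSheaf) (B.homology n) :=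
    hasFinPres_homology_of_retract B n p' hp a b ea eb
  exact h2.of_iso (homologyRestrictIso W.ι A n)

/-- finite presentation of the top cohomology sheaf of a strictly perfect complex -/
theorem isFP_homology_of_isZero (A : CochainComplex Y.Modules ℤ)
    (hA : DCoh.IsStrictlyPerfect A) (n : ℤ) (hz : ∀ i : ℤ, n < i → IsZero (A.homology i)) :
    SheafOfModules.IsFinitePresentation (R := Y.ringCatSheaf) (A.homology n) := by
  refine isFP_of_locally _ (fun y => ?_)
  obtain ⟨W, hyW, hW⟩ := exists_free_nhd A hA y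
  refine ⟨W, hyW, ?_⟩
  have h1 := isFP_homology_of_isZero_of_free ((resCx W.ι).obj A) (isStrictlyPerfect_resCx W.ι A hA) n
    (fun i hi => isZero_homology_resCx W.ι A i (hz i hi)) hW
  exact isFP_of_iso (homologyRestrictIso W.ι A n) h1

end Top

end Groth.Agent.Lib.Helper2.DCohFP
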