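import Mathlib.Algebra.Homology.ShortComplex.HomologicalComplex
import Mathlib.Algebra.Homology.HomologicalComplexAbelian
import Mathlib.Algebra.Homology.QuasiIso

/-!
# Brutal truncation `σ≥n` of a cochain complex and its inclusion (helper2)
-/

set_option autoImplicit false
open CategoryTheory Limits HomologicalComplex

namespace Groth.Agent.Lib.Helper2.BrutalTrunc

variable {A : Type*} [Category A] [Abelian A] (E : CochainComplex A ℤ) (n : ℤ)

open Classical ZeroObject in
/-- terms of `σ≥n E` -/
noncomputable def tX (i : ℤ) : A := if n ≤ i then E.X i else 0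

noncomputable def tXIso (i : ℤ) (h : n ≤ i) : tX E n i ≅ E.X i := eqToIso (if_pos h)

theorem isZero_tX (i : ℤ) (h : ¬ n ≤ i) : IsZero (tX E n i) := by
  rw [tX, if_neg h]
  exact isZero_zero _

open Classical in
noncomputable def tι (i : ℤ) : tX E n i ⟶ E.X i := if h : n ≤ i then (tXIso E n i h).hom else 0

open Classical in
noncomputable def tπ (i : ℤ) : E.X i ⟶ tX E n i := if h : n ≤ i then (tXIso E n i h).inv else 0

theorem tι_pos (i : ℤ) (h : n ≤ i) : tι E n i = (tXIso E n i h).hom := dif_pos h
theorem tπ_pos (i : ℤ) (h : n ≤ i) : tπ E n i = (tXIso E n i h).inv := dif_pos h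
theorem tι_neg (i : ℤ) (h : ¬ n ≤ i) : tι E n i = 0 := dif_neg h
theorem tπ_neg (i : ℤ) (h : ¬ n ≤ i) : tπ E n i = 0 := dif_neg h

theorem tπ_tι_pos (i : ℤ) (h : n ≤ i) : tπ E n i ≫ tι E n i = 𝟙 _ := by
  rw [tι_pos E n i h, tπ_pos E n i h, Iso.inv_hom_id]

theorem tι_tπ (i : ℤ) : tι E n i ≫ tπ E n i = 𝟙 _ := by
  by_cases h : n ≤ i
  · rw [tι_pos E n i h, tπ_pos E n i h, Iso.hom_inv_id]
  · exact (isZero_tX E n i h).eq_of_src _ _

theorem isIso_tι (i : ℤ) (h : n ≤ i) : IsIso (tι E n i) := by
  rw [tι_pos E n i h]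
  infer_instance

/-- the brutal truncation `σ≥n E` -/
noncomputable def trunc : CochainComplex A ℤ where
  X := tX E n
  d i j := tι E n i ≫ E.d i j ≫ tπ E n j
  shape i j h := by rw [E.shape i j h, zero_comp, comp_zero]
  d_comp_d' i j k _ _ := by
    by_cases h : n ≤ j
    · simp only [Category.assoc]
      rw [← Category.assoc (tπ E n j), tπ_tι_pos E n j h, Category.id_comp, E.d_comp_d_assoc,
        zero_comp, comp_zero]
    · simp only [Category.assoc]
      rw [tπ_neg E n j h, zero_comp, comp_zero, comp_zero]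

/-- the inclusion `σ≥n E ⟶ E` -/
noncomputable def ι : trunc E n ⟶ E where
  f i := tι E n i
  comm' i j hij := by
    change tι E n i ≫ E.d i j = (tι E n i ≫ E.d i j ≫ tπ E n j) ≫ tι E n j
    simp only [ComplexShape.up_Rel] at hij
    by_cases h : n ≤ j
    · simp only [Category.assoc]
      rw [tπ_tι_pos E n j h, Category.comp_id]
    · rw [tι_neg E n i (by lia), zero_comp, zero_comp, zero_comp]

theorem isZero_trunc_X (i : ℤ) (h : i < n) : IsZero ((trunc E n).X i) :=
  isZero_tX E n i (by lia)

/-- terms in degrees `≥ n` -/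
noncomputable def truncXIso (i : ℤ) (h : n ≤ i) : (trunc E n).X i ≅ E.X i := tXIso E n i h

theorem isIso_homologyMap_ι (i : ℤ) (h : n < i) : IsIso (homologyMap (ι E n) i) := by
  have h₁ : IsIso (ShortComplex.cyclesMap ((shortComplexFunctor A _ i).map (ι E n))) := by
    apply ShortComplex.isIso_cyclesMap_of_isIso_of_mono'
    · exact isIso_tι E n i (by lia)
    · haveI : IsIso (tι E n ((ComplexShape.up ℤ).next i)) := isIso_tι E n _ (by simp; lia)
      change Mono (tι E n ((ComplexShape.up ℤ).next i))
      infer_instance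
  have h₂ : Epi ((shortComplexFunctor A _ i).map (ι E n)).τ₁ := by
    haveI : IsIso (tι E n ((ComplexShape.up ℤ).prev i)) := isIso_tι E n _ (by simp; lia)
    change Epi (tι E n ((ComplexShape.up ℤ).prev i))
    infer_instance
  exact ShortComplex.isIso_homologyMap_of_isIso_cyclesMap_of_epi h₁ h₂

theorem epi_homologyMap_ι : Epi (homologyMap (ι E n) n) := by
  have h₁ : IsIso (ShortComplex.cyclesMap ((shortComplexFunctor A _ n).map (ι E n))) := by
    apply ShortComplex.isIso_cyclesMap_of_isIso_of_mono'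
    · exact isIso_tι E n n le_rfl
    · haveI : IsIso (tι E n ((ComplexShape.up ℤ).next n)) := isIso_tι E n _ (by simp)
      change Mono (tι E n ((ComplexShape.up ℤ).next n))
      infer_instance
  exact ShortComplex.epi_homologyMap_of_epi_cyclesMap' _ inferInstance

end Groth.Agent.Lib.Helper2.BrutalTrunc
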