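import Groth.Agent.Lib.Helper2.DCohPC
import Groth.Agent.Lib.Helper2.RankSections
import Groth.Agent.Lib.Helper40.QCohCoprod

set_option autoImplicit false
universe u
open CategoryTheory Limits AlgebraicGeometry HomologicalComplex
attribute [local instance] HasDerivedCategory.standard

namespace Groth.Agent.Lib.Helper2.DCohHom

open Scheme.Modules Groth.Agent.Lib.Helper2.DCohBase Groth.Agent.Lib.Helper2.DCohLift
open Groth.Agent.Lib.Helper2.DCohPerf Groth.Agent.Lib.Helper2.DCohPC
open Groth.Agent.Lib.Lead.PullbackAff Groth.Agent.Lib.Helper21.QCohKernel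

section QCoh

variable {X U : Scheme.{u}}

/-- cycles as a kernel -/
noncomputable def cyclesIsoKernel (E : CochainComplex X.Modules ℤ) (i : ℤ) :
    E.cycles i ≅ kernel (E.d i (i + 1)) :=
  IsLimit.conePointUniqueUpToIso (E.cyclesIsKernel i (i + 1) (by simp)) (limit.isLimit _)

/-- homology as a cokernel -/
noncomputable def homologyIsoCokernel (E : CochainComplex X.Modules ℤ) (i : ℤ) :
    E.homology i ≅ cokernel (E.toCycles (i - 1) i) :=
  IsColimit.coconePointUniqueUpToIso (E.homologyIsCokernel (i - 1) i (by simp))
    (colimit.isColimit _)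

theorem isQuasicoherent_cycles (E : CochainComplex X.Modules ℤ)
    (hE : ∀ i, (E.X i).IsQuasicoherent) (i : ℤ) : (E.cycles i).IsQuasicoherent := by
  haveI := hE i
  haveI := hE (i + 1)
  haveI := isQuasicoherent_kernel (E.d i (i + 1))
  exact isQuasicoherent_of_iso (cyclesIsoKernel E i).symm

theorem isQuasicoherent_homology (E : CochainComplex X.Modules ℤ)
    (hE : ∀ i, (E.X i).IsQuasicoherent) (i : ℤ) : (E.homology i).IsQuasicoherent := by
  haveI := hE (i - 1)
  haveI := isQuasicoherent_cycles E hE i
  haveI := isQuasicoherent_cokernel (E.toCycles (i - 1) i)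
  exact isQuasicoherent_of_iso (homologyIsoCokernel E i).symm

theorem isQuasicoherent_homology_of_isStrictlyPerfect (E : CochainComplex X.Modules ℤ)
    (hE : DCoh.IsStrictlyPerfect E) (i : ℤ) : (E.homology i).IsQuasicoherent :=
  isQuasicoherent_homology E
    (fun k => Groth.Agent.Lib.Helper2.RankSections.isQuasicoherent_of_isFinLocFree _ (hE.2 k)) i

/-- restriction of the cohomology sheaves of `K` in terms of a representing complex -/
noncomputable def homRestrictIso (K : DCoh.D X) (F : CochainComplex X.Modules ℤ)
    (e : DerivedCategory.Q.obj F ≅ K) (j : U ⟶ X) [IsOpenImmersion j] (i : ℤ) :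
    (restrictFunctor j).obj ((DerivedCategory.homologyFunctor X.Modules i).obj K) ≅
      (DerivedCategory.homologyFunctor U.Modules i).obj
        (DerivedCategory.Q.obj ((resCx j).obj F)) :=
  ((homRes j i).app K).symm ≪≫
    (DerivedCategory.homologyFunctor U.Modules i).mapIso
      ((DCohBase.resD j).mapIso e.symm ≪≫ resDQ j F)

end QCoh

end Groth.Agent.Lib.Helper2.DCohHom
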