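import Groth.Agent.Lib.Helper2.DCohSingle
import Groth.Agent.Lib.Helper2.FinLocFreeAff
import Groth.Agent.S6516

set_option autoImplicit false
universe u
open CategoryTheory Limits AlgebraicGeometry HomologicalComplex Pretriangulated
attribute [local instance] HasDerivedCategory.standard

namespace Groth.Agent.Lib.Helper2.DCohSummand

open Scheme.Modules
open Groth.Agent.Lib.Helper2.DCohBase Groth.Agent.Lib.Helper2.DCohHom
open Groth.Agent.Lib.Helper2.DCohCoh Groth.Agent.Lib.Helper2.DCohOpens
open Groth.Agent.Lib.Helper2.DCohPC Groth.Agent.Lib.Helper2.DCohPerf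
open Groth.Agent.Lib.Helper2.DCohLift Groth.Agent.Lib.Helper2.DCohFP
open Groth.Agent.Lib.Lead.PullbackAff

section LF

variable {Y : Scheme.{u}}

/-- a morphism of modules on sections, as a linear map -/
noncomputable def appL {M N : Y.Modules} (φ : M ⟶ N) (U : Y.Opens) :
    Γ(M, U) →ₗ[Γ(Y, U)] Γ(N, U) where
  toFun x := φ.app U x
  map_add' a b := map_add _ a b
  map_smul' r x := Scheme.Modules.Hom.app_smul φ r x

/-- a retract of a finite locally free module is finite locally free -/
theorem isFinLocFree_of_retract {M F : Y.Modules} (i : M ⟶ F) (r : F ⟶ M) (h : i ≫ r = 𝟙 M)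
    (hF : FlatMod.IsFinLocFree F) : FlatMod.IsFinLocFree M := by
  haveI := Groth.Agent.Lib.Helper2.RankSections.isQuasicoherent_of_isFinLocFree F hF
  haveI := Groth.Agent.Lib.Helper2.LocFreeAff.isQuasicoherent_of_retract i r h
  rw [Groth.Agent.Lib.Helper2.FinLocFreeAff.isFinLocFree_iff_sections]
  intro U hU
  obtain ⟨hfin, hproj⟩ :=
    (Groth.Agent.Lib.Helper2.FinLocFreeAff.isFinLocFree_iff_sections F).1 hF U hU
  have hri : ∀ s : Γ(M, U), appL r U (appL i U s) = s := fun s => by
    have := congr($(congrArg (fun ψ : M ⟶ M => ψ.app U) h) s)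
    change r.app U (i.app U s) = s
    simpa using this
  have hsurj : Function.Surjective (appL r U) := fun s => ⟨appL i U s, hri s⟩
  refine ⟨Module.Finite.of_surjective (appL r U) hsurj, ?_⟩
  exact Module.Projective.of_split (appL i U) (appL r U) (LinearMap.ext hri)

end LF

section Hom

variable {A : Type*} [Category A] [Abelian A]

/-- an endomorphism of a complex concentrated in degree `n` inducing the identity on `H^n` is the
identity in degree `n` -/
theorem f_eq_id_of_homologyMap_eq_id (S : CochainComplex A ℤ) (n : ℤ)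
    (hS : ∀ i : ℤ, i ≠ n → IsZero (S.X i)) (c : S ⟶ S) (hc : homologyMap c n = 𝟙 _) :
    c.f n = 𝟙 _ := by
  haveI : IsIso (S.iCycles n) := S.isIso_iCycles n (n + 1) (by simp)
    ((hS (n + 1) (by omega)).eq_of_tgt _ _)
  haveI : IsIso (S.homologyπ n) := S.isIso_homologyπ (n - 1) n (by simp)
    ((hS (n - 1) (by omega)).eq_of_src _ _)
  have h1 : cyclesMap c n = 𝟙 _ := by
    rw [← cancel_mono (S.homologyπ n), ← homologyπ_naturality, hc, Category.comp_id,
      Category.id_comp]
  rw [← cancel_epi (S.iCycles n), ← cyclesMap_i, h1, Category.id_comp, Category.comp_id]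

/-- the inclusion of the lowest cycles, as a map from a complex concentrated in one degree -/
noncomputable def cyclesι (P : CochainComplex A ℤ) (n : ℤ) :
    (HomologicalComplex.single A (ComplexShape.up ℤ) n).obj (P.cycles n) ⟶ P :=
  mkHomFromSingle (P.iCycles n) (fun k _ => by simp)

theorem isIso_homologyMap_cyclesι (P : CochainComplex A ℤ) (n : ℤ) (hP : IsZero (P.X (n - 1))) :
    IsIso (homologyMap (cyclesι P n) n) := by
  haveI : IsIso (P.homologyπ n) := P.isIso_homologyπ (n - 1) n (by simp) (hP.eq_of_src _ _)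
  have h1 : cyclesMap (cyclesι P n) n =
      (singleObjCyclesSelfIso (ComplexShape.up ℤ) n (P.cycles n)).hom := by
    rw [← cancel_mono (P.iCycles n), cyclesMap_i, singleObjCyclesSelfIso_hom, cyclesι,
      mkHomFromSingle_f, Category.assoc]
  have h2 : homologyMap (cyclesι P n) n =
      (singleObjHomologySelfIso (ComplexShape.up ℤ) n (P.cycles n)).hom ≫ P.homologyπ n := by
    rw [← cancel_epi (((HomologicalComplex.single A (ComplexShape.up ℤ) n).obj
      (P.cycles n)).homologyπ n), homologyπ_naturality, h1,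
      homologyπ_singleObjHomologySelfIso_hom_assoc]
  rw [h2]
  infer_instance

end Hom

section Core

variable {Y : Scheme.{u}}

theorem isZero_homology_Q_single (N : Y.Modules) (n i : ℤ) (hi : i ≠ n) :
    IsZero ((DerivedCategory.homologyFunctor Y.Modules i).obj (DerivedCategory.Q.obj
      ((HomologicalComplex.single Y.Modules (ComplexShape.up ℤ) n).obj N))) :=
  IsZero.of_iso (isZero_single_obj_homology (ComplexShape.up ℤ) n N i hi)
    ((DerivedCategory.homologyFunctorFactors Y.Modules i).app _)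

theorem isZero_homology_Q_of_isZero_X (P : CochainComplex Y.Modules ℤ) (i : ℤ)
    (h : IsZero (P.X i)) :
    IsZero ((DerivedCategory.homologyFunctor Y.Modules i).obj (DerivedCategory.Q.obj P)) :=
  IsZero.of_iso (ShortComplex.isZero_homology_of_isZero_X₂ _ h)
    ((DerivedCategory.homologyFunctorFactors Y.Modules i).app P)

/-- killing the lowest cohomology of a pseudo-coherence datum: the cone of the inclusion of the
lowest cycles is isomorphic to `K` when `K` has no cohomology in the two lowest degrees -/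
theorem exists_iso_cone (K : DCoh.D Y) (P : CochainComplex Y.Modules ℤ) (n : ℤ)
    (hPz : ∀ i : ℤ, i < n → IsZero (P.X i)) (α : DerivedCategory.Q.obj P ⟶ K) (hα : IsPC n P α)
    (hK : ∀ i : ℤ, i < n + 2 → IsZero ((DerivedCategory.homologyFunctor Y.Modules i).obj K)) :
    ∃ α' : DerivedCategory.Q.obj (CochainComplex.mappingCone (cyclesι P n)) ⟶ K, IsIso α' ∧
      α = DerivedCategory.Q.map (CochainComplex.mappingCone.inr (cyclesι P n)) ≫ α' := by
  let T₁ := DerivedCategory.Q.mapTriangle.obj (CochainComplex.mappingCone.triangle (cyclesι P n))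
  have hT₁ : T₁ ∈ distTriang _ := DerivedCategory.mappingCone_triangle_distinguished (cyclesι P n)
  have hLE : (DerivedCategory.Q.obj ((HomologicalComplex.single Y.Modules (ComplexShape.up ℤ) n).obj
      (P.cycles n))).IsLE n :=
    (DerivedCategory.isLE_iff _ _).2 (fun i hi => isZero_homology_Q_single _ n i (by omega))
  have hGE : K.IsGE (n + 2) := (DerivedCategory.isGE_iff _ _).2 hK
  have hzero : T₁.mor₁ ≫ α = 0 :=
    DerivedCategory.TStructure.t.zero_of_isLE_of_isGE _ n (n + 2) (by omega) hLE hGE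
  obtain ⟨α', hα'⟩ := Triangle.yoneda_exact₂ T₁ hT₁ α hzero
  refine ⟨α', ?_, hα'⟩
  -- cohomology of the first vertex
  have hS : ∀ i : ℤ, i ≠ n → IsZero ((DerivedCategory.homologyFunctor Y.Modules i).obj T₁.obj₁) :=
    fun i hi => isZero_homology_Q_single _ n i hi
  have hP : ∀ i : ℤ, i < n → IsZero ((DerivedCategory.homologyFunctor Y.Modules i).obj T₁.obj₂) :=
    fun i hi => isZero_homology_Q_of_isZero_X P i (hPz i hi)
  haveI iso₁ : IsIso ((DerivedCategory.homologyFunctor Y.Modules n).map T₁.mor₁) :=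
    isIso_homology_Q_map (cyclesι P n) n (isIso_homologyMap_cyclesι P n (hPz (n - 1) (by omega)))
  -- the second map is an isomorphism on cohomology above `n`
  have iso₂ : ∀ i : ℤ, n < i → IsIso ((DerivedCategory.homologyFunctor Y.Modules i).map T₁.mor₂) := by
    intro i hi
    haveI : Mono ((DerivedCategory.homologyFunctor Y.Modules i).map T₁.mor₂) :=
      (DerivedCategory.HomologySequence.mono_homologyMap_mor₂_iff T₁ hT₁ i).2
        ((hS i (by omega)).eq_of_src _ _)
    haveI : Epi ((DerivedCategory.homologyFunctor Y.Modules i).map T₁.mor₂) :=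
      (DerivedCategory.HomologySequence.epi_homologyMap_mor₂_iff T₁ hT₁ i (i + 1) rfl).2
        ((hS (i + 1) (by omega)).eq_of_tgt _ _)
    exact isIso_of_mono_of_epi _
  -- the cone has no cohomology in degrees `≤ n`
  have hM : ∀ i : ℤ, i ≤ n → IsZero ((DerivedCategory.homologyFunctor Y.Modules i).obj T₁.obj₃) := by
    intro i hi
    have h2 : (DerivedCategory.homologyFunctor Y.Modules i).map T₁.mor₂ = 0 := by
      rcases eq_or_lt_of_le hi with h | h
      · subst h
        exact (DerivedCategory.HomologySequence.epi_homologyMap_mor₁_iff T₁ hT₁ i).1 inferInstance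
      · exact (hP i h).eq_of_src _ _
    have h3 : DerivedCategory.HomologySequence.δ T₁ i (i + 1) rfl = 0 := by
      by_cases h : i + 1 = n
      · subst h
        exact (DerivedCategory.HomologySequence.mono_homologyMap_mor₁_iff T₁ hT₁ i (i + 1) rfl).1
          inferInstance
      · exact (hS (i + 1) h).eq_of_tgt _ _
    exact (DerivedCategory.HomologySequence.exact₃ T₁ hT₁ i (i + 1) rfl).isZero_of_both_zeros h2 h3
  rw [DerivedCategory.isIso_iff]
  intro i
  by_cases hi : n < i
  · have h1 := iso₂ i hi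
    have h2 : IsIso ((DerivedCategory.homologyFunctor Y.Modules i).map T₁.mor₂ ≫
        (DerivedCategory.homologyFunctor Y.Modules i).map α') := by
      rw [← Functor.map_comp, ← hα']
      exact hα.2.1 i hi
    exact @IsIso.of_isIso_comp_left _ _ _ _ _
      ((DerivedCategory.homologyFunctor Y.Modules i).map T₁.mor₂)
      ((DerivedCategory.homologyFunctor Y.Modules i).map α') h1 h2
  · exact ⟨(hK i (by omega)).to_ _, (hM i (by omega)).eq_of_src _ _,
      (hK i (by omega)).eq_of_src _ _⟩

theorem homologyMap_eq_id_of_Q_map_eq_id {E : CochainComplex Y.Modules ℤ} (c : E ⟶ E) (i : ℤ)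
    (h : DerivedCategory.Q.map c = 𝟙 _) : homologyMap c i = 𝟙 _ := by
  have nat := (DerivedCategory.homologyFunctorFactors Y.Modules i).hom.naturality c
  have h1 : (DerivedCategory.Q ⋙ DerivedCategory.homologyFunctor Y.Modules i).map c = 𝟙 _ := by
    change (DerivedCategory.homologyFunctor Y.Modules i).map (DerivedCategory.Q.map c) = 𝟙 _
    rw [h, CategoryTheory.Functor.map_id]
  rw [h1, Category.id_comp] at nat
  have h2 : (DerivedCategory.homologyFunctorFactors Y.Modules i).hom.app E ≫ homologyMap c i =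
      (DerivedCategory.homologyFunctorFactors Y.Modules i).hom.app E ≫ 𝟙 _ := by
    rw [Category.comp_id]
    exact nat.symm
  have h3 := congrArg (fun t => (DerivedCategory.homologyFunctorFactors Y.Modules i).inv.app E ≫ t) h2
  simp only [Iso.inv_hom_id_app_assoc] at h3
  rw [Category.comp_id] at h3
  exact h3.trans (Iso.inv_hom_id_app _ _)

/-- a retract of a strictly perfect complex placed in degrees `≥ n + 2` which has an
`n`-pseudo-coherence datum is perfect near every point -/
theorem perfAt_of_retract_of_data (K : DCoh.D Y) (E : CochainComplex Y.Modules ℤ)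
    (hE : DCoh.IsStrictlyPerfect E) (n : ℤ) (hEa : ∀ i : ℤ, i < n + 2 → IsZero (E.X i))
    (s : K ⟶ DerivedCategory.Q.obj E) (p : DerivedCategory.Q.obj E ⟶ K) (hip : s ≫ p = 𝟙 K)
    (hpc : PCData n K) (y : Y) : PerfAt K y := by
  obtain ⟨P₀, α₀, hP₀, hiso₀, hepi₀⟩ := hpc
  have hd₀ : IsPC n P₀ α₀ := ⟨hP₀, hiso₀, hepi₀⟩
  have hα := hd₀.trunc
  set P := BrutalTrunc.trunc P₀ n with hPdef
  set α := DerivedCategory.Q.map (BrutalTrunc.ι P₀ n) ≫ α₀ with hαdef
  have hPz : ∀ i : ℤ, i < n → IsZero (P.X i) := BrutalTrunc.isZero_trunc_X P₀ n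
  have hPsp : DCoh.IsStrictlyPerfect P := hα.1
  have hK : ∀ i : ℤ, i < n + 2 → IsZero ((DerivedCategory.homologyFunctor Y.Modules i).obj K) :=
    fun i hi => isZero_homology_of_retract s p hip i (isZero_homology_Q_of_isZero_X E i (hEa i hi))
  obtain ⟨α', hα'iso, hα'⟩ := exists_iso_cone K P n hPz α hα hK
  haveI := hα'iso
  let T₁ := DerivedCategory.Q.mapTriangle.obj (CochainComplex.mappingCone.triangle (cyclesι P n))
  have hT₁ : T₁ ∈ distTriang _ := DerivedCategory.mappingCone_triangle_distinguished (cyclesι P n)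
  -- the third map of the triangle vanishes locally
  let ψ : DerivedCategory.Q.obj E ⟶ T₁.obj₁⟦(1 : ℤ)⟧ := p ≫ inv α' ≫ T₁.mor₃
  have hC : ∀ i : ℤ, n + 2 ≤ i →
      IsZero ((DerivedCategory.homologyFunctor Y.Modules i).obj (T₁.obj₁⟦(1 : ℤ)⟧)) := fun i hi =>
    IsZero.of_iso (isZero_homology_Q_single _ n (1 + i) (by omega))
      (((DerivedCategory.homologyFunctor Y.Modules 0).shiftIso 1 i (1 + i) rfl).app _)
  obtain ⟨U', j', hj', ⟨y', hy'⟩, hψ⟩ := null_D_locally E hE (n + 2) hEa _ hC ψ y
  haveI := hj'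
  have hw : (DCohBase.resD j').map T₁.mor₃ = 0 := by
    have h1 : T₁.mor₃ = (α' ≫ s) ≫ ψ := by
      simp only [ψ, Category.assoc, reassoc_of% hip, IsIso.hom_inv_id_assoc]
    have h2 : (DCohBase.resD j').map ((α' ≫ s) ≫ ψ) =
        (DCohBase.resD j').map (α' ≫ s) ≫ (DCohBase.resD j').map ψ := Functor.map_comp _ _ _
    exact (congrArg (fun t => (DCohBase.resD j').map t) h1).trans (h2.trans (by rw [hψ]; exact comp_zero))
  -- splitting of the restricted triangle
  let T' := (DCohBase.resD j').mapTriangle.obj T₁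
  have hT' : T' ∈ distTriang _ := (DCohBase.resD j').map_distinguished T₁ hT₁
  have hT'0 : T'.mor₃ = 0 := by
    change (DCohBase.resD j').map T₁.mor₃ ≫ _ = 0
    rw [hw, zero_comp]
  obtain ⟨e, he₁, he₂⟩ := exists_iso_binaryBiproduct_of_distTriang T' hT' hT'0
  -- chain level
  let S := (HomologicalComplex.single Y.Modules (ComplexShape.up ℤ) n).obj (P.cycles n)
  let ιN : S ⟶ P := cyclesι P n
  obtain ⟨ρ, hρ⟩ : ∃ ρ : (DCohBase.resD j').obj (DerivedCategory.Q.obj P) ⟶
      (DCohBase.resD j').obj (DerivedCategory.Q.obj S),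
      (DCohBase.resD j').map (DerivedCategory.Q.map ιN) ≫ ρ = 𝟙 _ := by
    refine ⟨e.hom ≫ biprod.fst, ?_⟩
    change T'.mor₁ ≫ e.hom ≫ biprod.fst = 𝟙 _
    rw [reassoc_of% he₁, biprod.inl_fst]
  let P' := (resCx j').obj P
  let S' := (resCx j').obj S
  let ι' : S' ⟶ P' := (resCx j').map ιN
  let ρ' : DerivedCategory.Q.obj P' ⟶ DerivedCategory.Q.obj S' :=
    (resFac j').inv.app P ≫ ρ ≫ (resFac j').hom.app S
  have nat' : (DCohBase.resD j').map (DerivedCategory.Q.map ιN) ≫ (resFac j').hom.app P =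
      (resFac j').hom.app S ≫ DerivedCategory.Q.map ι' :=
    (restrictFunctor j').mapDerivedCategoryFactors_hom_naturality ιN
  have hρ' : DerivedCategory.Q.map ι' ≫ ρ' = 𝟙 _ := by
    have h1 : DerivedCategory.Q.map ι' = (resFac j').inv.app S ≫
        (DCohBase.resD j').map (DerivedCategory.Q.map ιN) ≫ (resFac j').hom.app P := by
      rw [nat', Iso.inv_hom_id_app_assoc]
    rw [h1]
    simp only [ρ', Category.assoc, Iso.hom_inv_id_app_assoc]
    rw [reassoc_of% hρ, Iso.inv_hom_id_app]
    rfl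
  obtain ⟨U'', j'', hj'', ⟨y'', hy''⟩, ρ₀, hρ₀⟩ :=
    exists_rep_locally P' S' (isStrictlyPerfect_resCx j' P hPsp) ρ' y'
  haveI := hj''
  let P'' := (resCx j'').obj P'
  let S'' := (resCx j'').obj S'
  let ι'' : S'' ⟶ P'' := (resCx j'').map ι'
  have nat'' : (DCohBase.resD j'').map (DerivedCategory.Q.map ι') ≫ (resFac j'').hom.app P' =
      (resFac j'').hom.app S' ≫ DerivedCategory.Q.map ι'' :=
    (restrictFunctor j'').mapDerivedCategoryFactors_hom_naturality ι'
  have hQc : DerivedCategory.Q.map (ι'' ≫ ρ₀) = 𝟙 _ := by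
    have h1 : DerivedCategory.Q.map ι'' = (resFac j'').inv.app S' ≫
        (DCohBase.resD j'').map (DerivedCategory.Q.map ι') ≫ (resFac j'').hom.app P' := by
      rw [nat'', Iso.inv_hom_id_app_assoc]
    have h2 : DerivedCategory.Q.map ρ₀ = (resFac j'').inv.app P' ≫
        (DCohBase.resD j'').map ρ' ≫ (resFac j'').hom.app S' := by
      rw [hρ₀]
      simp only [Category.assoc, Iso.inv_hom_id_app, Iso.inv_hom_id_app_assoc]
      exact (Category.comp_id _).symm
    rw [Functor.map_comp, h1, h2]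
    simp only [Category.assoc, Iso.hom_inv_id_app_assoc]
    rw [← Functor.map_comp_assoc, hρ', CategoryTheory.Functor.map_id, Category.id_comp,
      Iso.inv_hom_id_app]
    rfl
  -- the composite is the identity in degree `n`
  have hS'' : ∀ i : ℤ, i ≠ n → IsZero (S''.X i) := fun i hi =>
    (restrictFunctor j'').map_isZero ((restrictFunctor j').map_isZero
      (isZero_single_obj_X (ComplexShape.up ℤ) n (P.cycles n) i hi))
  have hcn : homologyMap (ι'' ≫ ρ₀) n = 𝟙 _ := homologyMap_eq_id_of_Q_map_eq_id _ n hQc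
  have hc : ι''.f n ≫ ρ₀.f n = 𝟙 _ := f_eq_id_of_homologyMap_eq_id S'' n hS'' (ι'' ≫ ρ₀) hcn
  have hP''sp : DCoh.IsStrictlyPerfect P'' :=
    isStrictlyPerfect_resCx j'' P' (isStrictlyPerfect_resCx j' P hPsp)
  have hS''sp : DCoh.IsStrictlyPerfect S'' := by
    refine ⟨⟨n, n, fun i hi => hS'' i (by omega)⟩, fun i => ?_⟩
    by_cases hi : i = n
    · subst hi
      exact isFinLocFree_of_retract (ι''.f i) (ρ₀.f i) hc (hP''sp.2 i)
    · exact isFinLocFree_of_isZero (hS'' i hi)
  have hcone : DCoh.IsStrictlyPerfect (CochainComplex.mappingCone ι'') :=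
    Groth.Agent.S6516.result ι'' hS''sp hP''sp
  refine ⟨U'', j'' ≫ j', inferInstance, ⟨y'', by rw [Scheme.Hom.comp_apply, hy'', hy']⟩,
    CochainComplex.mappingCone ι'', hcone, ⟨?_⟩⟩
  exact resDComp j' j'' K ≪≫
    (DCohBase.resD j'').mapIso ((DCohBase.resD j').mapIso (asIso α').symm) ≪≫
    (DCohBase.resD j'').mapIso (resDQ j' (CochainComplex.mappingCone ιN)) ≪≫
    resDQ j'' _ ≪≫
    DerivedCategory.Q.mapIso ((resCx j'').mapIso
      (CochainComplex.mappingCone.mapHomologicalComplexIso ιN (restrictFunctor j')) ≪≫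
      CochainComplex.mappingCone.mapHomologicalComplexIso ι' (restrictFunctor j''))


/-- local version of `perfAt_of_retract_of_data` -/
theorem perfAt_of_retract (K : DCoh.D Y) (E : CochainComplex Y.Modules ℤ)
    (hE : DCoh.IsStrictlyPerfect E) (n : ℤ) (hEa : ∀ i : ℤ, i < n + 2 → IsZero (E.X i))
    (s : K ⟶ DerivedCategory.Q.obj E) (p : DerivedCategory.Q.obj E ⟶ K) (hip : s ≫ p = 𝟙 K)
    (hpc : ∀ y, PCAt n K y) (y : Y) : PerfAt K y := by
  obtain ⟨U, j, hj, ⟨z, rfl⟩, hd⟩ := hpc y
  haveI := hj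
  apply perfAt_of_resD j K z
  refine perfAt_of_retract_of_data ((DCohBase.resD j).obj K) ((resCx j).obj E)
    (isStrictlyPerfect_resCx j E hE) n (fun i hi => (restrictFunctor j).map_isZero (hEa i hi))
    ((DCohBase.resD j).map s ≫ (resFac j).hom.app E) ((resFac j).inv.app E ≫ (DCohBase.resD j).map p)
    ?_ hd z
  simp only [Category.assoc, Iso.hom_inv_id_app_assoc]
  rw [← Functor.map_comp, hip, CategoryTheory.Functor.map_id]

/-- perfectness passes to direct summands -/
theorem isPerfect_biprod_left {X : Scheme.{u}} (K L : DCoh.D X) [HasBinaryBiproduct K L]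
    (h : DCoh.IsPerfect (K ⊞ L)) : DCoh.IsPerfect K := by
  rw [isPerfect_iff] at h ⊢
  intro x
  obtain ⟨U, j, hj, ⟨z, rfl⟩, E, hE, ⟨e⟩⟩ := h x
  haveI := hj
  apply perfAt_of_resD j K z
  obtain ⟨a, b, hab⟩ := hE.1
  haveI : PreservesBinaryBiproducts (DCohBase.resD j) :=
    preservesBinaryBiproducts_of_preservesBiproducts _
  have hS : PCData (a - 2) ((DCohBase.resD j).obj K ⊞ (DCohBase.resD j).obj L) :=
    PCData.of_iso (e.symm ≪≫ (DCohBase.resD j).mapBiprod K L)
      ⟨E, 𝟙 _, hE, fun i _ => by rw [CategoryTheory.Functor.map_id]; infer_instance, by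
        rw [CategoryTheory.Functor.map_id]; infer_instance⟩
  have hpc : ∀ y, PCAt (a - 2) ((DCohBase.resD j).obj K) y :=
    pcAt_biprod_left_of_data (a - 2) _ _ hS
  refine perfAt_of_retract ((DCohBase.resD j).obj K) E hE (a - 2)
    (fun i hi => hab i (Or.inl (by omega)))
    ((DCohBase.resD j).map biprod.inl ≫ e.hom) (e.inv ≫ (DCohBase.resD j).map biprod.fst) ?_ hpc z
  simp only [Category.assoc, Iso.hom_inv_id_assoc]
  rw [← Functor.map_comp, biprod.inl_fst, CategoryTheory.Functor.map_id]

end Core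

end Groth.Agent.Lib.Helper2.DCohSummand
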