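import Groth.Agent.Lib.Helper2.DCohFlat
import Groth.Agent.Lib.Helper2.DCohFP
import Groth.Agent.Lib.Helper2.DCohSummand
import Mathlib.Algebra.Homology.Embedding.CochainComplex

/-!
# Flat amplitude + pseudo-coherence ⇒ perfect (helper2)
-/

set_option autoImplicit false
universe u
open CategoryTheory Limits AlgebraicGeometry HomologicalComplex
attribute [local instance] HasDerivedCategory.standard

namespace Groth.Agent.Lib.Helper2.DCohTorAmp

open Scheme.Modules Groth.Agent.Lib.Helper2.DCohFlat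
open Groth.Agent.Lib.Helper2.DCohBase Groth.Agent.Lib.Helper2.DCohHom
open Groth.Agent.Lib.Helper2.DCohCoh Groth.Agent.Lib.Helper2.DCohOpens
open Groth.Agent.Lib.Helper2.DCohPC Groth.Agent.Lib.Helper2.DCohPerf
open Groth.Agent.Lib.Helper2.DCohLift Groth.Agent.Lib.Helper2.DCohFP

section Opcycles

variable {X : Scheme.{u}}

theorem mono_fromOpcycles (C : CochainComplex X.Modules ℤ) (i j : ℤ) (hij : i + 1 = j)
    (h : IsZero (C.homology i)) : Mono (C.fromOpcycles i j) := by
  apply Preadditive.mono_of_cancel_zero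
  intro W g hg
  have hl := C.homologyIsKernel i j (by simp [hij])
  obtain ⟨l, hl'⟩ := KernelFork.IsLimit.lift' hl g hg
  rw [← hl', h.eq_of_tgt l 0, zero_comp]

/-- `0 → C^i/B^i → C^{i+1} → C^{i+1}/B^{i+1} → 0` is exact when `H^i(C) = 0` -/
theorem shortExact_opcycles (C : CochainComplex X.Modules ℤ) (i j : ℤ) (hij : i + 1 = j)
    (h : IsZero (C.homology i)) :
    (ShortComplex.mk (C.fromOpcycles i j) (C.pOpcycles j) (by
      rw [← cancel_epi (C.pOpcycles i), C.p_fromOpcycles_assoc, C.d_pOpcycles, comp_zero])).ShortExact := by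
  haveI := mono_fromOpcycles C i j hij h
  have hc : IsColimit (CokernelCofork.ofπ (f := C.fromOpcycles i j) (C.pOpcycles j) (by
      rw [← cancel_epi (C.pOpcycles i), C.p_fromOpcycles_assoc, C.d_pOpcycles, comp_zero])) :=
    isCokernelOfComp (f := C.fromOpcycles i j) (C.pOpcycles i) (C.d i j)
      (C.opcyclesIsCokernel i j (by simp; omega)) _ (C.p_fromOpcycles i j)
  exact { exact := ShortComplex.exact_of_g_is_cokernel _ hc }

/-- the quotients `C^i/B^i` of a bounded above complex of flat modules are flat in the range where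
the complex is exact -/
theorem isFlat_opcycles (C : CochainComplex X.Modules ℤ) (N : ℤ)
    (hN : ∀ i : ℤ, N < i → IsZero (C.X i)) (n : ℤ)
    (hfl : ∀ i : ℤ, n < i → FlatMod.IsFlat (C.X i))
    (hex : ∀ i : ℤ, n ≤ i → IsZero (C.homology i)) :
    ∀ i : ℤ, n ≤ i → FlatMod.IsFlat (C.opcycles i) := by
  have key : ∀ (k : ℕ) (i : ℤ), n ≤ i → N + 1 ≤ i + k → FlatMod.IsFlat (C.opcycles i) := by
    intro k
    induction k with
    | zero =>
      intro i _ hi
      have h0 : IsZero (C.opcycles i) := by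
        have hz := hN i (by omega)
        rw [IsZero.iff_id_eq_zero, ← cancel_epi (C.pOpcycles i), comp_zero, Category.comp_id]
        exact hz.eq_of_src _ _
      exact isFlat_of_isZero _ h0
    | succ k ih =>
      intro i hi hik
      have h1 := ih (i + 1) (by omega) (by push_cast at hik ⊢; omega)
      exact isFlat_X₁ _ (shortExact_opcycles C i (i + 1) rfl (hex i hi)) (hfl (i + 1) (by omega)) h1
  intro i hi
  exact key (N + 1 - i).toNat i hi (by omega)

end Opcycles

section Cone

variable {X : Scheme.{u}} {A B : CochainComplex X.Modules ℤ} (φ : A ⟶ B)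

open CochainComplex CochainComplex.HomComplex

/-- the terms of the mapping cone of a map between complexes of flat modules are flat -/
theorem isFlat_mappingCone_X (hA : ∀ i, FlatMod.IsFlat (A.X i)) (hB : ∀ i, FlatMod.IsFlat (B.X i))
    (i : ℤ) : FlatMod.IsFlat ((mappingCone φ).X i) := by
  let S : ShortComplex X.Modules := ShortComplex.mk ((mappingCone.inr φ).f i)
    ((mappingCone.fst φ).1.v i (i + 1) rfl) (mappingCone.inr_f_fst_v φ i (i + 1) rfl)
  have hS : S.ShortExact := by
    refine ShortComplex.Splitting.shortExact (S := S) ?_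
    exact
      { r := (mappingCone.snd φ).v i i (add_zero i)
        s := (mappingCone.inl φ).v (i + 1) i (by omega)
        f_r := mappingCone.inr_f_snd_v φ i
        s_g := mappingCone.inl_v_fst_v φ (i + 1) i rfl
        id := by
          rw [add_comm]
          exact mappingCone.id_X φ i (i + 1) rfl }
  exact isFlat_X₂ S hS (hB i) (hA (i + 1))

/-- the term of the mapping cone in a degree where the target vanishes -/
noncomputable def coneXIso (i j : ℤ) (hij : i + 1 = j) (hB : IsZero (B.X i)) :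
    (mappingCone φ).X i ≅ A.X j where
  hom := (mappingCone.fst φ).1.v i j hij
  inv := (mappingCone.inl φ).v j i (by omega)
  hom_inv_id := by
    have h := mappingCone.id_X φ i j hij
    rw [hB.eq_of_tgt ((mappingCone.snd φ).v i i (add_zero i)) 0, zero_comp, add_zero] at h
    exact h
  inv_hom_id := mappingCone.inl_v_fst_v φ j i hij

/-- the negative of an isomorphism -/
def negIso {C : Type*} [Category C] [Preadditive C] {M N : C} (e : M ≅ N) : M ≅ N where
  hom := -e.hom
  inv := -e.inv
  hom_inv_id := by simp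
  inv_hom_id := by simp

/-- flatness of `A^m / B^m(A)` from the exactness of the mapping cone of `φ : A ⟶ B` in degrees
`≥ m - 1` when `B` vanishes in degrees `m - 1`, `m - 2` -/
theorem isFlat_opcycles_of_cone (m N : ℤ)
    (hA : ∀ i, FlatMod.IsFlat (A.X i)) (hB : ∀ i, FlatMod.IsFlat (B.X i))
    (hAN : ∀ i : ℤ, N < i → IsZero (A.X i)) (hBN : ∀ i : ℤ, N < i → IsZero (B.X i))
    (hB1 : IsZero (B.X (m - 1))) (hB2 : IsZero (B.X (m - 2)))
    (hex : ∀ i : ℤ, m - 1 ≤ i → IsZero ((mappingCone φ).homology i)) :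
    FlatMod.IsFlat (A.opcycles m) := by
  have h1 : FlatMod.IsFlat ((mappingCone φ).opcycles (m - 1)) :=
    isFlat_opcycles (mappingCone φ) N
      (fun i hi => (mappingCone.isZero_X_iff φ i).2 ⟨hAN (i + 1) (by omega), hBN i hi⟩) (m - 1)
      (fun i _ => isFlat_mappingCone_X φ hA hB i) hex (m - 1) le_rfl
  let p : (mappingCone φ).X (m - 2) ≅ A.X (m - 1) := negIso (coneXIso φ (m - 2) (m - 1) (by omega) hB2)
  let q : (mappingCone φ).X (m - 1) ≅ A.X m := coneXIso φ (m - 1) m (by omega) hB1
  have w : (mappingCone φ).d (m - 2) (m - 1) ≫ q.hom = p.hom ≫ A.d (m - 1) m := by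
    change (mappingCone φ).d (m - 2) (m - 1) ≫ (mappingCone.fst φ).1.v (m - 1) m _ =
      (-(mappingCone.fst φ).1.v (m - 2) (m - 1) _) ≫ A.d (m - 1) m
    rw [mappingCone.d_fst_v φ (m - 2) (m - 1) m (by omega) (by omega), Preadditive.neg_comp]
  let e1 : (mappingCone φ).opcycles (m - 1) ≅ cokernel ((mappingCone φ).d (m - 2) (m - 1)) :=
    IsColimit.coconePointUniqueUpToIso
      ((mappingCone φ).opcyclesIsCokernel (m - 2) (m - 1) (by simp; omega)) (colimit.isColimit _)
  let e2 : A.opcycles m ≅ cokernel (A.d (m - 1) m) :=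
    IsColimit.coconePointUniqueUpToIso
      (A.opcyclesIsCokernel (m - 1) m (by simp)) (colimit.isColimit _)
  exact isFlat_of_iso (e1 ≪≫ cokernel.mapIso _ _ p q w ≪≫ e2.symm) h1

end Cone

section FP

open Groth.Agent.Lib.Lead.CohAff Groth.Agent.Lib.Helper2.FreeModAff

variable {W : Scheme.{u}}

/-- the cokernel of a map between finite free modules has a finite presentation -/
theorem hasFinPres_cokernel {M N : W.Modules} (φ : M ⟶ N) (a b : ℕ)
    (ea : M ≅ FlatMod.freeMod W a) (eb : N ≅ FlatMod.freeMod W b) :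
    HasFinPres (R := W.ringCatSheaf) (cokernel φ) := by
  let F : W.Modules := SheafOfModules.free (R := W.ringCatSheaf) (Idx.{u} b)
  let ι : F ≅ N := (freeModIso W b).symm ≪≫ eb.symm
  let π : F ⟶ cokernel φ := ι.hom ≫ cokernel.π φ
  have hπ : Epi π := epi_comp _ _
  refine hasFinPres_of_epi (R := W.ringCatSheaf) (σ := Idx.{u} b) π hπ ?_
  have h0 : Epi (Abelian.factorThruImage φ) := inferInstance
  have h1 : HasFinGen (R := W.ringCatSheaf) (kernel (cokernel.π φ)) :=
    hasFinGen_quot (R := W.ringCatSheaf) (hasFinGen_of_iso_freeMod a ea)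
      (Abelian.factorThruImage φ) h0
  let κ : kernel π ≅ kernel (cokernel.π φ) := kernelIsIsoComp ι.hom (cokernel.π φ)
  exact h1.of_iso κ.symm

variable {Y : Scheme.{u}}

/-- cokernels of the differentials of a strictly perfect complex are finitely presented -/
theorem isFP_cokernel_d (P : CochainComplex Y.Modules ℤ) (hP : DCoh.IsStrictlyPerfect P) (i j : ℤ) :
    SheafOfModules.IsFinitePresentation (R := Y.ringCatSheaf) (cokernel (P.d i j)) := by
  refine isFP_of_locally_hasFinPres _ (fun y => ?_)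
  obtain ⟨V, hyV, hV⟩ := exists_free_nhd P hP y
  refine ⟨V, hyV, ?_⟩
  obtain ⟨a, ⟨ea⟩⟩ := hV i
  obtain ⟨b, ⟨eb⟩⟩ := hV j
  have h1 : HasFinPres (R := (V : Scheme.{u}).ringCatSheaf)
      (cokernel ((restrictFunctor V.ι).map (P.d i j))) :=
    hasFinPres_cokernel ((restrictFunctor V.ι).map (P.d i j)) a b ea eb
  exact h1.of_iso (PreservesCokernel.iso (restrictFunctor V.ι) (P.d i j)).symm

theorem isQuasicoherent_cokernel_d (P : CochainComplex Y.Modules ℤ) (hP : DCoh.IsStrictlyPerfect P)
    (i j : ℤ) : (cokernel (P.d i j)).IsQuasicoherent := by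
  haveI := Groth.Agent.Lib.Helper2.RankSections.isQuasicoherent_of_isFinLocFree _ (hP.2 i)
  haveI := Groth.Agent.Lib.Helper2.RankSections.isQuasicoherent_of_isFinLocFree _ (hP.2 j)
  exact Groth.Agent.Lib.Helper21.QCohKernel.isQuasicoherent_cokernel (P.d i j)

/-- if `P^n / B^n(P)` is flat for a strictly perfect complex `P`, it is finite locally free -/
theorem isFinLocFree_opcycles (P : CochainComplex Y.Modules ℤ) (hP : DCoh.IsStrictlyPerfect P)
    (n : ℤ) (hfl : FlatMod.IsFlat (P.opcycles n)) : FlatMod.IsFinLocFree (P.opcycles n) := by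
  let e : P.opcycles n ≅ cokernel (P.d (n - 1) n) :=
    IsColimit.coconePointUniqueUpToIso
      (P.opcyclesIsCokernel (n - 1) n (by simp)) (colimit.isColimit _)
  haveI := isQuasicoherent_cokernel_d P hP (n - 1) n
  have h1 : FlatMod.IsFinLocFree (cokernel (P.d (n - 1) n)) :=
    Groth.Agent.Lib.Helper2.FinLocFreeAff.isFinLocFree_of_flat_of_isFP _ (isFlat_of_iso e hfl)
      (isFP_cokernel_d P hP (n - 1) n)
  exact Groth.Agent.Lib.Helper7.FinLocFree.isFinLocFree_of_iso e.symm h1

end FP

section Main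

variable {U : Scheme.{u}}

theorem isIso_homologyMap_of_Q {E E' : CochainComplex U.Modules ℤ} (f : E ⟶ E') (i : ℤ)
    (h : IsIso ((DerivedCategory.homologyFunctor U.Modules i).map (DerivedCategory.Q.map f))) :
    IsIso (HomologicalComplex.homologyMap f i) := by
  have e := homology_Q_map_eq f i
  have h2 : HomologicalComplex.homologyMap f i =
      (DerivedCategory.homologyFunctorFactors U.Modules i).inv.app E ≫
        (DerivedCategory.homologyFunctor U.Modules i).map (DerivedCategory.Q.map f) ≫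
        (DerivedCategory.homologyFunctorFactors U.Modules i).hom.app E' := by
    rw [e]
    simp
  rw [h2]
  have h3 : IsIso ((DerivedCategory.homologyFunctorFactors U.Modules i).inv.app E) := inferInstance
  have h4 : IsIso ((DerivedCategory.homologyFunctorFactors U.Modules i).hom.app E') := inferInstance
  have h5 := @IsIso.comp_isIso _ _ _ _ _ _ _ h h4
  exact @IsIso.comp_isIso _ _ _ _ _ _ _ h3 h5

/-- the chain level statement: a map from a strictly perfect complex to a complex of flat modules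
placed in `[a, b]` which is an `(a - 1)`-pseudo-coherence datum exhibits the target as a strictly
perfect complex up to quasi-isomorphism -/
theorem exists_strictlyPerfect_of_chain (P G : CochainComplex U.Modules ℤ) (f : P ⟶ G) (a b : ℤ)
    (hG0 : DCoh.VanishesOutside G a b) (hGfl : ∀ i, FlatMod.IsFlat (G.X i))
    (hf : IsPC (a - 1) P (DerivedCategory.Q.map f)) :
    ∃ E' : CochainComplex U.Modules ℤ, DCoh.IsStrictlyPerfect E' ∧
      Nonempty (DerivedCategory.Q.obj G ≅ DerivedCategory.Q.obj E') := by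
  obtain ⟨hPsp, hiso, hepi⟩ := hf
  obtain ⟨⟨a', b', hP0⟩, hPfl⟩ := hPsp
  let T₁ := DerivedCategory.Q.mapTriangle.obj (CochainComplex.mappingCone.triangle f)
  have hT₁ : T₁ ∈ distTriang _ := DerivedCategory.mappingCone_triangle_distinguished f
  have hex : ∀ i : ℤ, a - 1 ≤ i → IsZero ((CochainComplex.mappingCone f).homology i) := by
    intro i hi
    have h1 : IsZero ((DerivedCategory.homologyFunctor U.Modules i).obj T₁.obj₃) :=
      isZero_homology_cone (K := DerivedCategory.Q.obj G) (E := P) (α := DerivedCategory.Q.map f)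
        ⟨⟨⟨a', b', hP0⟩, hPfl⟩, hiso, hepi⟩ T₁.obj₃ T₁.mor₂ T₁.mor₃ hT₁ i hi
    exact IsZero.of_iso h1
      ((DerivedCategory.homologyFunctorFactors U.Modules i).app (CochainComplex.mappingCone f)).symm
  have hflat : FlatMod.IsFlat (P.opcycles a) :=
    isFlat_opcycles_of_cone f a (max b b') (fun i => isFlat_of_isFinLocFree _ (hPfl i)) hGfl
      (fun i hi => hP0 i (Or.inr (by omega))) (fun i hi => hG0 i (Or.inr (by omega)))
      (hG0 _ (Or.inl (by omega))) (hG0 _ (Or.inl (by omega))) hex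
  have hlf : FlatMod.IsFinLocFree (P.opcycles a) :=
    isFinLocFree_opcycles P ⟨⟨a', b', hP0⟩, hPfl⟩ a hflat
  refine ⟨P.truncGE a, ⟨⟨a, max a b', ?_⟩, ?_⟩, ?_⟩
  · intro i hi
    rcases hi with hi | hi
    · exact (P.truncGE a).isZero_of_isStrictlyGE a i hi
    · exact IsZero.of_iso (hP0 i (Or.inr (by omega))) (P.truncGEXIso a i (by omega))
  · intro i
    rcases lt_trichotomy i a with hi | hi | hi
    · exact isFinLocFree_of_isZero ((P.truncGE a).isZero_of_isStrictlyGE a i hi)
    · subst hi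
      exact Groth.Agent.Lib.Helper7.FinLocFree.isFinLocFree_of_iso (P.truncGEXIsoOpcycles i).symm hlf
    · exact Groth.Agent.Lib.Helper7.FinLocFree.isFinLocFree_of_iso (P.truncGEXIso a i hi).symm
        (hPfl i)
  · haveI : G.IsStrictlyGE a :=
      (CochainComplex.isStrictlyGE_iff G a).2 (fun i hi => hG0 i (Or.inl hi))
    haveI : QuasiIso (CochainComplex.truncGEMap f a) :=
      (CochainComplex.quasiIso_truncGEMap_iff f a).2 (fun i hi => by
        rw [quasiIsoAt_iff_isIso_homologyMap]
        exact isIso_homologyMap_of_Q f i (hiso i (by omega)))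
    exact ⟨DerivedCategory.Q.mapIso (asIso (G.πTruncGE a)) ≪≫
      (asIso (DerivedCategory.Q.map (CochainComplex.truncGEMap f a))).symm⟩

/-- the local statement: flat amplitude in `[a, b]` and `(a - 1)`-pseudo-coherence near `y` imply
perfectness near `y` -/
theorem perfAt_of_flat_of_pcAt (K : DCoh.D U) (G : CochainComplex U.Modules ℤ) (a b : ℤ)
    (hG0 : DCoh.VanishesOutside G a b) (hGfl : ∀ i, FlatMod.IsFlat (G.X i))
    (e : DerivedCategory.Q.obj G ≅ K) (y : U) (hpc : PCAt (a - 1) K y) : PerfAt K y := by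
  obtain ⟨U₁, j₁, hj₁, ⟨y₁, hy₁⟩, hd⟩ := hpc
  haveI := hj₁
  let G₁ := (resCx j₁).obj G
  let ε₁ : (resD j₁).obj K ≅ DerivedCategory.Q.obj G₁ := (resD j₁).mapIso e.symm ≪≫ resDQ j₁ G
  obtain ⟨P, α, hP, hiso, hepi⟩ := hd.of_iso ε₁
  obtain ⟨U₂, j₂, hj₂, ⟨y₂, hy₂⟩, f, hf⟩ := exists_rep_locally P G₁ hP α y₁
  haveI := hj₂
  let P₂ := (resCx j₂).obj P
  let G₂ := (resCx j₂).obj G₁
  have hα₂ : IsPC (a - 1) P₂ ((resFac j₂).inv.app P ≫ (resD j₂).map α) :=
    IsPC.restrict ⟨hP, hiso, hepi⟩ j₂
  have hQf : DerivedCategory.Q.map f =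
      ((resFac j₂).inv.app P ≫ (resD j₂).map α) ≫ (resFac j₂).hom.app G₁ := by
    rw [hf]
    simp
  have hPC : IsPC (a - 1) P₂ (DerivedCategory.Q.map f) := by
    rw [hQf]
    obtain ⟨h1, h2, h3⟩ := hα₂
    refine ⟨h1, fun i hi => ?_, ?_⟩
    · rw [Functor.map_comp]
      haveI := h2 i hi
      infer_instance
    · rw [Functor.map_comp]
      infer_instance
  have hG₂0 : DCoh.VanishesOutside G₂ a b := fun i hi =>
    (restrictFunctor j₂).map_isZero ((restrictFunctor j₁).map_isZero (hG0 i hi))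
  have hG₂fl : ∀ i, FlatMod.IsFlat (G₂.X i) := fun i =>
    isFlat_restrict j₂ _ (isFlat_restrict j₁ _ (hGfl i))
  obtain ⟨E', hE', ⟨ε⟩⟩ := exists_strictlyPerfect_of_chain P₂ G₂ f a b hG₂0 hG₂fl hPC
  refine ⟨U₂, j₂ ≫ j₁, inferInstance, ⟨y₂, by rw [Scheme.Hom.comp_apply, hy₂, hy₁]⟩, E', hE', ⟨?_⟩⟩
  exact resDComp j₁ j₂ K ≪≫ (resD j₂).mapIso ε₁ ≪≫ resDQ j₂ G₁ ≪≫ ε

end Main

end Groth.Agent.Lib.Helper2.DCohTorAmp
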