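import Groth.Agent.Lib.Helper2.LpullComp
import Groth.Agent.Lib.Helper2.DCohPerf
import Groth.Agent.Lib.Helper12.LTC5

/-!
# `Lf^*` and restriction to opens
-/

set_option autoImplicit false
universe u
open CategoryTheory CategoryTheory.Limits AlgebraicGeometry
attribute [local instance] HasDerivedCategory.standard

namespace Groth.Agent.Lib.Helper2.Lpull

open Groth.Agent.Lib.Helper12 Groth.Agent.Lib.Helper12.Sky Groth.Agent.Lib.Helper12.StalkExact
open Groth.Agent.Lib.Helper2.DCohBase Groth.Agent.Lib.Helper2.DCohPerf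

section Iso

variable {X : Scheme.{u}}

/-- K-flatness is invariant under isomorphisms of complexes -/
theorem dcoh_isKFlat_of_iso {K L : CochainComplex X.Modules ℤ} (e : K ≅ L)
    (hK : DCoh.IsKFlat K) : DCoh.IsKFlat L := by
  rw [isKFlat_iff_stalks] at hK ⊢
  intro x
  exact isKFlat_of_iso ((stalkCx X x).mapIso e) (hK x)

/-- every object of `D(O_X)` is represented by a K-flat complex -/
theorem exists_kflat_rep (E : DCoh.D X) :
    ∃ K : CochainComplex X.Modules ℤ, DCoh.IsKFlat K ∧ Nonempty (DerivedCategory.Q.obj K ≅ E) := by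
  obtain ⟨F, ⟨e⟩⟩ := exists_rep E
  obtain ⟨K, q, hK, hq⟩ := LTC.exists_isKFlat_resolution F
  have : IsIso (DerivedCategory.Q.map q) := (DerivedCategory.isIso_Q_map_iff_quasiIso _ q).mpr hq
  exact ⟨K, hK, ⟨asIso (DerivedCategory.Q.map q) ≪≫ e⟩⟩

end Iso

section Res

variable {X Y U V : Scheme.{u}} (f : X ⟶ Y) (j : U ⟶ Y) [IsOpenImmersion j]
  (j' : V ⟶ X) [IsOpenImmersion j'] (f' : V ⟶ U) (w : j' ≫ f = f' ≫ j)

/-- restriction to an open is a pullback, on complexes -/
noncomputable def resCxIsoPbCx : resCx j ≅ pbCx j :=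
  NatIso.mapHomologicalComplex (Scheme.Modules.restrictFunctorIsoPullback j) (ComplexShape.up ℤ)

/-- the restriction of a K-flat complex to an open is K-flat -/
theorem isKFlat_resCx (K : CochainComplex Y.Modules ℤ) (hK : DCoh.IsKFlat K) :
    DCoh.IsKFlat ((resCx j).obj K) :=
  dcoh_isKFlat_of_iso ((resCxIsoPbCx j).app K).symm (isKFlat_pbCx j K hK)

include w in
/-- `(f^* M)|_V ≅ f'^*(M|_U)` naturally, for a commutative square of schemes with open immersions
`j`, `j'`. -/
noncomputable def resPbNatIso :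
    Scheme.Modules.pullback f ⋙ Scheme.Modules.restrictFunctor j' ≅
      Scheme.Modules.restrictFunctor j ⋙ Scheme.Modules.pullback f' :=
  Functor.isoWhiskerLeft (Scheme.Modules.pullback f) (Scheme.Modules.restrictFunctorIsoPullback j') ≪≫
    Scheme.Modules.pullbackComp j' f ≪≫ Scheme.Modules.pullbackCongr w ≪≫
    (Scheme.Modules.pullbackComp f' j).symm ≪≫
    Functor.isoWhiskerRight (Scheme.Modules.restrictFunctorIsoPullback j).symm
      (Scheme.Modules.pullback f')

/-- the same on complexes -/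
noncomputable def resPbCxIso (K : CochainComplex Y.Modules ℤ) :
    (resCx j').obj ((pbCx f).obj K) ≅ (pbCx f').obj ((resCx j).obj K) :=
  (NatIso.mapHomologicalComplex (resPbNatIso f j j' f' w) (ComplexShape.up ℤ)).app K

variable [DCoh.HasLpull f] [DCoh.HasLpull f']

include w in
/-- `(Lf^* E)|_V ≅ Lf'^*(E|_U)` (object-level) -/
theorem nonempty_resD_lpull_iso (E : DCoh.D Y) :
    Nonempty ((resD j').obj ((DCoh.Lpull f).obj E) ≅ (DCoh.Lpull f').obj ((resD j).obj E)) := by
  obtain ⟨K, hK, ⟨e⟩⟩ := exists_kflat_rep E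
  refine ⟨(resD j').mapIso ((DCoh.Lpull f).mapIso e.symm) ≪≫ (resD j').mapIso (lpIso f K hK) ≪≫
    resDQ j' _ ≪≫ DerivedCategory.Q.mapIso (resPbCxIso f j j' f' w K) ≪≫
    (lpIso f' _ (isKFlat_resCx j K hK)).symm ≪≫ (DCoh.Lpull f').mapIso (resDQ j K).symm ≪≫
    (DCoh.Lpull f').mapIso ((resD j).mapIso e)⟩

end Res

end Groth.Agent.Lib.Helper2.Lpull
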