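import Groth.Agent.Lib.Helper25.KFlatBC
import Groth.Prelude.Def_DRing2

/-!
# The projection formula for complexes of modules, as an isomorphism of complexes

`(L'|_R) ⊗_R K ≅ (L' ⊗_{R'} (R' ⊗_R K))|_R` (helper25's additive bijection `Psi` is linear).
-/

set_option autoImplicit false
universe u

namespace Groth.Agent.Lib.Helper2.PsiIso

open CategoryTheory CategoryTheory.Limits MonoidalCategory HomologicalComplex TensorProduct
open Groth.Agent.Lib.Helper25.TensorCx Groth.Agent.Lib.Helper25.KFlat

variable {R R' : Type u} [CommRing R] [CommRing R'] (φ : R →+* R')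
variable (L' : Cx R') (K : Cx R)

theorem Psi_smul (n : ℤ) (r : R) (x : (resCx φ L' ⊗ K : Cx R).X n) :
    Psi φ L' K n (r • x) = φ r • Psi φ L' K n x := by
  induction x using tm_induction (resCx φ L') K with
  | zero => rw [smul_zero, map_zero, smul_zero]
  | add x y hx hy => rw [smul_add, map_add, hx, hy, map_add, smul_add]
  | tm' p q h l k =>
    rw [← tm_smul_left, Psi_tm, Psi_tm, ← tm_smul_left]
    rfl

/-- the linear map in degree `n` -/
noncomputable def PsiLin (n : ℤ) :
    ((resCx φ L' ⊗ K : Cx R).X n) →ₗ[R]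
      ((ModuleCat.restrictScalars φ).obj ((L' ⊗ extCx φ K : Cx R').X n) : ModuleCat.{u} R) where
  toFun := fun x => Psi φ L' K n x
  map_add' := fun x y => map_add _ x y
  map_smul' := fun r x => Psi_smul φ L' K n r x

/-- the linear equivalence in degree `n` -/
noncomputable def PsiEquiv (n : ℤ) :
    ((resCx φ L' ⊗ K : Cx R).X n) ≃ₗ[R]
      ((ModuleCat.restrictScalars φ).obj ((L' ⊗ extCx φ K : Cx R').X n) : ModuleCat.{u} R) :=
  LinearEquiv.ofBijective (PsiLin φ L' K n) (Psi_bijective φ L' K n)

/-- **Projection formula** as an isomorphism of complexes of `R`-modules. -/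
noncomputable def psiIso :
    (resCx φ L' ⊗ K : Cx R) ≅ (DRing.restrictCx φ).obj (L' ⊗ extCx φ K : Cx R') :=
  HomologicalComplex.Hom.isoOfComponents (fun n => (PsiEquiv φ L' K n).toModuleIso) (by
    intro i j hij
    have hij' : i + 1 = j := hij
    ext x
    exact Psi_d φ L' K i j hij' x)

end Groth.Agent.Lib.Helper2.PsiIso
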