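import Groth.Agent.Lib.Helper2.TorAmpBC
import Groth.Agent.Lib.Helper2.LpullRes
import Groth.Agent.Lib.Helper12.StalkTor
import Groth.Agent.Lib.Helper2.PsiIso
import Groth.Agent.Lib.Helper12.SkyK
import Groth.Agent.Lib.Helper25.TensorBraid

/-!
# Stalks of derived pullbacks, relative to a base (for the stalkwise tor amplitude of `DerSch`)
-/

set_option autoImplicit false
universe u
open CategoryTheory CategoryTheory.Limits AlgebraicGeometry

attribute [local instance] HasDerivedCategory.standard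

namespace Groth.Agent.Lib.Helper2.StalkLpull

open Groth.Agent.Lib.Helper2.Lpull Groth.Agent.Lib.Helper12 Groth.Agent.Lib.Helper12.Sky
  Groth.Agent.Lib.Helper12.StalkExact Groth.Agent.Lib.Helper12.StalkTor
  Groth.Agent.Lib.Helper84.FlatAmp Groth.Agent.Lib.Helper15

variable {X Y Z : Scheme.{u}}

/-- an isomorphism in `D(O_X)` induces an isomorphism of the complexes of stalks over the base -/
noncomputable def stalkCxOverDIso (h : X ⟶ Z) {E F : CochainComplex X.Modules ℤ}
    (e : DCoh.toD X E ≅ DCoh.toD X F) (x : X) :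
    DRing.toD ((DerSch.stalkCxOver h x).obj E) ≅ DRing.toD ((DerSch.stalkCxOver h x).obj F) :=
  (PseudoCohRes.restrictDQIso (h.stalkMap x).hom ((stalkCx X x).obj E)).symm ≪≫
    (DRing.restrictD (h.stalkMap x).hom).mapIso (stalkCxDIso e x) ≪≫
    PseudoCohRes.restrictDQIso (h.stalkMap x).hom ((stalkCx X x).obj F)

/-- tor amplitude at a point only depends on the class in `D(O_X)` -/
theorem hasTorAmplitudeAt_of_iso (h : X ⟶ Z) {E F : CochainComplex X.Modules ℤ}
    (e : DCoh.toD X E ≅ DCoh.toD X F) (a b : ℤ) (x : X)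
    (hE : DerSch.HasTorAmplitudeAt h a b E x) : DerSch.HasTorAmplitudeAt h a b F x :=
  torAmp_of_iso hE (stalkCxOverDIso h e x)

/-- `O_{X,x}` as an `O_{Y,f x}`-module has the tor amplitude of the structure sheaf -/
theorem torAmp_modOf_of_unit (f : X ⟶ Y) (x : X) (a b : ℤ)
    (hf : DerSch.HasTorAmplitudeAt f a b (DerSch.unitCx X) x) :
    DRing.HasTorAmplitudeIn (Y.presheaf.stalk (f.base x)) a b
      ((DerivedCategory.singleFunctor (ModuleCat.{u} (Y.presheaf.stalk (f.base x))) 0).obj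
        (TorAmpBC.modOf (f.stalkMap x).hom)) :=
  torAmp_of_iso hf (toDSingleIso (DerSch.stalkOver f x) (Coh.structureModule X) ≪≫
    (DerivedCategory.singleFunctor _ 0).mapIso
      ((ModuleCat.restrictScalars (f.stalkMap x).hom).mapIso
        (Groth.Agent.Lib.Helper29.QCohLoc.stalkEquiv X x).symm.toModuleIso))

/-- **Stalkwise tor amplitude of a pulled back K-flat complex.** -/
theorem hasTorAmplitudeAt_pbCx (f : X ⟶ Y) (g : Y ⟶ Z) (P : CochainComplex Y.Modules ℤ)
    (hP : DCoh.IsKFlat P) (a b c d : ℤ) (x : X)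
    (hf : DerSch.HasTorAmplitudeAt f a b (DerSch.unitCx X) x)
    (hG : DerSch.HasTorAmplitudeAt g c d P (f.base x)) :
    DerSch.HasTorAmplitudeAt (f ≫ g) (a + c) (b + d) ((pbCx f).obj P) x := by
  have hPy : DRing.IsKFlat _ ((stalkCx Y (f.base x)).obj P) := stalks_isKFlat P hP (f.base x)
  have h1 := TorAmpBC.torAmp_ext (f.stalkMap x).hom (g.stalkMap (f.base x)).hom
    ((stalkCx Y (f.base x)).obj P) hPy a b c d (torAmp_modOf_of_unit f x a b hf) hG
  exact torAmp_of_iso h1
    (DerivedCategory.Q.mapIso ((DRing.restrictCx (g.stalkMap (f.base x)).hom).mapIso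
      ((DRing.restrictCx (f.stalkMap x).hom).mapIso (stalkPbCxIso f P x).symm)) ≪≫
      DerivedCategory.Q.mapIso (stalkCxOverCompIso f g x ((pbCx f).obj P)))

/-- **Stalkwise tor amplitude of `f^*P ⊗ F`** for `P` K-flat. -/
theorem hasTorAmplitudeAt_tensor_pbCx (f : X ⟶ Y) (g : Y ⟶ Z) (P : CochainComplex Y.Modules ℤ)
    (hP : DCoh.IsKFlat P) (F : CochainComplex X.Modules ℤ) (a b c d : ℤ) (x : X)
    (hF : DerSch.HasTorAmplitudeAt f a b F x)
    (hG : DerSch.HasTorAmplitudeAt g c d P (f.base x)) :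
    DerSch.HasTorAmplitudeAt (f ≫ g) (a + c) (b + d)
      ((DCoh.tensorCx.obj ((pbCx f).obj P)).obj F) x := by
  have hPy : DRing.IsKFlat _ ((stalkCx Y (f.base x)).obj P) := stalks_isKFlat P hP (f.base x)
  have h1 := TorAmpBC.torAmp_res_tensor_of_iso (g.stalkMap (f.base x)).hom
    ((DRing.restrictCx (f.stalkMap x).hom).obj ((stalkCx X x).obj F))
    ((stalkCx Y (f.base x)).obj P) hPy a b c d hF hG
  have e1 := PsiIso.psiIso (f.stalkMap x).hom ((stalkCx X x).obj F) ((stalkCx Y (f.base x)).obj P)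
  have e2 := Groth.Agent.Lib.Helper25.TensorCx.braid ((stalkCx X x).obj F)
    (Groth.Agent.Lib.Helper25.KFlat.extCx (f.stalkMap x).hom ((stalkCx Y (f.base x)).obj P))
  have e3 := MonoidalCategory.whiskerRightIso (stalkPbCxIso f P x).symm ((stalkCx X x).obj F)
  have e4 := (stalkTensorCxIso x ((pbCx f).obj P) F).symm
  exact torAmp_of_iso h1
    (DerivedCategory.Q.mapIso ((DRing.restrictCx (g.stalkMap (f.base x)).hom).mapIso
      (e1 ≪≫ (DRing.restrictCx (f.stalkMap x).hom).mapIso (e2 ≪≫ e3 ≪≫ e4))) ≪≫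
      DerivedCategory.Q.mapIso (stalkCxOverCompIso f g x _))

end Groth.Agent.Lib.Helper2.StalkLpull
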