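import Mathlib.CategoryTheory.Triangulated.HomologicalFunctor
import Mathlib.CategoryTheory.Abelian.DiagramLemmas.Four

/-!
# Four-lemma consequences for morphisms of distinguished triangles (helper2)
-/

set_option autoImplicit false
open CategoryTheory Limits Pretriangulated

namespace Groth.Agent.Lib.Helper2.TriFour

variable {C A : Type*} [Category C] [Category A] [HasShift C ℤ] [HasZeroObject C] [Preadditive C]
  [∀ n : ℤ, (shiftFunctor C n).Additive] [Pretriangulated C] [Abelian A]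
  (F : C ⥤ A) [F.IsHomological] [F.ShiftSequence ℤ]
  (T T' : Triangle C) (hT : T ∈ distTriang C) (hT' : T' ∈ distTriang C) (φ : T ⟶ T')
  (n₀ n₁ : ℤ) (h : n₀ + 1 = n₁)

/-- the morphism of six-term exact sequences induced by a morphism of triangles -/
noncomputable def seqMap :
    F.homologySequenceComposableArrows₅ T n₀ n₁ h ⟶ F.homologySequenceComposableArrows₅ T' n₀ n₁ h :=
  ComposableArrows.homMk₅ ((F.shift n₀).map φ.hom₁) ((F.shift n₀).map φ.hom₂)
    ((F.shift n₀).map φ.hom₃) ((F.shift n₁).map φ.hom₁) ((F.shift n₁).map φ.hom₂)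
    ((F.shift n₁).map φ.hom₃)
    (by
      change (F.shift n₀).map T.mor₁ ≫ (F.shift n₀).map φ.hom₂ =
        (F.shift n₀).map φ.hom₁ ≫ (F.shift n₀).map T'.mor₁
      rw [← Functor.map_comp, ← Functor.map_comp, φ.comm₁])
    (by
      change (F.shift n₀).map T.mor₂ ≫ (F.shift n₀).map φ.hom₃ =
        (F.shift n₀).map φ.hom₂ ≫ (F.shift n₀).map T'.mor₂
      rw [← Functor.map_comp, ← Functor.map_comp, φ.comm₂])
    (by
      change F.homologySequenceδ T n₀ n₁ h ≫ (F.shift n₁).map φ.hom₁ =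
        (F.shift n₀).map φ.hom₃ ≫ F.homologySequenceδ T' n₀ n₁ h
      exact (F.homologySequenceδ_naturality T T' φ n₀ n₁ h).symm)
    (by
      change (F.shift n₁).map T.mor₁ ≫ (F.shift n₁).map φ.hom₂ =
        (F.shift n₁).map φ.hom₁ ≫ (F.shift n₁).map T'.mor₁
      rw [← Functor.map_comp, ← Functor.map_comp, φ.comm₁])
    (by
      change (F.shift n₁).map T.mor₂ ≫ (F.shift n₁).map φ.hom₃ =
        (F.shift n₁).map φ.hom₂ ≫ (F.shift n₁).map T'.mor₂
      rw [← Functor.map_comp, ← Functor.map_comp, φ.comm₂])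

include hT hT' h in
theorem epi_shift_map_hom₃ (h₂ : Epi ((F.shift n₀).map φ.hom₂))
    (h₁' : Epi ((F.shift n₁).map φ.hom₁)) (h₂' : Mono ((F.shift n₁).map φ.hom₂)) :
    Epi ((F.shift n₀).map φ.hom₃) := by
  have := Abelian.epi_of_epi_of_epi_of_mono'' (n := 5) (k := 1) (by lia)
    (F.homologySequenceComposableArrows₅_exact T hT n₀ n₁ h)
    (F.homologySequenceComposableArrows₅_exact T' hT' n₀ n₁ h)
    (seqMap F T T' φ n₀ n₁ h) 1 2 3 4 rfl rfl rfl rfl h₂ h₁' h₂'
  exact this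

include hT hT' h in
theorem mono_shift_map_hom₃ (h₁ : Epi ((F.shift n₀).map φ.hom₁))
    (h₂ : Mono ((F.shift n₀).map φ.hom₂)) (h₁' : Mono ((F.shift n₁).map φ.hom₁)) :
    Mono ((F.shift n₀).map φ.hom₃) := by
  have := Abelian.mono_of_epi_of_mono_of_mono'' (n := 5) (k := 0) (by lia)
    (F.homologySequenceComposableArrows₅_exact T hT n₀ n₁ h)
    (F.homologySequenceComposableArrows₅_exact T' hT' n₀ n₁ h)
    (seqMap F T T' φ n₀ n₁ h) 0 1 2 3 rfl rfl rfl rfl h₁ h₂ h₁'
  exact this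

end Groth.Agent.Lib.Helper2.TriFour
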