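import Mathlib.CategoryTheory.Triangulated.Triangulated
import Mathlib.CategoryTheory.Triangulated.TriangleShift

/-!
# Direct summands for "pseudo-coherence-like" families of object properties (helper2)

Abstract form of the `L ⊕ L[1]` trick: a family `P m` of properties of objects of a triangulated
category which is monotone in `m`, stable under `[1]`, satisfies the triangle lemma
`P (m+1) T₁ → P m T₂ → P m T₃`, passes to those direct summands which become `P m` after a large shift.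
-/

set_option autoImplicit false
open CategoryTheory Limits Pretriangulated

namespace Groth.Agent.Lib.Helper2.TriSummand

variable {C : Type*} [Category C] [HasShift C ℤ] [HasZeroObject C] [Preadditive C]
  [∀ n : ℤ, (shiftFunctor C n).Additive] [Pretriangulated C] [IsTriangulated C]

theorem of_biprod (P : ℤ → C → Prop)
    (hiso : ∀ (m : ℤ) (K K' : C), (K ≅ K') → P m K → P m K')
    (hmono : ∀ (m : ℤ) (K : C), P m K → P (m + 1) K)
    (hshift : ∀ (m : ℤ) (K : C), P m K → P m (K⟦(1 : ℤ)⟧))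
    (htri : ∀ (m : ℤ) (T : Triangle C), T ∈ distTriang C → P (m + 1) T.obj₁ → P m T.obj₂ →
      P m T.obj₃)
    (m : ℤ) (X₁ X₂ : C) (hS : P m (X₁ ⊞ X₂)) (N : ℕ) (hN : P m (X₁⟦(N : ℤ)⟧)) : P m X₁ := by
  -- the cone of `snd ≫ inl : X₁ ⊞ X₂ ⟶ X₂ ⊞ X₁`
  obtain ⟨W, v₁₃, w₁₃, h₁₃⟩ := distinguished_cocone_triangle
    ((biprod.snd : X₁ ⊞ X₂ ⟶ X₂) ≫ (biprod.inl : X₂ ⟶ X₂ ⊞ X₁))
  have hW : P m W := htri m _ h₁₃ (hmono m _ hS) (hiso m _ _ (biprod.braiding X₁ X₂) hS)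
  have h₁₂ : Triangle.mk (biprod.snd : X₁ ⊞ X₂ ⟶ X₂) (0 : X₂ ⟶ X₁⟦(1 : ℤ)⟧)
      (-(biprod.inl : X₁ ⟶ X₁ ⊞ X₂)⟦(1 : ℤ)⟧') ∈ distTriang C :=
    rot_of_distTriang _ (binaryBiproductTriangle_distinguished X₁ X₂)
  have h₂₃ : Triangle.mk (biprod.inl : X₂ ⟶ X₂ ⊞ X₁) (biprod.snd : X₂ ⊞ X₁ ⟶ X₁)
      (0 : X₁ ⟶ X₂⟦(1 : ℤ)⟧) ∈ distTriang C :=
    binaryBiproductTriangle_distinguished X₂ X₁
  let o := Triangulated.someOctahedron rfl h₁₂ h₂₃ h₁₃
  have hτ := o.mem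
  set τ := Triangle.mk o.m₁ o.m₃ ((0 : X₁ ⟶ X₂⟦(1 : ℤ)⟧) ≫ (0 : X₂ ⟶ X₁⟦(1 : ℤ)⟧)⟦(1 : ℤ)⟧') with hτdef
  have hWn : ∀ k : ℕ, P m (W⟦(k : ℤ)⟧) := by
    intro k
    induction k with
    | zero => exact hiso m _ _ ((shiftFunctorZero C ℤ).app W).symm hW
    | succ k ih =>
      refine hiso m _ _ ((shiftFunctorAdd' C (k : ℤ) 1 ((k + 1 : ℕ) : ℤ) (by push_cast; omega)).app W).symm ?_
      exact hshift m _ ih
  have hstep : ∀ k : ℕ, P m (X₁⟦((k + 1 : ℕ) : ℤ)⟧) → P m (X₁⟦(k : ℤ)⟧) := by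
    intro k hk
    have hT := Triangle.shift_distinguished τ hτ (k : ℤ)
    refine htri m _ hT ?_ (hWn k)
    refine hmono m _ ?_
    exact hiso m _ _ ((shiftFunctorAdd' C 1 (k : ℤ) ((k + 1 : ℕ) : ℤ) (by push_cast; omega)).app X₁) hk
  have hall : ∀ k : ℕ, k ≤ N → P m (X₁⟦(((N - k : ℕ)) : ℤ)⟧) := by
    intro k
    induction k with
    | zero => intro _; simpa using hN
    | succ k ih =>
      intro hk
      have h1 := ih (by lia)
      have e : N - k = (N - (k + 1)) + 1 := by lia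
      rw [e] at h1
      exact hstep _ h1
  have h0 := hall N le_rfl
  rw [Nat.sub_self] at h0
  exact hiso m _ _ ((shiftFunctorZero C ℤ).app X₁) h0

end Groth.Agent.Lib.Helper2.TriSummand
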