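import Groth.Agent.Lib.Helper2.DCohPerf
import Mathlib.Algebra.Homology.DerivedCategory.HomologySequence
import Groth.Agent.Lib.Helper2.BrutalTrunc
import Groth.Agent.Lib.Helper2.TriFour
import Groth.Agent.Lib.Helper2.TriSummand

set_option autoImplicit false
universe u
open CategoryTheory Limits AlgebraicGeometry HomologicalComplex
attribute [local instance] HasDerivedCategory.standard

namespace Groth.Agent.Lib.Helper2.DCohPC

open Scheme.Modules Groth.Agent.Lib.Helper2.DCohBase Groth.Agent.Lib.Helper2.DCohLift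
open Groth.Agent.Lib.Helper2.DCohPerf
open CategoryTheory.Pretriangulated

section HomCx

variable {C₁ C₂ : Type*} [Category C₁] [Category C₂] [Abelian C₁] [Abelian C₂]
  (F : C₁ ⥤ C₂) [F.Additive] [F.PreservesHomology]

/-- homology commutes with a homology-preserving functor -/
noncomputable def homCx (i : ℤ) :
    F.mapHomologicalComplex (ComplexShape.up ℤ) ⋙ HomologicalComplex.homologyFunctor C₂ _ i ≅
      HomologicalComplex.homologyFunctor C₁ _ i ⋙ F :=
  NatIso.ofComponents (fun K => (K.sc i).mapHomologyIso F)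
    (fun {K L} f => ShortComplex.mapHomologyIso_hom_naturality
      ((shortComplexFunctor C₁ (ComplexShape.up ℤ) i).map f) F)

end HomCx

section HomRes

variable {X U : Scheme.{u}} (j : U ⟶ X) [IsOpenImmersion j]

instance : (restrictFunctor j).PreservesHomology := inferInstance

/-- cohomology sheaves commute with restriction to opens -/
noncomputable def homRes (i : ℤ) :
    resD j ⋙ DerivedCategory.homologyFunctor U.Modules i ≅
      DerivedCategory.homologyFunctor X.Modules i ⋙ restrictFunctor j :=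
  letI : Localization.Lifting DerivedCategory.Q
      (HomologicalComplex.quasiIso X.Modules (ComplexShape.up ℤ))
      (resCx j ⋙ HomologicalComplex.homologyFunctor U.Modules _ i)
      (resD j ⋙ DerivedCategory.homologyFunctor U.Modules i) :=
    ⟨(Functor.associator _ _ _).symm ≪≫
      Functor.isoWhiskerRight (resFac j) _ ≪≫ Functor.associator _ _ _ ≪≫
      Functor.isoWhiskerLeft _ (DerivedCategory.homologyFunctorFactors U.Modules i)⟩
  letI : Localization.Lifting DerivedCategory.Q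
      (HomologicalComplex.quasiIso X.Modules (ComplexShape.up ℤ))
      (HomologicalComplex.homologyFunctor X.Modules _ i ⋙ restrictFunctor j)
      (DerivedCategory.homologyFunctor X.Modules i ⋙ restrictFunctor j) :=
    ⟨(Functor.associator _ _ _).symm ≪≫
      Functor.isoWhiskerRight (DerivedCategory.homologyFunctorFactors X.Modules i) _⟩
  Localization.liftNatIso DerivedCategory.Q
    (HomologicalComplex.quasiIso X.Modules (ComplexShape.up ℤ))
    (resCx j ⋙ HomologicalComplex.homologyFunctor U.Modules _ i)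
    (HomologicalComplex.homologyFunctor X.Modules _ i ⋙ restrictFunctor j) _ _
    (homCx (restrictFunctor j) i)

theorem isIso_homology_resD {A B : DCoh.D X} (β : A ⟶ B) (i : ℤ)
    (h : IsIso ((DerivedCategory.homologyFunctor X.Modules i).map β)) :
    IsIso ((DerivedCategory.homologyFunctor U.Modules i).map ((resD j).map β)) := by
  have nat := (homRes j i).hom.naturality β
  have e : (DerivedCategory.homologyFunctor U.Modules i).map ((resD j).map β) =
      (homRes j i).hom.app A ≫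
        (restrictFunctor j).map ((DerivedCategory.homologyFunctor X.Modules i).map β) ≫
        (homRes j i).inv.app B := by
    have := nat
    simp only [Functor.comp_map] at this
    rw [← Category.assoc, ← this, Category.assoc, Iso.hom_inv_id_app, Category.comp_id]
  rw [e]
  infer_instance

theorem epi_homology_resD {A B : DCoh.D X} (β : A ⟶ B) (i : ℤ)
    (h : Epi ((DerivedCategory.homologyFunctor X.Modules i).map β)) :
    Epi ((DerivedCategory.homologyFunctor U.Modules i).map ((resD j).map β)) := by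
  have nat := (homRes j i).hom.naturality β
  have e : (DerivedCategory.homologyFunctor U.Modules i).map ((resD j).map β) =
      (homRes j i).hom.app A ≫
        (restrictFunctor j).map ((DerivedCategory.homologyFunctor X.Modules i).map β) ≫
        (homRes j i).inv.app B := by
    have := nat
    simp only [Functor.comp_map] at this
    rw [← Category.assoc, ← this, Category.assoc, Iso.hom_inv_id_app, Category.comp_id]
  rw [e]
  haveI : Epi ((restrictFunctor j).map ((DerivedCategory.homologyFunctor X.Modules i).map β)) :=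
    inferInstance
  infer_instance

end HomRes

section PCData

variable {X U U' : Scheme.{u}}

/-- an `m`-pseudo-coherence datum for an object `K` of `D(O_X)` -/
def PCData (m : ℤ) (K : DCoh.D X) : Prop :=
  ∃ (E : CochainComplex X.Modules ℤ) (α : DerivedCategory.Q.obj E ⟶ K), DCoh.IsStrictlyPerfect E ∧
    (∀ i : ℤ, m < i → IsIso ((DerivedCategory.homologyFunctor _ i).map α)) ∧
    Epi ((DerivedCategory.homologyFunctor _ m).map α)

theorem PCData.of_iso {m : ℤ} {K K' : DCoh.D X} (e : K ≅ K') (h : PCData m K) : PCData m K' := by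
  obtain ⟨E, α, hE, hiso, hepi⟩ := h
  refine ⟨E, α ≫ e.hom, hE, fun i hi => ?_, ?_⟩
  · rw [Functor.map_comp]
    haveI := hiso i hi
    infer_instance
  · rw [Functor.map_comp]
    infer_instance

theorem PCData.restrict {m : ℤ} {K : DCoh.D X} (j : U ⟶ X) [IsOpenImmersion j] (h : PCData m K) :
    PCData m ((DCohBase.resD j).obj K) := by
  obtain ⟨E, α, hE, hiso, hepi⟩ := h
  refine ⟨(resCx j).obj E, (resFac j).inv.app E ≫ (DCohBase.resD j).map α,
    isStrictlyPerfect_resCx j E hE,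
    fun i hi => ?_, ?_⟩
  · rw [Functor.map_comp]
    haveI := isIso_homology_resD j α i (hiso i hi)
    infer_instance
  · rw [Functor.map_comp]
    haveI := epi_homology_resD j α m hepi
    infer_instance

/-- `K` is `m`-pseudo-coherent near `x` -/
def PCAt (m : ℤ) (K : DCoh.D X) (x : X) : Prop :=
  ∃ (U : Scheme.{u}) (j : U ⟶ X) (_ : IsOpenImmersion j), x ∈ Set.range j ∧
    PCData m ((DCohBase.resD j).obj K)

theorem isPseudoCoherentD_iff (m : ℤ) (K : DCoh.D X) :
    DCoh.IsPseudoCoherentD m K ↔ ∀ x, PCAt m K x := by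
  constructor
  · intro hK x
    obtain ⟨V, hxV, hV⟩ := hK x
    obtain ⟨F₀, ⟨e₀⟩⟩ := exists_rep K
    obtain ⟨E, α, hE, hiso, hepi⟩ := hV F₀ ⟨e₀⟩
    refine ⟨V, V.ι, inferInstance, by simpa using hxV, ?_⟩
    exact PCData.of_iso ((resDQ V.ι F₀).symm ≪≫ (DCohBase.resD V.ι).mapIso e₀)
      ⟨E, α, hE, hiso, hepi⟩
  · intro h x
    obtain ⟨U, j, hj, hx, hd⟩ := h x
    haveI := hj
    refine ⟨j.opensRange, hx, fun F ⟨e'⟩ => ?_⟩
    have h1 : PCData m ((DCohBase.resD j.isoOpensRange.inv).obj ((DCohBase.resD j).obj K)) :=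
      hd.restrict _
    let ε : (DCohBase.resD j.isoOpensRange.inv).obj ((DCohBase.resD j).obj K) ≅
        DerivedCategory.Q.obj ((resCx j.opensRange.ι).obj F) :=
      (DCohBase.resD _).mapIso ((DCohBase.resD j).mapIso e'.symm ≪≫ resDQ j F) ≪≫
        resDQ _ _ ≪≫ DerivedCategory.Q.mapIso ((resCxComp j j.isoOpensRange.inv F).symm ≪≫
          resCxCongr (Scheme.Hom.isoOpensRange_inv_comp j) F)
    obtain ⟨E, α, hE, hiso, hepi⟩ := h1.of_iso ε
    exact ⟨E, α, hE, hiso, hepi⟩

theorem pcAt_of_iso {m : ℤ} {K K' : DCoh.D X} (e : K ≅ K') {x : X} (h : PCAt m K x) :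
    PCAt m K' x := by
  obtain ⟨U, j, hj, hx, hd⟩ := h
  haveI := hj
  exact ⟨U, j, hj, hx, hd.of_iso ((DCohBase.resD j).mapIso e)⟩

theorem pcAt_of_resD {m : ℤ} (j : U ⟶ X) [IsOpenImmersion j] (K : DCoh.D X) (y : U)
    (h : PCAt m ((DCohBase.resD j).obj K) y) : PCAt m K (j y) := by
  obtain ⟨U', j', hj', ⟨z, hz⟩, hd⟩ := h
  haveI := hj'
  refine ⟨U', j' ≫ j, inferInstance, ⟨z, by rw [Scheme.Hom.comp_apply, hz]⟩, ?_⟩
  exact hd.of_iso (resDComp j j' K).symm

/-- two pseudo-coherence data near `x` on a common neighbourhood -/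
theorem pcAt_common {m₁ m₂ : ℤ} {K L : DCoh.D X} {x : X} (hK : PCAt m₁ K x) (hL : PCAt m₂ L x) :
    ∃ (U : Scheme.{u}) (j : U ⟶ X) (_ : IsOpenImmersion j), x ∈ Set.range j ∧
      PCData m₁ ((DCohBase.resD j).obj K) ∧ PCData m₂ ((DCohBase.resD j).obj L) := by
  obtain ⟨U₁, j₁, hj₁, hx₁, h₁⟩ := hK
  obtain ⟨U₂, j₂, hj₂, hx₂, h₂⟩ := hL
  haveI := hj₁
  haveI := hj₂
  refine ⟨pullback j₁ j₂, pullback.fst j₁ j₂ ≫ j₁, inferInstance, ?_, ?_, ?_⟩
  · rw [IsOpenImmersion.range_pullback_to_base_of_left]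
    exact ⟨hx₁, hx₂⟩
  · exact (h₁.restrict (pullback.fst j₁ j₂)).of_iso (resDComp j₁ (pullback.fst j₁ j₂) K).symm
  · exact (h₂.restrict (pullback.snd j₁ j₂)).of_iso
      ((resDComp j₂ (pullback.snd j₁ j₂) L).symm ≪≫ (resDCongr pullback.condition L).symm)

end PCData

section IsPC

variable {X U : Scheme.{u}}

/-- `α : Q E ⟶ K` is an `m`-pseudo-coherence datum -/
def IsPC (m : ℤ) {K : DCoh.D X} (E : CochainComplex X.Modules ℤ)
    (α : DerivedCategory.Q.obj E ⟶ K) : Prop :=
  DCoh.IsStrictlyPerfect E ∧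
    (∀ i : ℤ, m < i → IsIso ((DerivedCategory.homologyFunctor _ i).map α)) ∧
    Epi ((DerivedCategory.homologyFunctor _ m).map α)

theorem IsPC.restrict {m : ℤ} {K : DCoh.D X} {E : CochainComplex X.Modules ℤ}
    {α : DerivedCategory.Q.obj E ⟶ K} (h : IsPC m E α) (j : U ⟶ X) [IsOpenImmersion j] :
    IsPC m ((resCx j).obj E) ((resFac j).inv.app E ≫ (DCohBase.resD j).map α) := by
  obtain ⟨hE, hiso, hepi⟩ := h
  refine ⟨isStrictlyPerfect_resCx j E hE, fun i hi => ?_, ?_⟩
  · rw [Functor.map_comp]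
    haveI := isIso_homology_resD j α i (hiso i hi)
    infer_instance
  · rw [Functor.map_comp]
    haveI := epi_homology_resD j α m hepi
    infer_instance

theorem isFinLocFree_of_isZero {M : X.Modules} (h : IsZero M) : FlatMod.IsFinLocFree M :=
  isFinLocFree_of_iso_freeMod ⟨h.iso (isZero_freeMod_zero X)⟩

theorem isStrictlyPerfect_trunc (E : CochainComplex X.Modules ℤ) (hE : DCoh.IsStrictlyPerfect E)
    (n : ℤ) : DCoh.IsStrictlyPerfect (BrutalTrunc.trunc E n) := by
  obtain ⟨⟨a, b, hab⟩, hE'⟩ := hE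
  refine ⟨⟨n, b, fun i hi => ?_⟩, fun i => ?_⟩
  · by_cases h : n ≤ i
    · exact IsZero.of_iso (hab i (Or.inr (by lia))) (BrutalTrunc.truncXIso E n i h)
    · exact BrutalTrunc.isZero_tX E n i h
  · by_cases h : n ≤ i
    · exact Groth.Agent.Lib.Helper7.FinLocFree.isFinLocFree_of_iso
        (BrutalTrunc.truncXIso E n i h).symm (hE' i)
    · exact isFinLocFree_of_isZero (BrutalTrunc.isZero_tX E n i h)

theorem homology_Q_map_eq {E E' : CochainComplex X.Modules ℤ} (f : E ⟶ E') (i : ℤ) :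
    (DerivedCategory.homologyFunctor X.Modules i).map (DerivedCategory.Q.map f) =
      (DerivedCategory.homologyFunctorFactors X.Modules i).hom.app E ≫
        (HomologicalComplex.homologyFunctor X.Modules (ComplexShape.up ℤ) i).map f ≫
        (DerivedCategory.homologyFunctorFactors X.Modules i).inv.app E' := by
  have nat := (DerivedCategory.homologyFunctorFactors X.Modules i).hom.naturality f
  rw [← Category.assoc, ← nat, Category.assoc, Iso.hom_inv_id_app, Category.comp_id]
  rfl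

theorem isIso_homology_Q_map {E E' : CochainComplex X.Modules ℤ} (f : E ⟶ E') (i : ℤ)
    (h : IsIso (HomologicalComplex.homologyMap f i)) :
    IsIso ((DerivedCategory.homologyFunctor X.Modules i).map (DerivedCategory.Q.map f)) := by
  rw [homology_Q_map_eq]
  haveI : IsIso ((HomologicalComplex.homologyFunctor X.Modules (ComplexShape.up ℤ) i).map f) := h
  infer_instance

theorem epi_homology_Q_map {E E' : CochainComplex X.Modules ℤ} (f : E ⟶ E') (i : ℤ)
    (h : Epi (HomologicalComplex.homologyMap f i)) :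
    Epi ((DerivedCategory.homologyFunctor X.Modules i).map (DerivedCategory.Q.map f)) := by
  rw [homology_Q_map_eq]
  haveI : Epi ((HomologicalComplex.homologyFunctor X.Modules (ComplexShape.up ℤ) i).map f) := h
  infer_instance

/-- a pseudo-coherence datum can be truncated below -/
theorem IsPC.trunc {m : ℤ} {K : DCoh.D X} {E : CochainComplex X.Modules ℤ}
    {α : DerivedCategory.Q.obj E ⟶ K} (h : IsPC m E α) :
    IsPC m (BrutalTrunc.trunc E m) (DerivedCategory.Q.map (BrutalTrunc.ι E m) ≫ α) := by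
  obtain ⟨hE, hiso, hepi⟩ := h
  refine ⟨isStrictlyPerfect_trunc E hE m, fun i hi => ?_, ?_⟩
  · rw [Functor.map_comp]
    haveI := hiso i hi
    haveI := isIso_homology_Q_map _ i (BrutalTrunc.isIso_homologyMap_ι E m i hi)
    infer_instance
  · rw [Functor.map_comp]
    haveI := epi_homology_Q_map _ m (BrutalTrunc.epi_homologyMap_ι E m)
    infer_instance

end IsPC

section NullD

variable {U : Scheme.{u}}

/-- D-level local vanishing of maps out of a strictly perfect complex -/
theorem null_D_locally (E : CochainComplex U.Modules ℤ) (hE : DCoh.IsStrictlyPerfect E) (a : ℤ)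
    (hEa : ∀ i : ℤ, i < a → IsZero (E.X i)) (C : DCoh.D U)
    (hC : ∀ i : ℤ, a ≤ i → IsZero ((DerivedCategory.homologyFunctor U.Modules i).obj C))
    (ψ : DerivedCategory.Q.obj E ⟶ C) (y : U) :
    ∃ (U' : Scheme.{u}) (j' : U' ⟶ U) (_ : IsOpenImmersion j'), y ∈ Set.range j' ∧
      (DCohBase.resD j').map ψ = 0 := by
  obtain ⟨F, ⟨e⟩⟩ := exists_rep C
  obtain ⟨F', g₀, s, hs, hψ⟩ := DerivedCategory.left_fac (ψ ≫ e.inv)
  have hqi : QuasiIso s := (DerivedCategory.isIso_Q_map_iff_quasiIso (φ := s)).1 hs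
  have hF' : ∀ i, a ≤ i → IsZero (F'.homology i) := by
    intro i hi
    have h1 : IsZero ((DerivedCategory.homologyFunctor U.Modules i).obj (DerivedCategory.Q.obj F')) := by
      refine IsZero.of_iso (hC i hi) ((DerivedCategory.homologyFunctor U.Modules i).mapIso ?_)
      exact (asIso (DerivedCategory.Q.map s)).symm ≪≫ e
    exact IsZero.of_iso h1 ((DerivedCategory.homologyFunctorFactors U.Modules i).app F').symm
  obtain ⟨⟨a', b, hab⟩, hsum⟩ := hE
  have hb : ∀ i, b < i → g₀.f i = 0 := fun i hi => (hab i (Or.inr hi)).eq_of_src _ _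
  obtain ⟨U', j', hj', hy, ⟨H⟩⟩ := null_locally (b - a + 1).toNat E F' g₀ a b
    (by have := Int.self_le_toNat (b - a + 1); lia) hsum hEa hb hF' y
  haveI := hj'
  refine ⟨U', j', hj', hy, ?_⟩
  have hQ : DerivedCategory.Q.map ((resCx j').map g₀) = 0 := by
    rw [DerivedCategory.Q_map_eq_of_homotopy (h := H), Functor.map_zero]
  have h0 : (DCohBase.resD j').map (DerivedCategory.Q.map g₀) = 0 := by
    have nat := (restrictFunctor j').mapDerivedCategoryFactors_hom_naturality g₀
    rw [← cancel_mono ((resFac j').hom.app F'), nat, hQ, comp_zero, zero_comp]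
  have h1 : (DCohBase.resD j').map (ψ ≫ e.inv) = 0 := by
    rw [hψ, Functor.map_comp, h0, zero_comp]
  have h2 : ψ = (ψ ≫ e.inv) ≫ e.hom := by
    rw [Category.assoc, Iso.inv_hom_id, Category.comp_id]
  rw [h2, Functor.map_comp, h1, zero_comp]

end NullD

section TriPC

variable {U : Scheme.{u}}

/-- chain-level square ⇒ pseudo-coherence datum for the third vertex -/
theorem pcData_obj₃_of_chain (T : Triangle (DCoh.D U)) (hT : T ∈ distTriang _) (m : ℤ)
    (E₁ E₂ : CochainComplex U.Modules ℤ) (α₁ : DerivedCategory.Q.obj E₁ ⟶ T.obj₁)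
    (α₂ : DerivedCategory.Q.obj E₂ ⟶ T.obj₂) (h₁ : IsPC (m + 1) E₁ α₁) (h₂ : IsPC m E₂ α₂)
    (g : E₁ ⟶ E₂) (comm : DerivedCategory.Q.map g ≫ α₂ = α₁ ≫ T.mor₁) : PCData m T.obj₃ := by
  let T₁ := DerivedCategory.Q.mapTriangle.obj (CochainComplex.mappingCone.triangle g)
  have hT₁ : T₁ ∈ distTriang _ := DerivedCategory.mappingCone_triangle_distinguished g
  obtain ⟨c, hc₁, hc₂⟩ := complete_distinguished_triangle_morphism T₁ T hT₁ hT α₁ α₂ comm
  let φ : T₁ ⟶ T := { hom₁ := α₁, hom₂ := α₂, hom₃ := c, comm₁ := comm, comm₂ := hc₁, comm₃ := hc₂ }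
  obtain ⟨hE₁, hiso₁, hepi₁⟩ := h₁
  obtain ⟨hE₂, hiso₂, hepi₂⟩ := h₂
  have epi₁ : ∀ i, m + 1 ≤ i → Epi ((DerivedCategory.homologyFunctor _ i).map α₁) := by
    intro i hi
    rcases eq_or_lt_of_le hi with h | h
    · subst h
      exact hepi₁
    · haveI := hiso₁ i h
      infer_instance
  have epi₂ : ∀ i, m ≤ i → Epi ((DerivedCategory.homologyFunctor _ i).map α₂) := by
    intro i hi
    rcases eq_or_lt_of_le hi with h | h
    · subst h
      exact hepi₂
    · haveI := hiso₂ i h
      infer_instance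
  have mono₁ : ∀ i, m + 1 < i → Mono ((DerivedCategory.homologyFunctor _ i).map α₁) := by
    intro i hi
    haveI := hiso₁ i hi
    infer_instance
  have mono₂ : ∀ i, m < i → Mono ((DerivedCategory.homologyFunctor _ i).map α₂) := by
    intro i hi
    haveI := hiso₂ i hi
    infer_instance
  have hepi : ∀ i, m ≤ i → Epi ((DerivedCategory.homologyFunctor _ i).map c) := by
    intro i hi
    exact TriFour.epi_shift_map_hom₃ (DerivedCategory.homologyFunctor U.Modules 0) T₁ T hT₁ hT φ
      i (i + 1) rfl (epi₂ i hi) (epi₁ (i + 1) (by lia)) (mono₂ (i + 1) (by lia))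
  have hmono : ∀ i, m < i → Mono ((DerivedCategory.homologyFunctor _ i).map c) := by
    intro i hi
    exact TriFour.mono_shift_map_hom₃ (DerivedCategory.homologyFunctor U.Modules 0) T₁ T hT₁ hT φ
      i (i + 1) rfl (epi₁ i (by lia)) (mono₂ i hi) (mono₁ (i + 1) (by lia))
  refine ⟨CochainComplex.mappingCone g, c, Groth.Agent.S6516.result g hE₁ hE₂, fun i hi => ?_,
    hepi m le_rfl⟩
  have h1 : Epi ((DerivedCategory.homologyFunctor _ i).map c) := hepi i hi.le
  have h2 : Mono ((DerivedCategory.homologyFunctor _ i).map c) := hmono i hi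
  exact isIso_of_mono_of_epi ((DerivedCategory.homologyFunctor _ i).map c)

/-- D-level square ⇒ pseudo-coherence of the third vertex near every point -/
theorem pcAt_obj₃_of_D (T : Triangle (DCoh.D U)) (hT : T ∈ distTriang _) (m : ℤ)
    (E₁ E₂ : CochainComplex U.Modules ℤ) (α₁ : DerivedCategory.Q.obj E₁ ⟶ T.obj₁)
    (α₂ : DerivedCategory.Q.obj E₂ ⟶ T.obj₂) (h₁ : IsPC (m + 1) E₁ α₁) (h₂ : IsPC m E₂ α₂)
    (γ : DerivedCategory.Q.obj E₁ ⟶ DerivedCategory.Q.obj E₂) (comm : γ ≫ α₂ = α₁ ≫ T.mor₁)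
    (y : U) : PCAt m T.obj₃ y := by
  obtain ⟨U', j', hj', hy, g, hg⟩ := exists_rep_locally E₁ E₂ h₁.1 γ y
  haveI := hj'
  refine ⟨U', j', hj', hy, ?_⟩
  refine pcData_obj₃_of_chain ((DCohBase.resD j').mapTriangle.obj T)
    ((DCohBase.resD j').map_distinguished T hT) m ((resCx j').obj E₁) ((resCx j').obj E₂)
    ((resFac j').inv.app E₁ ≫ (DCohBase.resD j').map α₁)
    ((resFac j').inv.app E₂ ≫ (DCohBase.resD j').map α₂) (h₁.restrict j') (h₂.restrict j') g ?_
  change DerivedCategory.Q.map g ≫ (resFac j').inv.app E₂ ≫ (DCohBase.resD j').map α₂ =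
    ((resFac j').inv.app E₁ ≫ (DCohBase.resD j').map α₁) ≫ (DCohBase.resD j').map T.mor₁
  have hg' : DerivedCategory.Q.map g ≫ (resFac j').inv.app E₂ =
      (resFac j').inv.app E₁ ≫ (DCohBase.resD j').map γ := by
    rw [hg, Iso.inv_hom_id_app_assoc]
  rw [← Category.assoc, hg', Category.assoc, Category.assoc, ← Functor.map_comp, ← Functor.map_comp,
    comm]

end TriPC

section TriPC2

variable {U : Scheme.{u}}

/-- the cone of an `m`-pseudo-coherence datum has no cohomology in degrees `≥ m` -/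
theorem isZero_homology_cone {m : ℤ} {K : DCoh.D U} {E : CochainComplex U.Modules ℤ}
    {α : DerivedCategory.Q.obj E ⟶ K} (h : IsPC m E α) (C : DCoh.D U) (c : K ⟶ C)
    (d : C ⟶ (DerivedCategory.Q.obj E)⟦(1 : ℤ)⟧) (hT : Triangle.mk α c d ∈ distTriang _)
    (i : ℤ) (hi : m ≤ i) : IsZero ((DerivedCategory.homologyFunctor U.Modules i).obj C) := by
  obtain ⟨-, hiso, hepi⟩ := h
  have epi₂ : Epi ((DerivedCategory.homologyFunctor _ i).map α) := by
    rcases eq_or_lt_of_le hi with h | h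
    · subst h
      exact hepi
    · haveI := hiso i h
      infer_instance
  have mono₂ : Mono ((DerivedCategory.homologyFunctor _ (i + 1)).map α) := by
    haveI := hiso (i + 1) (by lia)
    infer_instance
  have hc0 : (DerivedCategory.homologyFunctor _ i).map c = 0 :=
    (DerivedCategory.HomologySequence.epi_homologyMap_mor₁_iff _ hT i).1 epi₂
  have hδ0 : DerivedCategory.HomologySequence.δ (Triangle.mk α c d) i (i + 1) rfl = 0 :=
    (DerivedCategory.HomologySequence.mono_homologyMap_mor₁_iff _ hT i (i + 1) rfl).1 mono₂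
  exact (DerivedCategory.HomologySequence.exact₃ _ hT i (i + 1) rfl).isZero_of_both_zeros hc0 hδ0

/-- pseudo-coherence of the third vertex near any point, from global data on the first two -/
theorem pcAt_obj₃_of_data (T : Triangle (DCoh.D U)) (hT : T ∈ distTriang _) (m : ℤ)
    (h₁ : PCData (m + 1) T.obj₁) (h₂ : PCData m T.obj₂) (y : U) : PCAt m T.obj₃ y := by
  obtain ⟨E₁', α₁', hE₁', hiso₁', hepi₁'⟩ := h₁
  have hd₁ : IsPC (m + 1) E₁' α₁' := ⟨hE₁', hiso₁', hepi₁'⟩
  have h₁ := hd₁.trunc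
  set E₁ := BrutalTrunc.trunc E₁' (m + 1) with hE₁def
  set α₁ := DerivedCategory.Q.map (BrutalTrunc.ι E₁' (m + 1)) ≫ α₁' with hα₁def
  have hE₁z : ∀ i : ℤ, i < m + 1 → IsZero (E₁.X i) := BrutalTrunc.isZero_trunc_X E₁' (m + 1)
  obtain ⟨E₂, α₂, hE₂, hiso₂, hepi₂⟩ := h₂
  have h₂ : IsPC m E₂ α₂ := ⟨hE₂, hiso₂, hepi₂⟩
  obtain ⟨C, c, d, hTc⟩ := distinguished_cocone_triangle α₂
  have hC := isZero_homology_cone h₂ C c d hTc
  obtain ⟨U', j', hj', ⟨y', hy'⟩, h0⟩ := null_D_locally E₁ h₁.1 (m + 1) hE₁z C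
    (fun i hi => hC i (by lia)) (α₁ ≫ T.mor₁ ≫ c) y
  haveI := hj'
  subst hy'
  apply pcAt_of_resD j' T.obj₃ y'
  have hTc' := (DCohBase.resD j').map_distinguished _ hTc
  have hz : (DCohBase.resD j').map (α₁ ≫ T.mor₁) ≫
      ((DCohBase.resD j').mapTriangle.obj (Triangle.mk α₂ c d)).mor₂ = 0 := by
    change (DCohBase.resD j').map (α₁ ≫ T.mor₁) ≫ (DCohBase.resD j').map c = 0
    rw [← Functor.map_comp, Category.assoc]
    exact h0
  obtain ⟨γ₀, hγ₀⟩ : ∃ γ₀ : (DCohBase.resD j').obj (DerivedCategory.Q.obj E₁) ⟶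
      (DCohBase.resD j').obj (DerivedCategory.Q.obj E₂),
      (DCohBase.resD j').map (α₁ ≫ T.mor₁) = γ₀ ≫ (DCohBase.resD j').map α₂ :=
    Triangle.coyoneda_exact₂ _ hTc' _ hz
  refine pcAt_obj₃_of_D ((DCohBase.resD j').mapTriangle.obj T)
    ((DCohBase.resD j').map_distinguished T hT) m ((resCx j').obj E₁) ((resCx j').obj E₂)
    ((resFac j').inv.app E₁ ≫ (DCohBase.resD j').map α₁)
    ((resFac j').inv.app E₂ ≫ (DCohBase.resD j').map α₂) (h₁.restrict j') (h₂.restrict j')
    ((resFac j').inv.app E₁ ≫ γ₀ ≫ (resFac j').hom.app E₂) ?_ y'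
  change ((resFac j').inv.app E₁ ≫ γ₀ ≫ (resFac j').hom.app E₂) ≫
      (resFac j').inv.app E₂ ≫ (DCohBase.resD j').map α₂ =
    ((resFac j').inv.app E₁ ≫ (DCohBase.resD j').map α₁) ≫ (DCohBase.resD j').map T.mor₁
  simp only [Category.assoc, Iso.hom_inv_id_app_assoc]
  rw [← hγ₀, Functor.map_comp]

end TriPC2

section ShiftPC

variable {X : Scheme.{u}}

theorem isIso_map_of_natIso {C D : Type*} [Category C] [Category D] {F G : C ⥤ D} (e : F ≅ G)
    {A B : C} (f : A ⟶ B) (h : IsIso (G.map f)) : IsIso (F.map f) :=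
  (NatIso.isIso_map_iff e f).2 h

theorem epi_map_of_natIso {C D : Type*} [Category C] [Category D] {F G : C ⥤ D} (e : F ≅ G)
    {A B : C} (f : A ⟶ B) (h : Epi (G.map f)) : Epi (F.map f) := by
  have : F.map f = e.hom.app A ≫ G.map f ≫ e.inv.app B := by simp
  rw [this]
  infer_instance

theorem isIso_homology_shift_map {A B : DCoh.D X} (β : A ⟶ B) (n a a' : ℤ) (h : n + a = a')
    (hβ : IsIso ((DerivedCategory.homologyFunctor X.Modules a').map β)) :
    IsIso ((DerivedCategory.homologyFunctor X.Modules a).map (β⟦n⟧')) :=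
  isIso_map_of_natIso ((DerivedCategory.homologyFunctor X.Modules 0).shiftIso n a a' h) β hβ

theorem epi_homology_shift_map {A B : DCoh.D X} (β : A ⟶ B) (n a a' : ℤ) (h : n + a = a')
    (hβ : Epi ((DerivedCategory.homologyFunctor X.Modules a').map β)) :
    Epi ((DerivedCategory.homologyFunctor X.Modules a).map (β⟦n⟧')) :=
  epi_map_of_natIso ((DerivedCategory.homologyFunctor X.Modules 0).shiftIso n a a' h) β hβ

theorem PCData.shift {m : ℤ} {K : DCoh.D X} (hK : PCData m K) (n m' : ℤ) (h : n + m' = m) :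
    PCData m' (K⟦n⟧) := by
  obtain ⟨E, α, hE, hiso, hepi⟩ := hK
  refine ⟨E⟦n⟧, (DerivedCategory.Q.commShiftIso n).hom.app E ≫ α⟦n⟧',
    isStrictlyPerfect_shift E hE n, fun i hi => ?_, ?_⟩
  · rw [Functor.map_comp]
    haveI := isIso_homology_shift_map α n i (n + i) rfl (hiso (n + i) (by lia))
    infer_instance
  · rw [Functor.map_comp]
    haveI := epi_homology_shift_map α n m' m h hepi
    infer_instance

theorem pcAt_shift {m : ℤ} {K : DCoh.D X} {x : X} (hK : PCAt m K x) (n m' : ℤ) (h : n + m' = m) :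
    PCAt m' (K⟦n⟧) x := by
  obtain ⟨U, j, hj, hx, hd⟩ := hK
  haveI := hj
  exact ⟨U, j, hj, hx, (hd.shift n m' h).of_iso (((DCohBase.resD j).commShiftIso n).app K).symm⟩

/-- part (1) of the pseudo-coherence triangle lemma -/
theorem isPseudoCoherentD_obj₃ (T : Triangle (DCoh.D X)) (hT : T ∈ distTriang _) (m : ℤ)
    (h₁ : ∀ x, PCAt (m + 1) T.obj₁ x) (h₂ : ∀ x, PCAt m T.obj₂ x) : ∀ x, PCAt m T.obj₃ x := by
  intro x
  obtain ⟨U, j, hj, ⟨y, rfl⟩, hd₁, hd₂⟩ := pcAt_common (h₁ x) (h₂ x)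
  haveI := hj
  apply pcAt_of_resD j T.obj₃ y
  exact pcAt_obj₃_of_data ((DCohBase.resD j).mapTriangle.obj T)
    ((DCohBase.resD j).map_distinguished T hT) m hd₁ hd₂ y

theorem isPseudoCoherentD_obj₂ (T : Triangle (DCoh.D X)) (hT : T ∈ distTriang _) (m : ℤ)
    (h₁ : ∀ x, PCAt m T.obj₁ x) (h₃ : ∀ x, PCAt m T.obj₃ x) : ∀ x, PCAt m T.obj₂ x :=
  isPseudoCoherentD_obj₃ T.invRotate (inv_rot_of_distTriang T hT) m
    (fun x => pcAt_shift (h₃ x) (-1) (m + 1) (by lia)) h₁

theorem isPseudoCoherentD_obj₁ (T : Triangle (DCoh.D X)) (hT : T ∈ distTriang _) (m : ℤ)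
    (h₂ : ∀ x, PCAt (m + 1) T.obj₂ x) (h₃ : ∀ x, PCAt m T.obj₃ x) :
    ∀ x, PCAt (m + 1) T.obj₁ x :=
  isPseudoCoherentD_obj₃ T.invRotate.invRotate
    (inv_rot_of_distTriang _ (inv_rot_of_distTriang T hT)) (m + 1)
    (fun x => pcAt_shift (h₂ x) (-1) (m + 1 + 1) (by lia))
    (fun x => pcAt_shift (h₃ x) (-1) (m + 1) (by lia))

end ShiftPC

section Summand

variable {X : Scheme.{u}}

/-- pseudo-coherence data are monotone in `m` -/
theorem IsPC.succ {m : ℤ} {K : DCoh.D X} {E : CochainComplex X.Modules ℤ}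
    {α : DerivedCategory.Q.obj E ⟶ K} (h : IsPC m E α) :
    IsPC (m + 1) (BrutalTrunc.trunc E (m + 1))
      (DerivedCategory.Q.map (BrutalTrunc.ι E (m + 1)) ≫ α) := by
  obtain ⟨hE, hiso, hepi⟩ := h
  refine ⟨isStrictlyPerfect_trunc E hE (m + 1), fun i hi => ?_, ?_⟩
  · rw [Functor.map_comp]
    haveI := hiso i (by lia)
    haveI := isIso_homology_Q_map _ i (BrutalTrunc.isIso_homologyMap_ι E (m + 1) i hi)
    infer_instance
  · rw [Functor.map_comp]
    haveI := hiso (m + 1) (by lia)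
    haveI := epi_homology_Q_map _ (m + 1) (BrutalTrunc.epi_homologyMap_ι E (m + 1))
    infer_instance

theorem PCData.succ {m : ℤ} {K : DCoh.D X} (h : PCData m K) : PCData (m + 1) K := by
  obtain ⟨E, α, hE, hiso, hepi⟩ := h
  have h' : IsPC m E α := ⟨hE, hiso, hepi⟩
  obtain ⟨h1, h2, h3⟩ := h'.succ
  exact ⟨_, _, h1, h2, h3⟩

theorem pcAt_succ {m : ℤ} {K : DCoh.D X} {x : X} (h : PCAt m K x) : PCAt (m + 1) K x := by
  obtain ⟨U, j, hj, hx, hd⟩ := h
  exact ⟨U, j, hj, hx, hd.succ⟩

theorem PCData.pcAt {m : ℤ} {K : DCoh.D X} (h : PCData m K) (x : X) : PCAt m K x :=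
  ⟨X, 𝟙 X, inferInstance, ⟨x, rfl⟩, h.restrict (𝟙 X)⟩

open ZeroObject in
/-- objects without cohomology in degrees `≥ m` are `m`-pseudo-coherent -/
theorem pcData_of_isZero_homology (K : DCoh.D X) (m : ℤ)
    (h : ∀ i : ℤ, m ≤ i → IsZero ((DerivedCategory.homologyFunctor X.Modules i).obj K)) :
    PCData m K := by
  have hz : IsZero (DerivedCategory.Q.obj (0 : CochainComplex X.Modules ℤ)) :=
    Functor.map_isZero _ (isZero_zero _)
  refine ⟨0, hz.to_ K, ⟨⟨0, 0, fun i _ => ?_⟩, fun i => ?_⟩, fun i hi => ?_, ?_⟩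
  · exact Functor.map_isZero (HomologicalComplex.eval _ _ i) (isZero_zero _)
  · exact isFinLocFree_of_isZero
      (Functor.map_isZero (HomologicalComplex.eval _ _ i) (isZero_zero _))
  · have h1 : IsZero ((DerivedCategory.homologyFunctor X.Modules i).obj
        (DerivedCategory.Q.obj (0 : CochainComplex X.Modules ℤ))) := Functor.map_isZero _ hz
    exact ⟨(h i hi.le).to_ _, h1.eq_of_src _ _, (h i hi.le).eq_of_src _ _⟩
  · exact ⟨fun g g' _ => (h m le_rfl).eq_of_src g g'⟩

/-- cohomology of an object with a pseudo-coherence datum vanishes in high degrees -/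
theorem PCData.exists_bound {m : ℤ} {K : DCoh.D X} (h : PCData m K) :
    ∃ b : ℤ, ∀ i : ℤ, b < i → IsZero ((DerivedCategory.homologyFunctor X.Modules i).obj K) := by
  obtain ⟨E, α, ⟨⟨a, b, hab⟩, -⟩, hiso, -⟩ := h
  refine ⟨max b m, fun i hi => ?_⟩
  haveI := hiso i (by lia)
  have h1 : IsZero ((DerivedCategory.homologyFunctor X.Modules i).obj (DerivedCategory.Q.obj E)) := by
    refine IsZero.of_iso ?_ ((DerivedCategory.homologyFunctorFactors X.Modules i).app E)
    have hX : IsZero (E.X i) := hab i (Or.inr (by lia))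
    exact ShortComplex.isZero_homology_of_isZero_X₂ _ hX
  exact IsZero.of_iso h1 (asIso ((DerivedCategory.homologyFunctor X.Modules i).map α)).symm

end Summand

section Summand2

variable {X : Scheme.{u}}

theorem isZero_homology_of_retract {A S : DCoh.D X} (i : A ⟶ S) (p : S ⟶ A) (hip : i ≫ p = 𝟙 A)
    (n : ℤ) (h : IsZero ((DerivedCategory.homologyFunctor X.Modules n).obj S)) :
    IsZero ((DerivedCategory.homologyFunctor X.Modules n).obj A) := by
  rw [IsZero.iff_id_eq_zero, ← CategoryTheory.Functor.map_id, ← hip, Functor.map_comp,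
    h.eq_of_tgt ((DerivedCategory.homologyFunctor X.Modules n).map i) 0, zero_comp]

/-- a direct summand of an object with a global pseudo-coherence datum is pseudo-coherent -/
theorem pcAt_biprod_left_of_data (m : ℤ) (A B : DCoh.D X) (hS : PCData m (A ⊞ B)) :
    ∀ y, PCAt m A y := by
  obtain ⟨b, hb⟩ := hS.exists_bound
  have hbA : ∀ i : ℤ, b < i → IsZero ((DerivedCategory.homologyFunctor X.Modules i).obj A) :=
    fun i hi => isZero_homology_of_retract biprod.inl biprod.fst biprod.inl_fst i (hb i hi)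
  let N : ℕ := (b - m + 1).toNat
  have hN : ∀ y, PCAt m (A⟦(N : ℤ)⟧) y := by
    refine (pcData_of_isZero_homology (A⟦(N : ℤ)⟧) m (fun i hi => ?_)).pcAt
    refine IsZero.of_iso (hbA ((N : ℤ) + i) ?_)
      (((DerivedCategory.homologyFunctor X.Modules 0).shiftIso (N : ℤ) i ((N : ℤ) + i) rfl).app A)
    have := Int.self_le_toNat (b - m + 1)
    lia
  exact TriSummand.of_biprod (fun m (K : DCoh.D X) => ∀ y, PCAt m K y)
    (fun m K K' e h y => pcAt_of_iso e (h y))
    (fun m K h y => pcAt_succ (h y))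
    (fun m K h y => by
      have := pcAt_succ (pcAt_shift (h y) 1 (m - 1) (by lia))
      rwa [sub_add_cancel] at this)
    (fun m T hT h1 h2 => isPseudoCoherentD_obj₃ T hT m h1 h2)
    m A B hS.pcAt N hN

theorem pcAt_biprod_left (m : ℤ) (K L : DCoh.D X) [HasBinaryBiproduct K L] (x : X)
    (h : PCAt m (K ⊞ L) x) : PCAt m K x := by
  obtain ⟨U, j, hj, ⟨y, rfl⟩, hd⟩ := h
  haveI := hj
  haveI : PreservesBinaryBiproducts (DCohBase.resD j) :=
    preservesBinaryBiproducts_of_preservesBiproducts _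
  apply pcAt_of_resD j K y
  exact pcAt_biprod_left_of_data m _ _ (hd.of_iso ((DCohBase.resD j).mapBiprod K L)) y

theorem pcAt_biprod_right (m : ℤ) (K L : DCoh.D X) [HasBinaryBiproduct K L] (x : X)
    (h : PCAt m (K ⊞ L) x) : PCAt m L x :=
  pcAt_biprod_left m L K x (pcAt_of_iso (biprod.braiding K L) h)

end Summand2

end Groth.Agent.Lib.Helper2.DCohPC
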