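import Groth.Agent.Lib.Helper2.DCohFP
import Mathlib.Algebra.Homology.DerivedCategory.SingleTriangle

set_option autoImplicit false
universe u v₁ u₁
open CategoryTheory Limits AlgebraicGeometry HomologicalComplex
attribute [local instance] HasDerivedCategory.standard

namespace Groth.Agent.Lib.Helper2.DCohSingle

open Scheme.Modules Groth.Agent.Lib.Lead.CohAff TopologicalSpace
open Groth.Agent.Lib.Helper2.DCohBase Groth.Agent.Lib.Helper2.DCohHom
open Groth.Agent.Lib.Helper2.DCohCoh Groth.Agent.Lib.Helper2.DCohOpens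
open Groth.Agent.Lib.Helper2.DCohPC Groth.Agent.Lib.Helper2.FreeModAff
open Groth.Agent.Lib.Helper2.DCohLift Groth.Agent.Lib.Helper2.DCohFP
open Groth.Agent.Lib.Lead.PullbackAff Groth.Agent.Lib.Lead.QCohLocal

section Single

variable {Y : Scheme.{u}}

/-- the complex with `N` in degree `0` -/
noncomputable abbrev sg (N : Y.Modules) : CochainComplex Y.Modules ℤ :=
  (HomologicalComplex.single Y.Modules (ComplexShape.up ℤ) 0).obj N

theorem inD_eq (N : Y.Modules) : DCoh.inD Y N = DerivedCategory.Q.obj (sg N) := rfl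

theorem isStrictlyPerfect_sg (P : Y.Modules) (hP : FlatMod.IsFinLocFree P) :
    DCoh.IsStrictlyPerfect (sg P) := by
  refine ⟨⟨0, 0, fun i hi => ?_⟩, fun i => ?_⟩
  · exact isZero_single_obj_X _ _ _ _ (by omega)
  · by_cases hi : i = 0
    · subst hi
      exact Groth.Agent.Lib.Helper7.FinLocFree.isFinLocFree_of_iso
        (singleObjXSelf (ComplexShape.up ℤ) 0 P).symm hP
    · exact isFinLocFree_of_isZero (isZero_single_obj_X _ _ _ _ hi)

/-- cohomology of `N[0]` in degree `0` -/
noncomputable def hdInDIso (N : Y.Modules) : DCoh.HD (DCoh.inD Y N) 0 ≅ N :=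
  (DerivedCategory.homologyFunctorFactors Y.Modules 0).app (sg N) ≪≫
    singleObjHomologySelfIso (ComplexShape.up ℤ) 0 N

theorem isZero_hd_inD (N : Y.Modules) (i : ℤ) (hi : i ≠ 0) : IsZero (DCoh.HD (DCoh.inD Y N) i) :=
  IsZero.of_iso (isZero_single_obj_homology (ComplexShape.up ℤ) 0 N i hi)
    ((DerivedCategory.homologyFunctorFactors Y.Modules i).app (sg N))

/-- an epimorphism from a finite locally free module gives a `0`-pseudo-coherence datum -/
theorem pcData_sg_of_epi {P N : Y.Modules} (hP : FlatMod.IsFinLocFree P) (π : P ⟶ N) (hπ : Epi π) :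
    PCData 0 (DerivedCategory.Q.obj (sg N)) := by
  refine ⟨sg P, DerivedCategory.Q.map ((HomologicalComplex.single Y.Modules
    (ComplexShape.up ℤ) 0).map π), isStrictlyPerfect_sg P hP, fun i hi => ?_, ?_⟩
  · apply isIso_homology_Q_map
    exact ⟨(isZero_single_obj_homology (ComplexShape.up ℤ) 0 N i (by omega)).to_ _,
      (isZero_single_obj_homology (ComplexShape.up ℤ) 0 P i (by omega)).eq_of_src _ _,
      (isZero_single_obj_homology (ComplexShape.up ℤ) 0 N i (by omega)).eq_of_src _ _⟩
  · apply epi_homology_Q_map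
    have h := singleObjHomologySelfIso_hom_naturality (C := Y.Modules) (ComplexShape.up ℤ) 0 π
    have h2 : HomologicalComplex.homologyMap ((HomologicalComplex.single Y.Modules
        (ComplexShape.up ℤ) 0).map π) 0 =
        (singleObjHomologySelfIso (ComplexShape.up ℤ) 0 P).hom ≫ π ≫
          (singleObjHomologySelfIso (ComplexShape.up ℤ) 0 N).inv := by
      rw [← Category.assoc, ← h, Category.assoc, Iso.hom_inv_id, Category.comp_id]
    rw [h2]
    infer_instance

/-- a finite locally free module in degree `0` is `m`-pseudo-coherent for all `m` -/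
theorem pcData_sg_of_isFinLocFree {P : Y.Modules} (hP : FlatMod.IsFinLocFree P) (m : ℤ) :
    PCData m (DerivedCategory.Q.obj (sg P)) :=
  ⟨sg P, 𝟙 _, isStrictlyPerfect_sg P hP, fun i _ => by
    rw [CategoryTheory.Functor.map_id]; infer_instance, by
    rw [CategoryTheory.Functor.map_id]; infer_instance⟩

/-- restriction of `F[0]` -/
noncomputable def resDInD {X U : Scheme.{u}} (j : U ⟶ X) [IsOpenImmersion j] (F : X.Modules) :
    (DCohBase.resD j).obj (DCoh.inD X F) ≅ DCoh.inD U ((restrictFunctor j).obj F) :=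
  ((restrictFunctor j).mapDerivedCategorySingleFunctor 0).app F

theorem pcData_inD_of_epi {P N : Y.Modules} (hP : FlatMod.IsFinLocFree P) (π : P ⟶ N) (hπ : Epi π) :
    PCData 0 (DCoh.inD Y N) := pcData_sg_of_epi hP π hπ

theorem pcData_inD_of_isFinLocFree {P : Y.Modules} (hP : FlatMod.IsFinLocFree P) (m : ℤ) :
    PCData m (DCoh.inD Y P) := pcData_sg_of_isFinLocFree hP m

end Single

section Free

variable {Y : Scheme.{u}}

/-- a free module on a finite type is a finite free module -/
noncomputable def freeIsoFreeMod (I : Type u) (n : ℕ) (e : I ≃ Fin n) :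
    (SheafOfModules.free (R := Y.ringCatSheaf) I : Y.Modules) ≅ FlatMod.freeMod Y n :=
  Sigma.reindex (e.trans (Equiv.ulift.{u} (α := Fin n)).symm)
    (fun _ : Idx.{u} n => SheafOfModules.unit Y.ringCatSheaf) ≪≫ (freeModIso Y n).symm

theorem isFinLocFree_free (I : Type u) [Finite I] :
    FlatMod.IsFinLocFree (SheafOfModules.free (R := Y.ringCatSheaf) I : Y.Modules) := by
  obtain ⟨n, ⟨e⟩⟩ := Finite.exists_equiv_fin I
  exact isFinLocFree_of_iso_freeMod ⟨freeIsoFreeMod I n e⟩

end Free

end Groth.Agent.Lib.Helper2.DCohSingle
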