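import Groth.Agent.Lib.Helper2.DCohHom
import Groth.Agent.Lib.Lead.CohAff3
import Groth.Agent.Lib.Helper21.CohNoeth
import Groth.Agent.Lib.Helper2.LocFreeAff
import Groth.Agent.Lib.Helper48.OmegaAff7

set_option autoImplicit false
universe u
open CategoryTheory Limits AlgebraicGeometry HomologicalComplex
attribute [local instance] HasDerivedCategory.standard

namespace Groth.Agent.Lib.Helper2.DCohCoh

open Scheme.Modules Groth.Agent.Lib.Lead.CohAff TopologicalSpace
open Groth.Agent.Lib.Helper2.DCohBase Groth.Agent.Lib.Helper2.DCohHom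
open Groth.Agent.Lib.Lead.PullbackAff

section FT

variable {X : Scheme.{u}} (M : X.Modules)

set_option backward.isDefEq.respectTransparency false in
/-- From a slice `M.over W` to the open subscheme `D ≤ W`. -/
theorem hasFinGen_restrict_of_over {W D : X.Opens} (hDW : D ≤ W)
    (h : HasFinGen (SheafOfModules.over (R := X.ringCatSheaf) M W)) :
    HasFinGen (R := D.toScheme.ringCatSheaf) (M.restrict D.ι) := by
  let u := X.homOfLE hDW
  have : PreservesColimitsOfSize.{u, u} (restrictFunctor u) := inferInstance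
  let F := (overEquiv W).functor ⋙ restrictFunctor u
  let iso : SheafOfModules.overFunctor X.ringCatSheaf W ⋙ F ≅ restrictFunctor D.ι :=
    (Functor.associator _ _ _).symm ≪≫
      Functor.isoWhiskerRight (Scheme.Modules.overFunctorEquiv _) _ ≪≫
      (restrictFunctorComp _ _).symm ≪≫ (restrictFunctorCongr (by simp [u]))
  exact (h.map F (Scheme.Modules.restrictUnitIso _).symm).of_iso (iso.app M)

set_option backward.isDefEq.respectTransparency false in
/-- From the open subscheme `U` to the slice `M.over U`. -/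
theorem hasFinGen_over_of_restrict {U : X.Opens}
    (h1 : HasFinGen (R := U.toScheme.ringCatSheaf) (M.restrict U.ι)) :
    HasFinGen (SheafOfModules.over (R := X.ringCatSheaf) M U) := by
  let E := overEquiv U
  let i : E.inverse.obj (M.restrict U.ι) ≅ SheafOfModules.over (R := X.ringCatSheaf) M U :=
    E.inverse.mapIso ((overFunctorEquiv U).app M).symm ≪≫ (E.unitIso.app _).symm
  exact (h1.map E.inverse
    (TopologicalSpace.Opens.sheafOfModulesEquivOverInverseUnit _ _).symm).of_iso i

set_option backward.isDefEq.respectTransparency false in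
/-- transport of finite generation along an isomorphism of schemes -/
theorem hasFinGen_restrict_of_iso {Y Z : Scheme.{u}} (e : Y ≅ Z) (f : Z ⟶ X) (g : Y ⟶ X)
    [IsOpenImmersion f] [IsOpenImmersion g] (hfg : e.hom ≫ f = g)
    (h : HasFinGen (R := Z.ringCatSheaf) (M.restrict f)) :
    HasFinGen (R := Y.ringCatSheaf) (M.restrict g) := by
  have : PreservesColimitsOfSize.{u, u} (restrictFunctor e.hom) := inferInstance
  exact ((h.map (restrictFunctor e.hom) (Scheme.Modules.restrictUnitIso _).symm).of_iso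
      ((restrictFunctorComp e.hom f).app M).symm).of_iso
      ((restrictFunctorCongr hfg).app M)

theorem isFiniteType_of_locally
    (h : ∀ x : X, ∃ V : X.Opens, x ∈ V ∧
      SheafOfModules.IsFiniteType (R := (V : Scheme.{u}).ringCatSheaf) (M.restrict V.ι)) :
    SheafOfModules.IsFiniteType (R := X.ringCatSheaf) M := by
  have key : ∀ x : X, ∃ U : X.Opens, x ∈ U ∧
      HasFinGen (SheafOfModules.over (R := X.ringCatSheaf) M U) := by
    intro x
    obtain ⟨V, hxV, hV⟩ := h x
    obtain ⟨σ, hσ⟩ := hV.exists_localGeneratorsData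
    have hcov : IsOpenCover σ.X := (Opens.coversTop_iff _ σ.X).1 σ.coversTop
    obtain ⟨i, hi⟩ := hcov.exists_mem (⟨x, hxV⟩ : V)
    let W : (V : Scheme.{u}).Opens := σ.X i
    have h1 : HasFinGen (SheafOfModules.over (R := (V : Scheme.{u}).ringCatSheaf)
        (M.restrict V.ι) W) := ⟨σ.generators i, (hσ.isFiniteType i).finite⟩
    have h2 := hasFinGen_restrict_of_over (M.restrict V.ι) (le_refl W) h1
    have h3 : HasFinGen (R := (W : Scheme.{u}).ringCatSheaf)
        (M.restrict (W.ι ≫ V.ι)) :=
      h2.of_iso ((restrictFunctorComp _ _).app M).symm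
    have h4 : HasFinGen (R := ((V.ι ''ᵁ W : X.Opens) : Scheme.{u}).ringCatSheaf)
        (M.restrict (V.ι ''ᵁ W).ι) :=
      hasFinGen_restrict_of_iso M (V.ι.isoImage W).symm (W.ι ≫ V.ι) _ (by simp) h3
    exact ⟨V.ι ''ᵁ W, ⟨⟨x, hxV⟩, hi, rfl⟩, hasFinGen_over_of_restrict M h4⟩
  choose U hxU hgen using key
  choose σ hσ using hgen
  have hcov : IsOpenCover U := by
    change ⨆ x, U x = ⊤
    exact top_le_iff.1 fun x _ => Opens.mem_iSup.2 ⟨x, hxU x⟩
  let D : SheafOfModules.LocalGeneratorsData.{u} (R := X.ringCatSheaf) M :=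
    { I := ↥X
      X := U
      coversTop := (Opens.coversTop_iff _ U).2 hcov
      generators := σ }
  have hD : D.IsFiniteType := { isFiniteType := fun x => { finite := hσ x } }
  exact { exists_localGeneratorsData := ⟨D, hD⟩ }

theorem isFiniteType_of_iso {M N : X.Modules} (e : M ≅ N) [M.IsQuasicoherent]
    (hM : SheafOfModules.IsFiniteType (R := X.ringCatSheaf) M) :
    SheafOfModules.IsFiniteType (R := X.ringCatSheaf) N := by
  haveI : N.IsQuasicoherent := isQuasicoherent_of_iso e
  exact Groth.Agent.Lib.Helper21.CohNoeth.isFiniteType_of_epi e.hom hM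

theorem isFiniteType_freeMod (Z : Scheme.{u}) (k : ℕ) :
    SheafOfModules.IsFiniteType (R := Z.ringCatSheaf) (FlatMod.freeMod Z k) := by
  haveI := Groth.Agent.Lib.Helper2.LocFreeAff.freeMod_isQuasicoherent Z k
  rw [Groth.Agent.Lib.Lead.CohAff.isFiniteType_iff_finite_sections]
  intro U hU
  obtain ⟨e⟩ := Groth.Agent.Lib.Helper2.LocFreeAff.nonempty_sections_freeMod_equiv Z k hU
  exact Module.Finite.equiv e.symm

theorem isFiniteType_of_isFinLocFree (hM : FlatMod.IsFinLocFree M) :
    SheafOfModules.IsFiniteType (R := X.ringCatSheaf) M := by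
  refine isFiniteType_of_locally M (fun x => ?_)
  obtain ⟨U, n, hxU, ⟨e⟩⟩ := hM x
  haveI := Groth.Agent.Lib.Helper2.LocFreeAff.freeMod_isQuasicoherent (U : Scheme.{u}) n
  exact ⟨U, hxU, isFiniteType_of_iso e.symm
    (isFiniteType_freeMod _ n)⟩

theorem isZero_of_locally
    (h : ∀ x : X, ∃ V : X.Opens, x ∈ V ∧ IsZero (M.restrict V.ι)) : IsZero M := by
  rw [Groth.Agent.Lib.Helper48.OmegaAff.isZero_iff_subsingleton_sections]
  apply Groth.Agent.Lib.Helper48.OmegaAff.subsingleton_sections_of_basis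
  intro x W hxW
  obtain ⟨V, hxV, hV⟩ := h x
  refine ⟨V.ι ''ᵁ (V.ι ⁻¹ᵁ W), ⟨⟨x, hxV⟩, hxW, rfl⟩, ?_, ?_⟩
  · exact Scheme.Hom.image_preimage_le _ _
  · exact ((Groth.Agent.Lib.Helper48.OmegaAff.isZero_iff_subsingleton_sections _).1 hV)
      (V.ι ⁻¹ᵁ W)

/-- cohomology of a strictly perfect complex on a locally Noetherian scheme is coherent -/
theorem isCoh_homology_of_isStrictlyPerfect [IsLocallyNoetherian X]
    (E : CochainComplex X.Modules ℤ) (hE : DCoh.IsStrictlyPerfect E) (i : ℤ) :
    Coh.IsCoh (E.homology i) := by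
  haveI hq := isQuasicoherent_homology_of_isStrictlyPerfect E hE i
  haveI hc := isQuasicoherent_cycles E
    (fun k => Groth.Agent.Lib.Helper2.RankSections.isQuasicoherent_of_isFinLocFree _ (hE.2 k)) i
  haveI := Groth.Agent.Lib.Helper2.RankSections.isQuasicoherent_of_isFinLocFree _ (hE.2 i)
  refine ⟨hq, ?_⟩
  have h1 : SheafOfModules.IsFiniteType (R := X.ringCatSheaf) (E.cycles i) :=
    Groth.Agent.Lib.Helper21.CohNoeth.isFiniteType_of_mono (E.iCycles i)
      (isFiniteType_of_isFinLocFree _ (hE.2 i))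
  exact Groth.Agent.Lib.Helper21.CohNoeth.isFiniteType_of_epi (E.homologyπ i) h1

end FT

end Groth.Agent.Lib.Helper2.DCohCoh
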