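import Mathlib
import Groth.Prelude.Def_CohB1
import Groth.Agent.Lib.Helper2.DCohFP

set_option autoImplicit false
universe u
open CategoryTheory CategoryTheory.Limits AlgebraicGeometry

namespace Groth.Agent.Lib.Helper2.FTPushL1

open Scheme.Modules Groth.Agent.Lib.Lead.CohAff TopologicalSpace
open Groth.Agent.Lib.Helper2.DCohCoh Groth.Agent.Lib.Helper2.DCohFP

set_option backward.isDefEq.respectTransparency false in
/-- transport of finite generation along an open immersion over `X` -/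
theorem hasFinGen_restrict_of_openImmersion {X Y Z : Scheme.{u}} (M : X.Modules) (v : Y ⟶ Z)
    [IsOpenImmersion v] (f : Z ⟶ X) (g : Y ⟶ X)
    [IsOpenImmersion f] [IsOpenImmersion g] (hfg : v ≫ f = g)
    (h : HasFinGen (R := Z.ringCatSheaf) (M.restrict f)) :
    HasFinGen (R := Y.ringCatSheaf) (M.restrict g) := by
  have : PreservesColimitsOfSize.{u, u} (restrictFunctor v) := inferInstance
  exact ((h.map (restrictFunctor v) (Scheme.Modules.restrictUnitIso _).symm).of_iso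
      ((restrictFunctorComp v f).app M).symm).of_iso
      ((restrictFunctorCongr hfg).app M)

theorem isFT_restrict {X : Scheme.{u}} (M : X.Modules) (h : CohB1.IsFT M) (U : X.Opens) :
    CohB1.IsFT ((Scheme.Modules.restrictFunctor U.ι).obj M) := by
  apply isFiniteType_of_locally_hasFinGen
  intro y
  obtain ⟨W, hxW, hW⟩ := exists_hasFinGen_restrict M h (U.ι y)
  refine ⟨U.ι ⁻¹ᵁ W, hxW, ?_⟩
  -- the open immersion `U.ι ⁻¹ W ⟶ W`
  have hr : Set.range ((U.ι ⁻¹ᵁ W).ι ≫ U.ι).base ⊆ Set.range W.ι.base := by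
    rintro _ ⟨z, rfl⟩
    rw [Scheme.Opens.range_ι]
    exact z.2
  let v : ((U.ι ⁻¹ᵁ W : U.toScheme.Opens) : Scheme.{u}) ⟶ (W : Scheme.{u}) :=
    IsOpenImmersion.lift W.ι ((U.ι ⁻¹ᵁ W).ι ≫ U.ι) hr
  have hv : v ≫ W.ι = (U.ι ⁻¹ᵁ W).ι ≫ U.ι := IsOpenImmersion.lift_fac _ _ _
  haveI : IsOpenImmersion (v ≫ W.ι) := by rw [hv]; infer_instance
  haveI : IsOpenImmersion v := IsOpenImmersion.of_comp v W.ι
  have h1 : HasFinGen (R := ((U.ι ⁻¹ᵁ W : U.toScheme.Opens) : Scheme.{u}).ringCatSheaf)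
      (M.restrict ((U.ι ⁻¹ᵁ W).ι ≫ U.ι)) :=
    hasFinGen_restrict_of_openImmersion M v W.ι _ hv hW
  exact h1.of_iso ((restrictFunctorComp (U.ι ⁻¹ᵁ W).ι U.ι).app M)

end Groth.Agent.Lib.Helper2.FTPushL1
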