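import Groth.Prelude.Def_AlgSpPerf
import Groth.Agent.Lib.Helper30.BcCovers
import Mathlib.CategoryTheory.Sites.CoversTop.Basic

/-!
# Perfect objects on a quasi-compact algebraic space are bounded above (helper2)
-/

set_option autoImplicit false
set_option backward.isDefEq.respectTransparency false
universe w v' u' u
open CategoryTheory CategoryTheory.Limits AlgebraicGeometry Opposite
attribute [local instance] HasDerivedCategory.standard

namespace Groth.Agent.Lib.Helper2.AlgSpPerfBound

section Generic

variable {C₁ C₂ : Type*} [Category C₁] [Category C₂] [Abelian C₁] [Abelian C₂]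
  [HasDerivedCategory C₁] [HasDerivedCategory C₂]
  (F : C₁ ⥤ C₂) [F.Additive] [PreservesFiniteLimits F] [PreservesFiniteColimits F]

/-- homology commutes with an exact functor (complex level) -/
noncomputable def homCx (i : ℤ) :
    F.mapHomologicalComplex (ComplexShape.up ℤ) ⋙ HomologicalComplex.homologyFunctor C₂ _ i ≅
      HomologicalComplex.homologyFunctor C₁ _ i ⋙ F :=
  NatIso.ofComponents (fun K => (K.sc i).mapHomologyIso F)
    (fun {K L} f => ShortComplex.mapHomologyIso_hom_naturality
      ((HomologicalComplex.shortComplexFunctor C₁ (ComplexShape.up ℤ) i).map f) F)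

/-- cohomology objects commute with the functor induced on derived categories by an exact functor -/
noncomputable def homMapD (i : ℤ) :
    F.mapDerivedCategory ⋙ DerivedCategory.homologyFunctor C₂ i ≅
      DerivedCategory.homologyFunctor C₁ i ⋙ F :=
  letI : Localization.Lifting DerivedCategory.Q
      (HomologicalComplex.quasiIso C₁ (ComplexShape.up ℤ))
      (F.mapHomologicalComplex (ComplexShape.up ℤ) ⋙ HomologicalComplex.homologyFunctor C₂ _ i)
      (F.mapDerivedCategory ⋙ DerivedCategory.homologyFunctor C₂ i) :=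
    ⟨(Functor.associator _ _ _).symm ≪≫
      Functor.isoWhiskerRight F.mapDerivedCategoryFactors _ ≪≫ Functor.associator _ _ _ ≪≫
      Functor.isoWhiskerLeft _ (DerivedCategory.homologyFunctorFactors C₂ i)⟩
  letI : Localization.Lifting DerivedCategory.Q
      (HomologicalComplex.quasiIso C₁ (ComplexShape.up ℤ))
      (HomologicalComplex.homologyFunctor C₁ _ i ⋙ F)
      (DerivedCategory.homologyFunctor C₁ i ⋙ F) :=
    ⟨(Functor.associator _ _ _).symm ≪≫
      Functor.isoWhiskerRight (DerivedCategory.homologyFunctorFactors C₁ i) _⟩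
  Localization.liftNatIso DerivedCategory.Q
    (HomologicalComplex.quasiIso C₁ (ComplexShape.up ℤ))
    (F.mapHomologicalComplex (ComplexShape.up ℤ) ⋙ HomologicalComplex.homologyFunctor C₂ _ i)
    (HomologicalComplex.homologyFunctor C₁ _ i ⋙ F) _ _
    (homCx F i)

end Generic

section Site

variable {C : Type u'} [Category.{v'} C] {J : GrothendieckTopology C} {R : Sheaf J RingCat.{w}}

theorem subsingleton_of_isZero (N : SheafOfModules.{w} R) (h : IsZero N) (U : Cᵒᵖ) :
    Subsingleton (N.val.obj U) := by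
  have h1 : (𝟙 N : N ⟶ N) = 0 := h.eq_of_src _ _
  have h2 : ∀ m : N.val.obj U, m = 0 := fun m => by
    have h3 : (𝟙 N : N ⟶ N).val.app U = (0 : N ⟶ N).val.app U := by rw [h1]
    have h4 := congrArg (fun f => (ModuleCat.Hom.hom f) m) h3
    exact h4
  exact ⟨fun a b => by rw [h2 a, h2 b]⟩

theorem isZero_of_subsingleton (M : SheafOfModules.{w} R)
    (h : ∀ U, Subsingleton (M.val.obj U)) : IsZero M := by
  rw [IsZero.iff_id_eq_zero]
  apply SheafOfModules.hom_ext
  apply PresheafOfModules.hom_ext
  intro U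
  ext m
  haveI := h U
  exact Subsingleton.elim _ _

theorem isZero_of_coversTop {ι : Type*} (Y : ι → C) (hY : J.CoversTop Y)
    (M : SheafOfModules.{w} R) (h : ∀ i, IsZero (M.over (Y i))) : IsZero M := by
  apply isZero_of_subsingleton
  intro U
  refine ⟨fun a b => ?_⟩
  refine M.isSheaf.isSeparated _ _ (hY U.unop) a b ?_
  intro Z f hf
  obtain ⟨i, ⟨g⟩⟩ := hf
  have hs := subsingleton_of_isZero (M.over (Y i)) (h i) (op (Over.mk g))
  exact @Subsingleton.elim _ hs _ _

end Site

section AlgSpPart

open AlgSp Groth.Agent.Lib.Helper37.AlgSpPoints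

variable {S : Scheme.{u}} {X : Sp S}

/-- a family of objects of the small étale site that is jointly surjective on points covers the
final object -/
theorem coversTop_of_surjective {I : Type*} (V : I → EtOver X)
    (h : ∀ ξ : Points X, ∃ (i : I) (v : ↥(V i).obj.left.left),
      Points.ofPt (V i).obj.hom v = ξ) :
    (etTop X).CoversTop V := by
  intro T
  have hcov : Sieve.ofArrows (fun i => EtOver.prodObj T (V i))
      (fun i => EtOver.prodFst T (V i)) ∈ etTop X T := by
    apply ofArrows_mem_etTop
    intro x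
    obtain ⟨i, v, hv⟩ := h (Points.ofPt T.obj.hom x)
    refine ⟨i, ?_⟩
    have sq := Groth.Agent.Lib.Helper30.BcProd.isPullback_prod T (V i)
    obtain ⟨r, hr, -⟩ := (ofPt_eq_ofPt_iff sq x v).1 hv.symm
    exact ⟨r, hr⟩
  refine (etTop X).superset_covering ?_ hcov
  rintro Z g ⟨Z', k, _, ⟨i⟩, rfl⟩
  exact (Sieve.mem_ofObjects_iff ..).2 ⟨i, ⟨k ≫ EtOver.prodSnd T (V i)⟩⟩

/-- a perfect object on a quasi-compact sheaf (e.g. algebraic space) is cohomologically
bounded above -/
theorem exists_isLE_of_isPerfectEtD (hXc : IsQuasiCompactSp X) (P : DModEt X)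
    (hP : IsPerfectEtD P) : ∃ b : ℤ, P.IsLE b := by
  obtain ⟨U, p, hpe, hps, hUc⟩ := hXc
  obtain ⟨ι, V, g, hcov, hV⟩ := hP (EtOver.mk p hpe)
  have hsurj := (ofArrows_mem_etPre_iff V g).1 hcov
  have hopen : ∀ i, IsOpen (Set.range (g i).hom.left.left) := fun i => by
    haveI := EtOver.etale_left (g i)
    exact (g i).hom.left.left.isOpenMap.isOpen_range
  haveI : CompactSpace ↥(EtOver.mk p hpe).obj.left.left := hUc
  obtain ⟨s, hs⟩ := isCompact_univ.elim_finite_subcover
    (fun i => Set.range (g i).hom.left.left) hopen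
    (fun w _ => Set.mem_iUnion.2 (hsurj w))
  choose E hE using hV
  have hbd : ∀ i, ∃ b : ℤ, ∀ j : ℤ, b < j → IsZero ((E i).X j) := fun i => by
    obtain ⟨⟨a, b, hab⟩, -⟩ := (hE i).1
    exact ⟨b, fun j hj => hab j (Or.inr hj)⟩
  choose b hb using hbd
  obtain ⟨B, hB⟩ := (s.image b).exists_le
  refine ⟨B, ?_⟩
  rw [DerivedCategory.isLE_iff]
  intro j hj
  have hct : (etTop X).CoversTop (fun i : s => V i.1) := by
    apply coversTop_of_surjective
    intro ξ
    obtain ⟨w, rfl⟩ := ofPt_surjective p hps ξ
    obtain ⟨i, hi⟩ := Set.mem_iUnion.1 (hs (Set.mem_univ w))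
    obtain ⟨his, v, rfl⟩ := Set.mem_iUnion.1 hi
    refine ⟨⟨i, his⟩, v, ?_⟩
    have h1 := ofPt_map_comp (g i).hom.left p v
    rw [← h1]
    congr 1
    exact (EtOver.w (g i)).symm
  apply isZero_of_coversTop _ hct
  intro i
  have iso := ((homMapD (resModEt (V i.1)) j).app P).symm ≪≫
    (DerivedCategory.homologyFunctor _ j).mapIso (hE i.1).2.some ≪≫
    (DerivedCategory.homologyFunctorFactors _ j).app (E i.1)
  refine IsZero.of_iso ?_ iso
  apply ShortComplex.isZero_homology_of_isZero_X₂
  apply hb
  have := hB (b i.1) (Finset.mem_image_of_mem b i.2)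
  omega

end AlgSpPart

end Groth.Agent.Lib.Helper2.AlgSpPerfBound
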