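import Groth.Agent.Lib.Helper2.ConeLift
import Groth.Agent.Lib.Helper42.FinPres
import Groth.Agent.S9041
import Groth.Prelude.Def_AlgSpPerf

/-!
# Local null-homotopies for maps out of strictly perfect complexes on a ringed site
(helper2 seat library)

* `null_locally`: on a ringed site, if `E` has direct summands of finite free modules as terms,
  `E^i = 0` for `i < a`, `α^i = 0` for `i > b` and `H^j(F) = 0` for `j ≥ a`, then `α : E ⟶ F`
  is locally null-homotopic.
* `locally_trans`, `transport_null`, `transport_over'`: plumbing for iterated localisation.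
-/

set_option autoImplicit false

open CategoryTheory Limits Opposite ModSite SheafOfModules HomologicalComplex

namespace Groth.Agent.Lib.Helper2.StrictPerfLift

universe u

section Abstract

theorem locally_trans {C : Type*} [Category C] {J : GrothendieckTopology C} (P : C → Prop) (V : C)
    (R₁ : Sieve V) (h₁ : R₁ ∈ J V)
    (h : ∀ ⦃W : C⦄ (g : W ⟶ V), R₁ g → ∃ R₂ ∈ J W, ∀ ⦃W' : C⦄ (k : W' ⟶ W), R₂ k → P W') :
    ∃ R ∈ J V, ∀ ⦃W : C⦄ (g : W ⟶ V), R g → P W := by
  let R : Sieve V :=
    { arrows := fun W' _ => ∀ ⦃W'' : C⦄ (_ : W'' ⟶ W'), P W''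
      downward_closed := by
        intro Y Z f hf g W'' k
        exact hf (k ≫ g) }
  refine ⟨R, ?_, fun W g hg => hg (𝟙 W)⟩
  apply J.transitive h₁
  intro W g hg
  obtain ⟨R₂, hR₂, hP⟩ := h g hg
  apply J.superset_covering ?_ hR₂
  intro W' k hk W'' k'
  exact hP (k' ≫ k) (R₂.downward_closed hk k')

variable {𝒜 ℬ 𝒞 : Type*} [Category 𝒜] [Category ℬ] [Category 𝒞]
  [Preadditive 𝒜] [Preadditive ℬ] [Preadditive 𝒞]

/-- transport of a null-homotopy along a natural isomorphism of functors -/
theorem transport_null (P : 𝒜 ⥤ ℬ) (Ψ : ℬ ⥤ 𝒞) (P' : 𝒜 ⥤ 𝒞) [P.Additive] [Ψ.Additive] [P'.Additive]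
    (θ : P ⋙ Ψ ≅ P') {E F : CochainComplex 𝒜 ℤ} (α : E ⟶ F)
    (α' : (P.mapHomologicalComplex (ComplexShape.up ℤ)).obj E ⟶
      (P.mapHomologicalComplex (ComplexShape.up ℤ)).obj F)
    (h₁ : Homotopy ((P.mapHomologicalComplex (ComplexShape.up ℤ)).map α) α')
    (h₂ : Homotopy ((Ψ.mapHomologicalComplex (ComplexShape.up ℤ)).map α') 0) :
    Nonempty (Homotopy ((P'.mapHomologicalComplex (ComplexShape.up ℤ)).map α) 0) := by
  let Θ := NatIso.mapHomologicalComplex θ (ComplexShape.up ℤ)
  have nat := Θ.hom.naturality α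
  have h3 : Homotopy ((Ψ.mapHomologicalComplex (ComplexShape.up ℤ)).map
      ((P.mapHomologicalComplex (ComplexShape.up ℤ)).map α)) 0 :=
    (Ψ.mapHomotopy h₁).trans h₂
  have e1 : (P'.mapHomologicalComplex (ComplexShape.up ℤ)).map α =
      Θ.inv.app E ≫ ((P ⋙ Ψ).mapHomologicalComplex (ComplexShape.up ℤ)).map α ≫ Θ.hom.app F := by
    rw [nat, Iso.inv_hom_id_app_assoc]
  have e2 : ((P ⋙ Ψ).mapHomologicalComplex (ComplexShape.up ℤ)).map α =
      (Ψ.mapHomologicalComplex (ComplexShape.up ℤ)).map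
        ((P.mapHomologicalComplex (ComplexShape.up ℤ)).map α) := rfl
  rw [e1, e2]
  refine ⟨((h3.compRight (Θ.hom.app F)).compLeft (Θ.inv.app E)).trans (Homotopy.ofEq ?_)⟩
  rw [zero_comp, comp_zero]

end Abstract

section Site

open Groth.Agent.Lib.Helper42.FinPres Groth.Agent.Lib.Helper2.ConeLift

variable {C : Type u} [SmallCategory C] {J : GrothendieckTopology C} (O : Sheaf J CommRingCat.{u})

theorem isFinFreeSummandMod_restr (W : C) (M : Mod O)
    (hM : DCoh.IsFinFreeSummandMod (ringSh O) M) :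
    DCoh.IsFinFreeSummandMod (ringSh (O.over W)) ((restr O W).obj M) := by
  obtain ⟨n, i, p, hip⟩ := hM
  refine ⟨n, (restr O W).map i ≫ (freeIso O W _).inv, (freeIso O W _).hom ≫ (restr O W).map p, ?_⟩
  rw [Category.assoc, Iso.inv_hom_id_assoc, ← Functor.map_comp, hip, CategoryTheory.Functor.map_id]

theorem isZero_homology_restr (W : C) (F : CochainComplex (Mod O) ℤ) (j : ℤ)
    (h : IsZero (F.homology j)) :
    IsZero ((((restr O W).mapHomologicalComplex (ComplexShape.up ℤ)).obj F).homology j) := by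
  rw [← exactAt_iff_isZero_homology] at h ⊢
  rw [exactAt_iff] at h ⊢
  exact h.map (restr O W)

section Generic

variable {R : Sheaf J RingCat.{u}}

instance overFunctor_additive (X : C) : (overFunctor R X).Additive where

instance eqv_inverse_additive (Xi : C) (Y : Over Xi) : (eqv R Xi Y).inverse.Additive where
  map_add := by intros; rfl

theorem transport_over' (Xi : C) (Y : Over Xi) {E F : CochainComplex (SheafOfModules.{u} R) ℤ}
    (α : E ⟶ F)
    (α' : ((overFunctor R Xi).mapHomologicalComplex (ComplexShape.up ℤ)).obj E ⟶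
      ((overFunctor R Xi).mapHomologicalComplex (ComplexShape.up ℤ)).obj F)
    (h₁ : Homotopy (((overFunctor R Xi).mapHomologicalComplex (ComplexShape.up ℤ)).map α) α')
    (h₂ : Homotopy (((overFunctor (R.over Xi) Y).mapHomologicalComplex
      (ComplexShape.up ℤ)).map α') 0) :
    Nonempty (Homotopy (((overFunctor R Y.left).mapHomologicalComplex
      (ComplexShape.up ℤ)).map α) 0) := by
  have H2 : Homotopy (((overFunctor (R.over Xi) Y ⋙ (eqv R Xi Y).inverse).mapHomologicalComplex
      (ComplexShape.up ℤ)).map α') 0 :=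
    ((eqv R Xi Y).inverse.mapHomotopy h₂).trans (Homotopy.ofEq (Functor.map_zero _ _ _))
  exact transport_null (overFunctor R Xi) (overFunctor (R.over Xi) Y ⋙ (eqv R Xi Y).inverse)
    (overFunctor R Y.left) (θ R Xi Y) α α' h₁ H2

end Generic

theorem epi_toCycles_of_isZero_homology {A : Type*} [Category A] [Abelian A]
    (F : CochainComplex A ℤ) (c : ℤ) (h : IsZero (F.homology (c + 1))) :
    Epi (F.toCycles c (c + 1)) :=
  Preadditive.epi_of_isZero_cokernel' _ (F.homologyIsCokernel c (c + 1) (by simp)) h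

theorem null_of_forall_zero {E F : CochainComplex (Mod O) ℤ} (α : E ⟶ F) (a b : ℤ) (hba : b < a)
    (hEa : ∀ j, j < a → IsZero (E.X j)) (hb : ∀ i, b < i → α.f i = 0) : α = 0 := by
  refine HomologicalComplex.hom_ext _ _ (fun i => ?_)
  by_cases hi : b < i
  · exact hb i hi
  · exact (hEa i (by lia)).eq_of_src _ _

theorem null_locally (N : ℕ) : ∀ {C : Type u} [SmallCategory C] {J : GrothendieckTopology C}
    (O : Sheaf J CommRingCat.{u}) (E F : CochainComplex (Mod O) ℤ) (α : E ⟶ F) (a b : ℤ)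
    (_ : b < a + N) (_ : ∀ i, DCoh.IsFinFreeSummandMod (ringSh O) (E.X i))
    (_ : ∀ j, j < a → IsZero (E.X j)) (_ : ∀ i, b < i → α.f i = 0)
    (_ : ∀ j, a ≤ j → IsZero (F.homology j)) (V : C),
    ∃ R ∈ J V, ∀ ⦃W : C⦄ (g : W ⟶ V), R g →
      Nonempty (Homotopy (((restr O W).mapHomologicalComplex (ComplexShape.up ℤ)).map α) 0) := by
  induction N with
  | zero =>
    intro C _ J O E F α a b hN hE hEa hb hF V
    have h0 : α = 0 := null_of_forall_zero O α a b (by simpa using hN) hEa hb
    refine ⟨⊤, J.top_mem V, fun W g _ => ⟨Homotopy.ofEq ?_⟩⟩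
    rw [h0, Functor.map_zero]
  | succ N ih =>
    intro C _ J O E F α a b hN hE hEa hb hF V
    by_cases hba : b < a
    · have h0 : α = 0 := null_of_forall_zero O α a b hba hEa hb
      refine ⟨⊤, J.top_mem V, fun W g _ => ⟨Homotopy.ofEq ?_⟩⟩
      rw [h0, Functor.map_zero]
    · obtain ⟨c, rfl⟩ : ∃ c, b = c + 1 := ⟨b - 1, by lia⟩
      have hd : α.f (c + 1) ≫ F.d (c + 1) (c + 1 + 1) = 0 := by
        rw [α.comm, hb (c + 1 + 1) (by lia), comp_zero]
      let φ : E.X (c + 1) ⟶ F.cycles (c + 1) := F.liftCycles (α.f (c + 1)) (c + 1 + 1) (by simp) hd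
      have hφ : φ ≫ F.iCycles (c + 1) = α.f (c + 1) := F.liftCycles_i _ _ _ _
      haveI : Epi (F.toCycles c (c + 1)) :=
        epi_toCycles_of_isZero_homology F c (hF _ (by lia))
      obtain ⟨R₁, hR₁, hl⟩ := Groth.Agent.S9041.result O (E.X (c + 1)) (F.cycles (c + 1)) (F.X c)
        (hE _) (F.toCycles c (c + 1)) φ V
      apply locally_trans (fun W => Nonempty (Homotopy
        (((restr O W).mapHomologicalComplex (ComplexShape.up ℤ)).map α) 0)) V R₁ hR₁
      intro W g hg
      obtain ⟨l, hl⟩ := hl g hg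
      have hl' : l ≫ (restr O W).map (F.d c (c + 1)) = (restr O W).map (α.f (c + 1)) := by
        rw [← F.toCycles_i c (c + 1), Functor.map_comp, ← Category.assoc, hl, ← Functor.map_comp, hφ]
      let EW := ((restr O W).mapHomologicalComplex (ComplexShape.up ℤ)).obj E
      let FW := ((restr O W).mapHomologicalComplex (ComplexShape.up ℤ)).obj F
      let αW : EW ⟶ FW := ((restr O W).mapHomologicalComplex (ComplexShape.up ℤ)).map α
      let l' : EW.X (c + 1) ⟶ FW.X c := l
      let α' : EW ⟶ FW := modify αW c l'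
      have hα' : ∀ i, c < i → α'.f i = 0 := by
        intro i hi
        by_cases hi' : i = c + 1
        · subst hi'
          rw [modify_f_top]
          change (restr O W).map (α.f (c + 1)) - l ≫ (restr O W).map (F.d c (c + 1)) = 0
          rw [hl', sub_self]
        · rw [modify_f_of_lt _ _ _ _ (by lia)]
          change (restr O W).map (α.f i) = 0
          rw [hb i (by lia), Functor.map_zero]
      obtain ⟨R₂', hR₂', hH⟩ := ih (O.over W) EW FW α' a c (by lia)
        (fun i => isFinFreeSummandMod_restr O W _ (hE i))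
        (fun j hj => (restr O W).map_isZero (hEa j hj)) hα'
        (fun j hj => isZero_homology_restr O W F j (hF j hj)) (Over.mk (𝟙 W))
      refine ⟨Sieve.overEquiv _ R₂', (GrothendieckTopology.mem_over_iff _ _).1 hR₂', ?_⟩
      intro W' k hk
      rw [Sieve.overEquiv_iff] at hk
      obtain ⟨H⟩ := hH _ hk
      exact transport_over' (R := ringSh O) W (Over.mk (k ≫ (Over.mk (𝟙 W)).hom)) α α'
        (modifyHomotopy αW c l') H

end Site

end Groth.Agent.Lib.Helper2.StrictPerfLift
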