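import Groth.Agent.Lib.Helper2.DCohBase
import Groth.Agent.Lib.Helper2.StrictPerfLift

set_option autoImplicit false
universe u
open CategoryTheory Limits AlgebraicGeometry HomologicalComplex
attribute [local instance] HasDerivedCategory.standard

namespace Groth.Agent.Lib.Helper2.DCohLift

open Scheme.Modules Groth.Agent.Lib.Helper2.DCohBase Groth.Agent.Lib.Helper2.ConeLift
open Groth.Agent.Lib.Helper2.StrictPerfLift

theorem isZero_homology_resCx {X U : Scheme.{u}} (j : U ⟶ X) [IsOpenImmersion j]
    (F : CochainComplex X.Modules ℤ) (k : ℤ) (h : IsZero (F.homology k)) :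
    IsZero (((resCx j).obj F).homology k) := by
  rw [← exactAt_iff_isZero_homology] at h ⊢
  rw [exactAt_iff] at h ⊢
  exact h.map (restrictFunctor j)

theorem null_of_forall_zero {X : Scheme.{u}} {E F : CochainComplex X.Modules ℤ} (α : E ⟶ F)
    (a b : ℤ) (hba : b < a)
    (hEa : ∀ j, j < a → IsZero (E.X j)) (hb : ∀ i, b < i → α.f i = 0) : α = 0 := by
  refine HomologicalComplex.hom_ext _ _ (fun i => ?_)
  by_cases hi : b < i
  · exact hb i hi
  · exact (hEa i (by lia)).eq_of_src _ _

theorem null_locally (N : ℕ) : ∀ {X : Scheme.{u}} (E F : CochainComplex X.Modules ℤ) (α : E ⟶ F)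
    (a b : ℤ) (_ : b < a + N) (_ : ∀ i, FlatMod.IsFinLocFree (E.X i))
    (_ : ∀ j, j < a → IsZero (E.X j)) (_ : ∀ i, b < i → α.f i = 0)
    (_ : ∀ j, a ≤ j → IsZero (F.homology j)) (x : X),
    ∃ (U : Scheme.{u}) (j : U ⟶ X) (_ : IsOpenImmersion j), x ∈ Set.range j ∧
      Nonempty (Homotopy ((resCx j).map α) 0) := by
  induction N with
  | zero =>
    intro X E F α a b hN hE hEa hb hF x
    have h0 : α = 0 := null_of_forall_zero α a b (by simpa using hN) hEa hb
    refine ⟨X, 𝟙 X, inferInstance, ⟨x, rfl⟩, ⟨Homotopy.ofEq ?_⟩⟩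
    rw [h0, Functor.map_zero]
  | succ N ih =>
    intro X E F α a b hN hE hEa hb hF x
    by_cases hba : b < a
    · have h0 : α = 0 := null_of_forall_zero α a b hba hEa hb
      refine ⟨X, 𝟙 X, inferInstance, ⟨x, rfl⟩, ⟨Homotopy.ofEq ?_⟩⟩
      rw [h0, Functor.map_zero]
    · obtain ⟨c, rfl⟩ : ∃ c, b = c + 1 := ⟨b - 1, by lia⟩
      have hd : α.f (c + 1) ≫ F.d (c + 1) (c + 1 + 1) = 0 := by
        rw [α.comm, hb (c + 1 + 1) (by lia), comp_zero]
      let φ : E.X (c + 1) ⟶ F.cycles (c + 1) := F.liftCycles (α.f (c + 1)) (c + 1 + 1) (by simp) hd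
      have hφ : φ ≫ F.iCycles (c + 1) = α.f (c + 1) := F.liftCycles_i _ _ _ _
      haveI : Epi (F.toCycles c (c + 1)) :=
        epi_toCycles_of_isZero_homology F c (hF _ (by lia))
      obtain ⟨V, l, hxV, hl⟩ := Groth.Agent.S0934.result (F.toCycles c (c + 1)) φ (hE (c + 1)) x
      have hl' : l ≫ (restrictFunctor V.ι).map (F.d c (c + 1)) =
          (restrictFunctor V.ι).map (α.f (c + 1)) := by
        rw [← F.toCycles_i c (c + 1), Functor.map_comp, ← Category.assoc, hl, ← Functor.map_comp, hφ]
      let EV := (resCx V.ι).obj E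
      let FV := (resCx V.ι).obj F
      let αV : EV ⟶ FV := (resCx V.ι).map α
      let l' : EV.X (c + 1) ⟶ FV.X c := l
      let α' : EV ⟶ FV := modify αV c l'
      have hα' : ∀ i, c < i → α'.f i = 0 := by
        intro i hi
        by_cases hi' : i = c + 1
        · subst hi'
          rw [modify_f_top]
          change (restrictFunctor V.ι).map (α.f (c + 1)) -
            l ≫ (restrictFunctor V.ι).map (F.d c (c + 1)) = 0
          rw [hl', sub_self]
        · rw [modify_f_of_lt _ _ _ _ (by lia)]
          change (restrictFunctor V.ι).map (α.f i) = 0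
          rw [hb i (by lia), Functor.map_zero]
      obtain ⟨U', j', hj', hx', ⟨H⟩⟩ := ih EV FV α' a c (by lia)
        (fun i => isFinLocFree_restrict V.ι _ (hE i))
        (fun j hj => (restrictFunctor V.ι).map_isZero (hEa j hj)) hα'
        (fun j hj => isZero_homology_resCx V.ι F j (hF j hj)) ⟨x, hxV⟩
      haveI := hj'
      refine ⟨U', j' ≫ V.ι, inferInstance, ?_, ?_⟩
      · obtain ⟨y, hy⟩ := hx'
        exact ⟨y, by rw [Scheme.Hom.comp_apply, hy]; rfl⟩
      · exact transport_null (restrictFunctor V.ι) (restrictFunctor j') (restrictFunctor (j' ≫ V.ι))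
          (restrictFunctorComp j' V.ι).symm α α' (modifyHomotopy αV c l') H

/-- scheme version of the local lifting up to homotopy out of a strictly perfect complex -/
theorem lift_locally {X : Scheme.{u}} (E F G : CochainComplex X.Modules ℤ) (α : E ⟶ F) (f : G ⟶ F)
    (hE : DCoh.IsStrictlyPerfect E) (a : ℤ) (hEa : ∀ j : ℤ, j < a → IsZero (E.X j))
    (hiso : ∀ j : ℤ, a < j → IsIso (HomologicalComplex.homologyMap f j))
    (hepi : Epi (HomologicalComplex.homologyMap f a)) (x : X) :
    ∃ (U : Scheme.{u}) (j : U ⟶ X) (_ : IsOpenImmersion j), x ∈ Set.range j ∧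
      ∃ β : (resCx j).obj E ⟶ (resCx j).obj G,
        Nonempty (Homotopy (β ≫ (resCx j).map f) ((resCx j).map α)) := by
  obtain ⟨⟨a', b, hab⟩, hsum⟩ := hE
  let γ : E ⟶ CochainComplex.mappingCone f := α ≫ CochainComplex.mappingCone.inr f
  have hb : ∀ i, b < i → γ.f i = 0 := fun i hi => (hab i (Or.inr hi)).eq_of_src _ _
  have hF : ∀ j, a ≤ j → IsZero ((CochainComplex.mappingCone f).homology j) := by
    intro j hj
    apply isZero_homology_mappingCone f j
    · rcases eq_or_lt_of_le hj with h | h
      · subst h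
        exact hepi
      · haveI := hiso j h
        infer_instance
    · haveI := hiso (j + 1) (by lia)
      infer_instance
  obtain ⟨U, j, hj, hx, ⟨H⟩⟩ := null_locally (b - a + 1).toNat E (CochainComplex.mappingCone f) γ a b
    (by have := Int.self_le_toNat (b - a + 1); lia) hsum hEa hb hF x
  haveI := hj
  refine ⟨U, j, hj, hx, ?_⟩
  have e1 : (resCx j).map γ ≫
      (CochainComplex.mappingCone.mapHomologicalComplexIso f (restrictFunctor j)).hom =
      (resCx j).map α ≫ CochainComplex.mappingCone.inr ((resCx j).map f) := by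
    rw [← CochainComplex.mappingCone.map_inr, ← Category.assoc, ← Functor.map_comp]
  have H' : Homotopy ((resCx j).map α ≫ CochainComplex.mappingCone.inr ((resCx j).map f)) 0 :=
    (Homotopy.ofEq e1.symm).trans
      ((H.compRight (CochainComplex.mappingCone.mapHomologicalComplexIso f
        (restrictFunctor j)).hom).trans (Homotopy.ofEq zero_comp))
  exact exists_lift_of_homotopy_inr _ _ H'

/-- scheme version: maps in the derived category out of a strictly perfect complex are locally
represented by maps of complexes -/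
theorem exists_rep_locally {X : Scheme.{u}} (E F : CochainComplex X.Modules ℤ)
    (hE : DCoh.IsStrictlyPerfect E)
    (α : DerivedCategory.Q.obj E ⟶ DerivedCategory.Q.obj F) (x : X) :
    ∃ (U : Scheme.{u}) (j : U ⟶ X) (_ : IsOpenImmersion j), x ∈ Set.range j ∧
      ∃ α' : (resCx j).obj E ⟶ (resCx j).obj F,
        (resD j).map α = (resFac j).hom.app E ≫ DerivedCategory.Q.map α' ≫ (resFac j).inv.app F := by
  obtain ⟨F', g₀, s, hs, hα⟩ := DerivedCategory.left_fac α
  have hqi : QuasiIso s := (DerivedCategory.isIso_Q_map_iff_quasiIso (φ := s)).1 hs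
  obtain ⟨⟨a, b, hab⟩, hsum⟩ := hE
  have hi : ∀ j, IsIso (HomologicalComplex.homologyMap s j) := fun j =>
    (quasiIsoAt_iff_isIso_homologyMap s j).1 (hqi.quasiIsoAt j)
  obtain ⟨U, j, hj, hx, β, ⟨H⟩⟩ := lift_locally E F' F g₀ s ⟨⟨a, b, hab⟩, hsum⟩ a
    (fun j hj => hab j (Or.inl hj)) (fun j _ => hi j) (by haveI := hi a; infer_instance) x
  haveI := hj
  refine ⟨U, j, hj, hx, β, ?_⟩
  have hQ := DerivedCategory.Q_map_eq_of_homotopy (h := H)
  rw [Functor.map_comp] at hQ
  have nat_g := (restrictFunctor j).mapDerivedCategoryFactors_hom_naturality g₀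
  have nat_s := (restrictFunctor j).mapDerivedCategoryFactors_hom_naturality s
  haveI : IsIso ((resD j).map (DerivedCategory.Q.map s)) := inferInstance
  rw [hα, Functor.map_comp, Functor.map_inv,
    ← cancel_mono ((resD j).map (DerivedCategory.Q.map s))]
  simp only [Category.assoc, IsIso.inv_hom_id, Category.comp_id]
  rw [← cancel_mono ((resFac j).hom.app F')]
  simp only [Category.assoc]
  rw [nat_g, nat_s, Iso.inv_hom_id_app_assoc, hQ]

end Groth.Agent.Lib.Helper2.DCohLift
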