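import Mathlib.RingTheory.Localization.Away.Basic
import Mathlib.Tactic.Ring
import Mathlib.Tactic.Abel

set_option autoImplicit false
universe u

namespace Groth.Agent.Lib.Helper2.DblRing

/-- data of a symmetric "associative" pairing -/
structure Pairing (R : Type u) (M : Type u) [CommRing R] [AddCommGroup M] [Module R M] where
  β : M →ₗ[R] M →ₗ[R] R
  symm : ∀ x y, β x y = β y x
  assoc : ∀ x y z, β x y • z = β y z • x

variable {R M : Type u} [CommRing R] [AddCommGroup M] [Module R M]

/-- The ring `R ⊕ M` with product `(r, m)(r', m') = (rr' + β(m, m'), r m' + r' m)`. -/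
structure DblOf (p : Pairing R M) where
  fst : R
  snd : M

namespace DblOf

variable (p : Pairing R M)

@[ext] theorem ext {x y : DblOf p} (h1 : x.fst = y.fst) (h2 : x.snd = y.snd) : x = y := by
  cases x; cases y; simp_all

instance : Zero (DblOf p) := ⟨⟨0, 0⟩⟩
instance : One (DblOf p) := ⟨⟨1, 0⟩⟩
instance : Add (DblOf p) := ⟨fun x y => ⟨x.fst + y.fst, x.snd + y.snd⟩⟩
instance : Neg (DblOf p) := ⟨fun x => ⟨-x.fst, -x.snd⟩⟩
instance : Sub (DblOf p) := ⟨fun x y => ⟨x.fst - y.fst, x.snd - y.snd⟩⟩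
instance : Mul (DblOf p) :=
  ⟨fun x y => ⟨x.fst * y.fst + p.β x.snd y.snd, x.fst • y.snd + y.fst • x.snd⟩⟩
instance : SMul ℕ (DblOf p) := ⟨fun n x => ⟨n • x.fst, n • x.snd⟩⟩
instance : SMul ℤ (DblOf p) := ⟨fun n x => ⟨n • x.fst, n • x.snd⟩⟩

@[simp] theorem zero_fst : (0 : DblOf p).fst = 0 := rfl
@[simp] theorem zero_snd : (0 : DblOf p).snd = 0 := rfl
@[simp] theorem one_fst : (1 : DblOf p).fst = 1 := rfl
@[simp] theorem one_snd : (1 : DblOf p).snd = 0 := rfl
@[simp] theorem add_fst (x y : DblOf p) : (x + y).fst = x.fst + y.fst := rfl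
@[simp] theorem add_snd (x y : DblOf p) : (x + y).snd = x.snd + y.snd := rfl
@[simp] theorem neg_fst (x : DblOf p) : (-x).fst = -x.fst := rfl
@[simp] theorem neg_snd (x : DblOf p) : (-x).snd = -x.snd := rfl
@[simp] theorem sub_fst (x y : DblOf p) : (x - y).fst = x.fst - y.fst := rfl
@[simp] theorem sub_snd (x y : DblOf p) : (x - y).snd = x.snd - y.snd := rfl
@[simp] theorem mul_fst (x y : DblOf p) : (x * y).fst = x.fst * y.fst + p.β x.snd y.snd := rfl
@[simp] theorem mul_snd (x y : DblOf p) : (x * y).snd = x.fst • y.snd + y.fst • x.snd := rfl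
theorem nsmul_fst (n : ℕ) (x : DblOf p) : (n • x).fst = n • x.fst := rfl
theorem nsmul_snd (n : ℕ) (x : DblOf p) : (n • x).snd = n • x.snd := rfl
theorem zsmul_fst (n : ℤ) (x : DblOf p) : (n • x).fst = n • x.fst := rfl
theorem zsmul_snd (n : ℤ) (x : DblOf p) : (n • x).snd = n • x.snd := rfl

instance : AddCommGroup (DblOf p) where
  add_assoc x y z := by ext <;> simp [add_assoc]
  zero_add x := by ext <;> simp
  add_zero x := by ext <;> simp
  nsmul n x := n • x
  nsmul_zero x := by
    ext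
    · exact zero_nsmul _
    · exact zero_nsmul _
  nsmul_succ n x := by
    ext
    · exact succ_nsmul _ _
    · exact succ_nsmul _ _
  zsmul n x := n • x
  zsmul_zero' x := by
    ext
    · exact zero_zsmul _
    · exact zero_zsmul _
  zsmul_succ' n x := by
    ext
    · exact SubNegMonoid.zsmul_succ' _ _
    · exact SubNegMonoid.zsmul_succ' _ _
  zsmul_neg' n x := by
    ext
    · exact SubNegMonoid.zsmul_neg' _ _
    · exact SubNegMonoid.zsmul_neg' _ _
  neg_add_cancel x := by ext <;> simp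
  add_comm x y := by ext <;> simp [add_comm]
  sub_eq_add_neg x y := by ext <;> simp [sub_eq_add_neg]

instance : CommRing (DblOf p) where
  mul_assoc x y z := by
    ext
    · simp only [mul_fst, mul_snd, map_add, map_smul, LinearMap.add_apply, LinearMap.smul_apply,
        smul_eq_mul]
      ring
    · simp only [mul_fst, mul_snd, smul_add, add_smul, mul_smul]
      rw [p.assoc x.snd y.snd z.snd, smul_comm z.fst x.fst y.snd, smul_comm z.fst y.fst x.snd]
      abel
  one_mul x := by ext <;> simp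
  mul_one x := by ext <;> simp
  left_distrib x y z := by
    ext
    · simp [mul_add]; ring
    · simp [smul_add, add_smul]; abel
  right_distrib x y z := by
    ext
    · simp [add_mul]; ring
    · simp [smul_add, add_smul]; abel
  zero_mul x := by ext <;> simp
  mul_zero x := by ext <;> simp
  mul_comm x y := by
    ext
    · simp [mul_comm, p.symm x.snd y.snd]
    · simp [add_comm]

/-- the structure map `R → R ⊕ M` -/
def inl : R →+* DblOf p where
  toFun r := ⟨r, 0⟩
  map_one' := rfl
  map_mul' a b := by ext <;> simp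
  map_zero' := rfl
  map_add' a b := by ext <;> simp

@[simp] theorem inl_fst (r : R) : (inl p r).fst = r := rfl
@[simp] theorem inl_snd (r : R) : (inl p r).snd = 0 := rfl

section map

variable {R' M' : Type u} [CommRing R'] [AddCommGroup M'] [Module R' M'] (p' : Pairing R' M')

/-- the ring homomorphism induced by a semilinear map compatible with the pairings -/
def map (ρ : R →+* R') (σ : M →+ M') (hσ : ∀ r m, σ (r • m) = ρ r • σ m)
    (hβ : ∀ x y, p'.β (σ x) (σ y) = ρ (p.β x y)) : DblOf p →+* DblOf p' where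
  toFun x := ⟨ρ x.fst, σ x.snd⟩
  map_one' := by ext <;> simp
  map_mul' x y := by ext <;> simp [hσ, hβ]
  map_zero' := by ext <;> simp
  map_add' x y := by ext <;> simp

@[simp] theorem map_fst (ρ : R →+* R') (σ : M →+ M') (hσ : ∀ r m, σ (r • m) = ρ r • σ m)
    (hβ : ∀ x y, p'.β (σ x) (σ y) = ρ (p.β x y)) (x : DblOf p) :
    (map p p' ρ σ hσ hβ x).fst = ρ x.fst := rfl

@[simp] theorem map_snd (ρ : R →+* R') (σ : M →+ M') (hσ : ∀ r m, σ (r • m) = ρ r • σ m)
    (hβ : ∀ x y, p'.β (σ x) (σ y) = ρ (p.β x y)) (x : DblOf p) :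
    (map p p' ρ σ hσ hβ x).snd = σ x.snd := rfl

theorem map_inl (ρ : R →+* R') (σ : M →+ M') (hσ : ∀ r m, σ (r • m) = ρ r • σ m)
    (hβ : ∀ x y, p'.β (σ x) (σ y) = ρ (p.β x y)) (r : R) :
    map p p' ρ σ hσ hβ (inl p r) = inl p' (ρ r) := by
  ext <;> simp

theorem inl_mul (r : R) (x : DblOf p) : inl p r * x = ⟨r * x.fst, r • x.snd⟩ := by
  ext <;> simp

/-- If `R'` is the localization of `R` away from `f` and `M'` is the localization of `M` away
from `f`, then the double ring of `M'` is the localization of the double ring of `M` away from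
`f`. -/
theorem isLocalization_away (ρ : R →+* R') (σ : M →+ M') (hσ : ∀ r m, σ (r • m) = ρ r • σ m)
    (hβ : ∀ x y, p'.β (σ x) (σ y) = ρ (p.β x y)) (f : R)
    (hR : @IsLocalization.Away _ _ f R' _ ρ.toAlgebra)
    (hkill : ∀ m : M, σ m = 0 → ∃ n : ℕ, f ^ n • m = 0)
    (hext : ∀ m' : M', ∃ (n : ℕ) (m : M), σ m = ρ f ^ n • m') :
    @IsLocalization.Away _ _ (inl p f) (DblOf p') _ (map p p' ρ σ hσ hβ).toAlgebra := by
  letI : Algebra R R' := ρ.toAlgebra
  letI : Algebra (DblOf p) (DblOf p') := (map p p' ρ σ hσ hβ).toAlgebra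
  haveI : IsLocalization.Away f R' := hR
  have hpow : ∀ n : ℕ, (inl p f) ^ n = inl p (f ^ n) := fun n => (map_pow (inl p) f n).symm
  have halg : ∀ x : DblOf p, algebraMap (DblOf p) (DblOf p') x = map p p' ρ σ hσ hβ x :=
    fun x => rfl
  have halgR : ∀ r : R, algebraMap R R' r = ρ r := fun r => rfl
  change IsLocalization (Submonoid.powers (inl p f)) (DblOf p')
  rw [isLocalization_iff]
  refine ⟨?_, ?_, ?_⟩
  · rintro ⟨_, n, rfl⟩
    change IsUnit (map p p' ρ σ hσ hβ (inl p f ^ n))
    rw [hpow, map_inl]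
    have hu : IsUnit (ρ (f ^ n)) := by
      rw [map_pow]
      exact (IsLocalization.Away.algebraMap_isUnit (S := R') f).pow n
    exact hu.map (inl p')
  · intro z
    obtain ⟨⟨s, ⟨_, n1, rfl⟩⟩, hs⟩ := IsLocalization.surj (Submonoid.powers f) z.fst
    obtain ⟨n2, m, hm⟩ := hext z.snd
    refine ⟨(⟨f ^ n2 * s, f ^ n1 • m⟩, ⟨inl p f ^ (n1 + n2), n1 + n2, rfl⟩), ?_⟩
    simp only [halgR] at hs
    simp only [halg, hpow, map_inl]
    rw [mul_comm, inl_mul]
    ext
    · simp only [map_fst, map_mul, map_pow]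
      rw [← hs, map_pow, pow_add]
      ring
    · simp only [map_snd, hσ, hm, map_pow]
      rw [← mul_smul, pow_add]
  · intro x y hxy
    simp only [halg] at hxy
    have h1 : ρ x.fst = ρ y.fst := congrArg DblOf.fst hxy
    have h2 : σ x.snd = σ y.snd := congrArg DblOf.snd hxy
    obtain ⟨⟨_, n1, rfl⟩, hn1⟩ := IsLocalization.exists_of_eq (M := Submonoid.powers f)
      (S := R') (x := x.fst) (y := y.fst) h1
    have h3 : σ (x.snd - y.snd) = 0 := by rw [map_sub, h2, sub_self]
    obtain ⟨n2, hn2⟩ := hkill _ h3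
    refine ⟨⟨inl p f ^ (n1 + n2), n1 + n2, rfl⟩, ?_⟩
    simp only [hpow, inl_mul]
    ext
    · simp only
      rw [pow_add, mul_comm (f ^ n1), mul_assoc, mul_assoc]
      exact congrArg _ hn1
    · simp only
      rw [smul_sub, sub_eq_zero] at hn2
      rw [pow_add, mul_smul, mul_smul, hn2]

end map

end DblOf

end Groth.Agent.Lib.Helper2.DblRing
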