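import Groth.Agent.S0934
import Groth.Agent.Lib.Helper2.KerSec

/-!
# Epimorphisms of quasi-coherent modules are surjective on affine sections (helper2)
-/

set_option autoImplicit false
universe u

open AlgebraicGeometry CategoryTheory Opposite TopologicalSpace

namespace Groth.Agent.Lib.Helper2.EpiAff

open Groth.Agent.Lib.Lead.QCohAff Groth.Agent.Lib.Helper2.KerSec

/-- an epimorphism between quasi-coherent modules is surjective on sections over affine opens -/
theorem surjective_app_of_epi {X : Scheme.{u}} {F G : X.Modules} [F.IsQuasicoherent]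
    [G.IsQuasicoherent] (v : F ⟶ G) [Epi v] {W : X.Opens} (hW : IsAffineOpen W) :
    Function.Surjective (v.app W) := by
  intro t
  let I : Ideal Γ(X, W) :=
    { carrier := {r | ∃ m : Γ(F, W), v.app W m = r • t}
      add_mem' := by
        rintro r r' ⟨m, hm⟩ ⟨m', hm'⟩
        exact ⟨m + m', by rw [map_add, hm, hm', add_smul]⟩
      zero_mem' := ⟨0, by rw [map_zero, zero_smul]⟩
      smul_mem' := by
        rintro c r ⟨m, hm⟩
        exact ⟨c • m, by rw [Scheme.Modules.Hom.app_smul, hm, smul_eq_mul, mul_smul]⟩ }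
  have hI : ∀ r : Γ(X, W), r ∈ I ↔ ∃ m : Γ(F, W), v.app W m = r • t := fun r => Iff.rfl
  suffices h : I = ⊤ by
    have h1 : (1 : Γ(X, W)) ∈ I := h ▸ Submodule.mem_top
    obtain ⟨m, hm⟩ := (hI 1).1 h1
    exact ⟨m, by rw [hm, one_smul]⟩
  by_contra hne
  obtain ⟨m, hm, hIm⟩ := Ideal.exists_le_maximal I hne
  let p : PrimeSpectrum Γ(X, W) := ⟨m, hm.isPrime⟩
  have hxW : hW.fromSpec p ∈ W := by
    have : hW.fromSpec p ∈ Set.range hW.fromSpec := ⟨p, rfl⟩
    rw [hW.range_fromSpec] at this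
    exact this
  obtain ⟨V, hVW, hxV, s, hs⟩ := Groth.Agent.S0934.exists_local_lift v W t (hW.fromSpec p) hxW
  obtain ⟨a, haV, hxa⟩ := hW.exists_basicOpen_le (V := V) ⟨hW.fromSpec p, hxV⟩ hxW
  have ham : a ∉ m := by
    have h1 : p ∈ hW.fromSpec ⁻¹ᵁ X.basicOpen a := hxa
    rw [hW.fromSpec_preimage_basicOpen] at h1
    exact h1
  apply ham
  -- restrict to D(a)
  let s' : Γ(F, X.basicOpen a) := F.presheaf.map (homOfLE haV).op s
  have hs' : v.app (X.basicOpen a) s' = G.presheaf.map (homOfLE (X.basicOpen_le a)).op t := by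
    rw [naturality_apply, hs, res_res]
  obtain ⟨n, m₀, hm₀⟩ := exists_res_eq_pow_smul F hW a s'
  have h2 : G.presheaf.map (homOfLE (X.basicOpen_le a)).op (v.app W m₀ - a ^ n • t) = 0 := by
    rw [map_sub, ← naturality_apply, hm₀, Scheme.Modules.Hom.app_smul, hs', res_smul, map_pow,
      sub_self]
  obtain ⟨k, hk⟩ := exists_pow_smul_eq_zero G hW a _ h2
  have h3 : a ^ (k + n) ∈ I := by
    rw [hI]
    refine ⟨a ^ k • m₀, ?_⟩
    rw [smul_sub, sub_eq_zero] at hk
    rw [Scheme.Modules.Hom.app_smul, hk, smul_smul, pow_add]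
  exact hm.isPrime.mem_of_pow_mem _ (hIm h3)

end Groth.Agent.Lib.Helper2.EpiAff
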