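import Mathlib.Algebra.Homology.ShortComplex.ModuleCat
import Mathlib.Algebra.Homology.HomologicalComplex
import Mathlib.Algebra.Homology.ShortComplex.HomologicalComplex
import Mathlib.Algebra.BigOperators.Finprod
import Mathlib.LinearAlgebra.FiniteDimensional.Lemmas
import Mathlib.Algebra.Homology.Embedding.Basic
import Mathlib.Tactic

/-!
# The Euler–Poincaré formula for bounded complexes of finite dimensional vector spaces
-/

set_option autoImplicit false
universe u

open CategoryTheory CategoryTheory.Limits

namespace Groth.Agent.Lib.Helper2.EulerPoincare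

variable {k : Type u} [Field k] (V : CochainComplex (ModuleCat.{u} k) ℤ)

/-- dimension of the cycles -/
noncomputable def zdim (i : ℤ) : ℕ := Module.finrank k (LinearMap.ker (V.d i (i + 1)).hom)

/-- dimension of the boundaries -/
noncomputable def bdim (i : ℤ) : ℕ := Module.finrank k (LinearMap.range (V.d (i - 1) i).hom)

theorem bdim_succ (i : ℤ) :
    bdim V (i + 1) = Module.finrank k (LinearMap.range (V.d i (i + 1)).hom) := by
  unfold bdim
  have : ∀ j : ℤ, j = i → Module.finrank k (LinearMap.range (V.d j (i + 1)).hom) =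
      Module.finrank k (LinearMap.range (V.d i (i + 1)).hom) := by
    intro j hj; subst hj; rfl
  exact this _ (by ring)

theorem finrank_X (i : ℤ) [Module.Finite k (V.X i)] :
    Module.finrank k (V.X i) = zdim V i + bdim V (i + 1) := by
  rw [bdim_succ, zdim, add_comm]
  exact (LinearMap.finrank_range_add_finrank_ker (V.d i (i + 1)).hom).symm

theorem finrank_homology (i : ℤ) [Module.Finite k (V.X i)] :
    Module.finrank k (V.homology i) + bdim V i = zdim V i := by
  let S := V.sc' (i - 1) i (i + 1)
  have e1 : V.homology i ≅ S.homology :=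
    ShortComplex.homologyMapIso (V.isoSc' (i - 1) i (i + 1) (by simp) (by simp))
  have e2 := S.moduleCatHomologyIso
  rw [LinearEquiv.finrank_eq (e1 ≪≫ e2).toLinearEquiv]
  change Module.finrank k (LinearMap.ker S.g.hom ⧸ LinearMap.range S.moduleCatToCycles) + _ = _
  haveI : Module.Finite k S.X₂ := ‹Module.Finite k (V.X i)›
  haveI : Module.Finite k (LinearMap.ker S.g.hom) := inferInstance
  have h1 := (LinearMap.range S.moduleCatToCycles).finrank_quotient_add_finrank
  have h2 : Module.finrank k (LinearMap.range S.moduleCatToCycles) = bdim V i := by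
    unfold bdim
    have hr : (LinearMap.range S.moduleCatToCycles).map (LinearMap.ker S.g.hom).subtype =
        LinearMap.range (V.d (i - 1) i).hom := by
      rw [← LinearMap.range_comp]
      rfl
    rw [← hr]
    exact (LinearEquiv.finrank_eq (Submodule.equivMapOfInjective _
      (Submodule.injective_subtype _) _))
  rw [h2] at h1
  exact h1

theorem isZero_zdim (i : ℤ) (h : IsZero (V.X i)) : zdim V i = 0 := by
  haveI : Subsingleton (V.X i) := ModuleCat.subsingleton_of_isZero h
  unfold zdim
  exact Module.finrank_zero_of_subsingleton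

theorem isZero_bdim (i : ℤ) (h : IsZero (V.X i)) : bdim V i = 0 := by
  haveI : Subsingleton (V.X i) := ModuleCat.subsingleton_of_isZero h
  unfold bdim
  exact Module.finrank_zero_of_subsingleton

theorem isZero_bdim' (i : ℤ) (h : IsZero (V.X (i - 1))) : bdim V i = 0 := by
  unfold bdim
  have : (V.d (i - 1) i) = 0 := h.eq_of_src _ _
  rw [this]
  have h0 : LinearMap.range (ModuleCat.Hom.hom (0 : V.X (i - 1) ⟶ V.X i)) = ⊥ := by
    rw [ModuleCat.hom_zero, LinearMap.range_zero]
  rw [h0]
  exact finrank_bot k _

/-- **Euler–Poincaré formula.** -/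
theorem euler_poincare (a b : ℤ) (hV : ∀ i : ℤ, i < a ∨ b < i → IsZero (V.X i))
    (hfin : ∀ i : ℤ, Module.Finite k (V.X i)) :
    ∑ᶠ i : ℤ, ((i.negOnePow : ℤ) * (Module.finrank k (V.homology i) : ℤ)) =
      ∑ᶠ i : ℤ, ((i.negOnePow : ℤ) * (Module.finrank k (V.X i) : ℤ)) := by
  have hz : ∀ i : ℤ, i < a ∨ b < i → zdim V i = 0 := fun i hi => isZero_zdim V i (hV i hi)
  have hb : ∀ i : ℤ, i < a ∨ b + 1 < i → bdim V i = 0 := by
    intro i hi
    rcases hi with hi | hi
    · exact isZero_bdim V i (hV i (Or.inl hi))
    · exact isZero_bdim V i (hV i (Or.inr (by lia)))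
  let g : ℤ → ℤ := fun i => (i.negOnePow : ℤ) * (bdim V i : ℤ)
  let zf : ℤ → ℤ := fun i => (i.negOnePow : ℤ) * (zdim V i : ℤ)
  have hgs : (Function.support g).Finite := by
    refine (Set.finite_Icc a (b + 1)).subset (fun i hi => ?_)
    by_contra hc
    apply hi
    have : i < a ∨ b + 1 < i := by
      simp only [Set.mem_Icc, not_and_or, not_le] at hc
      exact hc
    change (i.negOnePow : ℤ) * (bdim V i : ℤ) = 0
    rw [hb i this]; simp
  have hgs' : (Function.support (fun i => g (i + 1))).Finite := by
    refine (Set.finite_Icc (a - 1) b).subset (fun i hi => ?_)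
    by_contra hc
    apply hi
    have : i + 1 < a ∨ b + 1 < i + 1 := by
      simp only [Set.mem_Icc, not_and_or, not_le] at hc
      rcases hc with hc | hc
      · left; lia
      · right; lia
    change ((i + 1).negOnePow : ℤ) * (bdim V (i + 1) : ℤ) = 0
    rw [hb _ this]; simp
  have hzs : (Function.support zf).Finite := by
    refine (Set.finite_Icc a b).subset (fun i hi => ?_)
    by_contra hc
    apply hi
    have : i < a ∨ b < i := by
      simp only [Set.mem_Icc, not_and_or, not_le] at hc
      exact hc
    change (i.negOnePow : ℤ) * (zdim V i : ℤ) = 0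
    rw [hz i this]; simp
  have h1 : ∀ i : ℤ, (i.negOnePow : ℤ) * (Module.finrank k (V.homology i) : ℤ) = zf i - g i := by
    intro i
    haveI := hfin i
    have := finrank_homology V i
    change _ = (i.negOnePow : ℤ) * (zdim V i : ℤ) - (i.negOnePow : ℤ) * (bdim V i : ℤ)
    rw [← this]
    push_cast
    ring
  have h2 : ∀ i : ℤ, (i.negOnePow : ℤ) * (Module.finrank k (V.X i) : ℤ) = zf i - g (i + 1) := by
    intro i
    haveI := hfin i
    rw [finrank_X V i]
    change _ = (i.negOnePow : ℤ) * (zdim V i : ℤ) - ((i + 1).negOnePow : ℤ) * (bdim V (i + 1) : ℤ)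
    rw [Int.negOnePow_succ]
    push_cast
    ring
  simp_rw [h1, h2]
  rw [finsum_sub_distrib hzs hgs, finsum_sub_distrib hzs hgs']
  congr 1
  exact (finsum_comp_equiv (Equiv.addRight (1 : ℤ)) (f := g)).symm

/-- the same over a commutative ring which is a field -/
theorem euler_poincare' {k : Type u} [Ring k] (hk : IsField k)
    (V : CochainComplex (ModuleCat.{u} k) ℤ) (a b : ℤ)
    (hV : ∀ i : ℤ, i < a ∨ b < i → IsZero (V.X i))
    (hfin : ∀ i : ℤ, Module.Finite k (V.X i)) :
    ∑ᶠ i : ℤ, ((i.negOnePow : ℤ) * (Module.finrank k (V.homology i) : ℤ)) =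
      ∑ᶠ i : ℤ, ((i.negOnePow : ℤ) * (Module.finrank k (V.X i) : ℤ)) := by
  letI := hk.toField
  exact euler_poincare V a b hV hfin

end Groth.Agent.Lib.Helper2.EulerPoincare
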