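import Groth.Agent.Lib.Helper2.LpullRes
import Groth.Agent.Lib.Helper2.DCohPC
import Groth.Agent.Lib.Helper2.DCohFlat
import Groth.Agent.Lib.Helper2.ConeLift
import Groth.Agent.Lib.Helper7.FinLocFreePullback
import Groth.Agent.Lib.Helper12.FreeRes7
import Groth.Agent.Lib.Helper12.LTK3

/-!
# `Lf^*` preserves pseudo-coherence
-/

set_option autoImplicit false
universe u
open CategoryTheory CategoryTheory.Limits AlgebraicGeometry
attribute [local instance] HasDerivedCategory.standard

namespace Groth.Agent.Lib.Helper2.Lpull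

open Groth.Agent.Lib.Helper12 Groth.Agent.Lib.Helper12.Sky Groth.Agent.Lib.Helper12.StalkExact
open Groth.Agent.Lib.Helper2.DCohBase Groth.Agent.Lib.Helper2.DCohPerf
open Groth.Agent.Lib.Helper2.DCohPC

section SP

/-- a strictly perfect complex is K-flat -/
theorem isKFlat_of_isStrictlyPerfect {X : Scheme.{u}} (P : CochainComplex X.Modules ℤ)
    (hP : DCoh.IsStrictlyPerfect P) : DCoh.IsKFlat P := by
  obtain ⟨⟨a, b, hv⟩, hfl⟩ := hP
  exact LTK.isKFlat_of_vanishesOutside P a b hv
    (fun i => Groth.Agent.Lib.Helper2.DCohFlat.isFlat_of_isFinLocFree _ (hfl i))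

/-- the pullback of a strictly perfect complex is strictly perfect -/
theorem isStrictlyPerfect_pbCx {X Y : Scheme.{u}} (f : X ⟶ Y) (P : CochainComplex Y.Modules ℤ)
    (hP : DCoh.IsStrictlyPerfect P) : DCoh.IsStrictlyPerfect ((pbCx f).obj P) := by
  obtain ⟨⟨a, b, hv⟩, hfl⟩ := hP
  refine ⟨⟨a, b, fun i hi => Functor.map_isZero (Scheme.Modules.pullback f) (hv i hi)⟩, fun i => ?_⟩
  exact Groth.Agent.Lib.Helper7.FinLocFree.isFinLocFree_pullback f (hfl i)

end SP

section RightExact

variable {X Y : Scheme.{u}}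

/-- bounded above complexes have bounded above K-flat resolutions -/
theorem exists_bdd_kflat_resolution (G : CochainComplex X.Modules ℤ) (b : ℤ)
    (hG : ∀ i : ℤ, b < i → IsZero (G.X i)) :
    ∃ (R : CochainComplex X.Modules ℤ) (q : R ⟶ G), QuasiIso q ∧
      (∀ i : ℤ, b < i → IsZero (R.X i)) ∧ DCoh.IsKFlat R := by
  obtain ⟨R, q, hq, hRb, -, hK⟩ :=
    Groth.Agent.Lib.Helper12.FreeRes.exists_bddLE_flat_resolution (O := X.sheaf) G b hG
  exact ⟨R, q, hq, hRb, hK⟩

/-- `f^*` is right t-exact on K-flat complexes -/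
theorem exactAt_pbCx (f : X ⟶ Y) (C : CochainComplex Y.Modules ℤ) (hC : DCoh.IsKFlat C) (n : ℤ)
    (h : ∀ i : ℤ, n < i → C.ExactAt i) (i : ℤ) (hi : n < i) : ((pbCx f).obj C).ExactAt i := by
  haveI : C.IsLE n := (C.isLE_iff n).2 h
  have hT : ∀ i : ℤ, n < i → IsZero ((C.truncLE n).X i) :=
    (CochainComplex.isStrictlyLE_iff _ n).1 inferInstance
  obtain ⟨R, q, hq, hRb, hR⟩ := exists_bdd_kflat_resolution (C.truncLE n) n hT
  have hqi : QuasiIso (q ≫ C.ιTruncLE n) := quasiIso_comp _ _
  have h1 : QuasiIso ((pbCx f).map (q ≫ C.ιTruncLE n)) := pb f _ _ _ hR hC hqi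
  have h2 : ((pbCx f).obj R).ExactAt i :=
    HomologicalComplex.ExactAt.of_isZero
      (Functor.map_isZero (Scheme.Modules.pullback f) (hRb i hi))
  rw [HomologicalComplex.exactAt_iff_isZero_homology] at h2 ⊢
  have : QuasiIsoAt ((pbCx f).map (q ≫ C.ιTruncLE n)) i := h1.quasiIsoAt i
  exact h2.of_iso (asIso (HomologicalComplex.homologyMap ((pbCx f).map (q ≫ C.ιTruncLE n)) i)).symm

end RightExact

section Cone

variable {X : Scheme.{u}}

/-- if the mapping cone of `φ` is exact in degrees `≥ m`, then `H^i(φ)` is an isomorphism for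
`i > m` and an epimorphism for `i = m` -/
theorem isIso_epi_of_exact_cone {K L : CochainComplex X.Modules ℤ} (φ : K ⟶ L) (m : ℤ)
    (h : ∀ i : ℤ, m ≤ i → (CochainComplex.mappingCone φ).ExactAt i) :
    (∀ i : ℤ, m < i → IsIso (HomologicalComplex.homologyMap φ i)) ∧
      Epi (HomologicalComplex.homologyMap φ m) := by
  have hT := DerivedCategory.mappingCone_triangle_distinguished φ
  set T := DerivedCategory.Q.mapTriangle.obj (CochainComplex.mappingCone.triangle φ) with hTdef
  have hz : ∀ i : ℤ, m ≤ i → IsZero ((DerivedCategory.homologyFunctor X.Modules i).obj T.obj₃) := by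
    intro i hi
    have := h i hi
    rw [HomologicalComplex.exactAt_iff_isZero_homology] at this
    exact this.of_iso ((DerivedCategory.homologyFunctorFactors X.Modules i).app _)
  have hepi : ∀ i : ℤ, m ≤ i →
      Epi ((DerivedCategory.homologyFunctor X.Modules i).map (DerivedCategory.Q.map φ)) := by
    intro i hi
    exact (DerivedCategory.HomologySequence.epi_homologyMap_mor₁_iff T hT i).2
      ((hz i hi).eq_of_tgt _ _)
  have hmono : ∀ i : ℤ, m < i →
      Mono ((DerivedCategory.homologyFunctor X.Modules i).map (DerivedCategory.Q.map φ)) := by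
    intro i hi
    exact (DerivedCategory.HomologySequence.mono_homologyMap_mor₁_iff T hT (i - 1) i (by omega)).2
      ((hz (i - 1) (by omega)).eq_of_src _ _)
  have key : ∀ i : ℤ, HomologicalComplex.homologyMap φ i =
      (DerivedCategory.homologyFunctorFactors X.Modules i).inv.app K ≫
        (DerivedCategory.homologyFunctor X.Modules i).map (DerivedCategory.Q.map φ) ≫
        (DerivedCategory.homologyFunctorFactors X.Modules i).hom.app L := by
    intro i
    rw [homology_Q_map_eq]
    simp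
  have iK : ∀ i : ℤ, IsIso ((DerivedCategory.homologyFunctorFactors X.Modules i).inv.app K) :=
    fun i => ⟨⟨(DerivedCategory.homologyFunctorFactors X.Modules i).hom.app K,
      Iso.inv_hom_id_app _ _, Iso.hom_inv_id_app _ _⟩⟩
  have iL : ∀ i : ℤ, IsIso ((DerivedCategory.homologyFunctorFactors X.Modules i).hom.app L) :=
    fun i => ⟨⟨(DerivedCategory.homologyFunctorFactors X.Modules i).inv.app L,
      Iso.hom_inv_id_app _ _, Iso.inv_hom_id_app _ _⟩⟩
  constructor
  · intro i hi
    have e1 := hepi i hi.le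
    have m1 := hmono i hi
    have i1 : IsIso ((DerivedCategory.homologyFunctor X.Modules i).map (DerivedCategory.Q.map φ)) :=
      isIso_of_mono_of_epi _
    rw [key]
    exact @IsIso.comp_isIso _ _ _ _ _ _ _ (iK i)
      (@IsIso.comp_isIso _ _ _ _ _ _ _ i1 (iL i))
  · have e1 := hepi m le_rfl
    rw [key]
    exact @epi_comp _ _ _ _ _ _ (@IsIso.epi_of_iso _ _ _ _ _ (iK m)) _
      (@epi_comp _ _ _ _ _ _ e1 _ (@IsIso.epi_of_iso _ _ _ _ _ (iL m)))

/-- pullback along `f` of a chain map between K-flat complexes which is an `m`-quasi-isomorphism -/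
theorem pb_isIso_epi {X Y : Scheme.{u}} (f : X ⟶ Y) {P K : CochainComplex Y.Modules ℤ} (β : P ⟶ K)
    (hP : DCoh.IsKFlat P) (hK : DCoh.IsKFlat K) (m : ℤ)
    (hiso : ∀ i : ℤ, m < i → IsIso (HomologicalComplex.homologyMap β i))
    (hepi : Epi (HomologicalComplex.homologyMap β m)) :
    (∀ i : ℤ, m < i → IsIso (HomologicalComplex.homologyMap ((pbCx f).map β) i)) ∧
      Epi (HomologicalComplex.homologyMap ((pbCx f).map β) m) := by
  have hc : DCoh.IsKFlat (CochainComplex.mappingCone β) :=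
    (KFlat.isKFlat_cone (O := Y.sheaf) β).1 hP hK
  have hex : ∀ i : ℤ, m - 1 < i → (CochainComplex.mappingCone β).ExactAt i := by
    intro i hi
    rw [HomologicalComplex.exactAt_iff_isZero_homology]
    apply ConeLift.isZero_homology_mappingCone β i
    · rcases eq_or_lt_of_le (show m ≤ i by omega) with h | h
      · subst h
        exact hepi
      · haveI := hiso i h
        infer_instance
    · haveI := hiso (i + 1) (by omega)
      infer_instance
  have h1 := exactAt_pbCx f _ hc (m - 1) hex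
  have e := CochainComplex.mappingCone.mapHomologicalComplexIso β (Scheme.Modules.pullback f)
  apply isIso_epi_of_exact_cone
  intro i hi
  have := h1 i (by omega)
  rw [HomologicalComplex.exactAt_iff_isZero_homology] at this ⊢
  exact this.of_iso ((HomologicalComplex.homologyFunctor _ _ i).mapIso e.symm)

end Cone

end Groth.Agent.Lib.Helper2.Lpull

namespace Groth.Agent.Lib.Helper2.Lpull

open Groth.Agent.Lib.Helper12 Groth.Agent.Lib.Helper12.Sky Groth.Agent.Lib.Helper12.StalkExact
open Groth.Agent.Lib.Helper2.DCohBase Groth.Agent.Lib.Helper2.DCohPerf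
open Groth.Agent.Lib.Helper2.DCohPC Groth.Agent.Lib.Helper2.DCohLift

section QLevel

variable {X : Scheme.{u}}

theorem homologyMap_eq_Q {K L : CochainComplex X.Modules ℤ} (φ : K ⟶ L) (i : ℤ) :
    HomologicalComplex.homologyMap φ i =
      (DerivedCategory.homologyFunctorFactors X.Modules i).inv.app K ≫
        (DerivedCategory.homologyFunctor X.Modules i).map (DerivedCategory.Q.map φ) ≫
        (DerivedCategory.homologyFunctorFactors X.Modules i).hom.app L := by
  rw [homology_Q_map_eq]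
  simp

theorem isIso_homologyMap_of_Q' {K L : CochainComplex X.Modules ℤ} (φ : K ⟶ L) (i : ℤ)
    (h : IsIso ((DerivedCategory.homologyFunctor X.Modules i).map (DerivedCategory.Q.map φ))) :
    IsIso (HomologicalComplex.homologyMap φ i) := by
  have iK : IsIso ((DerivedCategory.homologyFunctorFactors X.Modules i).inv.app K) :=
    ⟨⟨(DerivedCategory.homologyFunctorFactors X.Modules i).hom.app K,
      Iso.inv_hom_id_app _ _, Iso.hom_inv_id_app _ _⟩⟩
  have iL : IsIso ((DerivedCategory.homologyFunctorFactors X.Modules i).hom.app L) :=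
    ⟨⟨(DerivedCategory.homologyFunctorFactors X.Modules i).inv.app L,
      Iso.hom_inv_id_app _ _, Iso.inv_hom_id_app _ _⟩⟩
  rw [homologyMap_eq_Q]
  exact @IsIso.comp_isIso _ _ _ _ _ _ _ iK (@IsIso.comp_isIso _ _ _ _ _ _ _ h iL)

theorem epi_homologyMap_of_Q' {K L : CochainComplex X.Modules ℤ} (φ : K ⟶ L) (i : ℤ)
    (h : Epi ((DerivedCategory.homologyFunctor X.Modules i).map (DerivedCategory.Q.map φ))) :
    Epi (HomologicalComplex.homologyMap φ i) := by
  have iK : IsIso ((DerivedCategory.homologyFunctorFactors X.Modules i).inv.app K) :=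
    ⟨⟨(DerivedCategory.homologyFunctorFactors X.Modules i).hom.app K,
      Iso.inv_hom_id_app _ _, Iso.hom_inv_id_app _ _⟩⟩
  have iL : IsIso ((DerivedCategory.homologyFunctorFactors X.Modules i).hom.app L) :=
    ⟨⟨(DerivedCategory.homologyFunctorFactors X.Modules i).inv.app L,
      Iso.hom_inv_id_app _ _, Iso.inv_hom_id_app _ _⟩⟩
  rw [homologyMap_eq_Q]
  exact @epi_comp _ _ _ _ _ _ (@IsIso.epi_of_iso _ _ _ _ _ iK) _
    (@epi_comp _ _ _ _ _ _ h _ (@IsIso.epi_of_iso _ _ _ _ _ iL))

end QLevel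

/-- `Lf^*` preserves `m`-pseudo-coherence near a point -/
theorem pcAt_lpull {X Y : Scheme.{u}} (f : X ⟶ Y) [DCoh.HasLpull f] (m : ℤ) (E : DCoh.D Y) (x : X)
    (hE : PCAt m E (f x)) : PCAt m ((DCoh.Lpull f).obj E) x := by
  obtain ⟨U, j, hj, ⟨u, hu⟩, P, α, hP, hiso, hepi⟩ := hE
  haveI := hj
  obtain ⟨K, hK, ⟨e⟩⟩ := exists_kflat_rep E
  let ι : (resD j).obj E ≅ DerivedCategory.Q.obj ((resCx j).obj K) :=
    (resD j).mapIso e.symm ≪≫ resDQ j K
  have hα₁ : IsPC m P (α ≫ ι.hom) := by
    refine ⟨hP, fun i hi => ?_, ?_⟩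
    · rw [Functor.map_comp]
      haveI := hiso i hi
      infer_instance
    · rw [Functor.map_comp]
      infer_instance
  obtain ⟨U', j₁, hj₁, ⟨u', hu'⟩, β, hβ⟩ :=
    exists_rep_locally P ((resCx j).obj K) hP (α ≫ ι.hom) u
  haveI := hj₁
  have h2 := hα₁.restrict j₁
  have h3 : (resFac j₁).inv.app P ≫ (resD j₁).map (α ≫ ι.hom) =
      DerivedCategory.Q.map β ≫ (resFac j₁).inv.app ((resCx j).obj K) := by
    rw [hβ]
    simp
  rw [h3] at h2
  obtain ⟨hP', hiso', hepi'⟩ := h2
  have hisoβ : ∀ i : ℤ, m < i → IsIso (HomologicalComplex.homologyMap β i) := by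
    intro i hi
    apply isIso_homologyMap_of_Q'
    have := hiso' i hi
    rw [Functor.map_comp] at this
    exact IsIso.of_isIso_comp_right _
      ((DerivedCategory.homologyFunctor _ i).map ((resFac j₁).inv.app ((resCx j).obj K)))
  have hepiβ : Epi (HomologicalComplex.homologyMap β m) := by
    apply epi_homologyMap_of_Q'
    rw [Functor.map_comp] at hepi'
    have hh : (DerivedCategory.homologyFunctor _ m).map (DerivedCategory.Q.map β) =
        ((DerivedCategory.homologyFunctor _ m).map (DerivedCategory.Q.map β) ≫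
          (DerivedCategory.homologyFunctor _ m).map ((resFac j₁).inv.app ((resCx j).obj K))) ≫
          inv ((DerivedCategory.homologyFunctor _ m).map
            ((resFac j₁).inv.app ((resCx j).obj K))) := by simp
    rw [hh]
    exact epi_comp _ _
  -- K-flatness
  have hK' : DCoh.IsKFlat ((resCx j₁).obj ((resCx j).obj K)) :=
    isKFlat_resCx j₁ _ (isKFlat_resCx j K hK)
  have hPK : DCoh.IsKFlat ((resCx j₁).obj P) := isKFlat_of_isStrictlyPerfect _ hP'
  -- the pullback square
  haveI : DCoh.HasLpull (pullback.snd f (j₁ ≫ j)) := hasLpull _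
  obtain ⟨ε⟩ := nonempty_resD_lpull_iso f (j₁ ≫ j) (pullback.fst f (j₁ ≫ j))
    (pullback.snd f (j₁ ≫ j)) pullback.condition E
  let ι₂ : (resD (j₁ ≫ j)).obj E ≅
      DerivedCategory.Q.obj ((resCx j₁).obj ((resCx j).obj K)) :=
    resDComp j j₁ E ≪≫ (resD j₁).mapIso ι ≪≫ resDQ j₁ _
  let tot : (resD (pullback.fst f (j₁ ≫ j))).obj ((DCoh.Lpull f).obj E) ≅
      DerivedCategory.Q.obj ((pbCx (pullback.snd f (j₁ ≫ j))).obj
        ((resCx j₁).obj ((resCx j).obj K))) :=
    ε ≪≫ (DCoh.Lpull (pullback.snd f (j₁ ≫ j))).mapIso ι₂ ≪≫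
      lpIso (pullback.snd f (j₁ ≫ j)) _ hK'
  obtain ⟨hiso'', hepi''⟩ := pb_isIso_epi (pullback.snd f (j₁ ≫ j)) β hPK hK' m hisoβ hepiβ
  refine ⟨pullback f (j₁ ≫ j), pullback.fst f (j₁ ≫ j), inferInstance, ?_, ?_⟩
  · rw [IsOpenImmersion.range_pullbackFst (j₁ ≫ j) f]
    refine ⟨u', ?_⟩
    rw [Scheme.Hom.comp_apply, hu', hu]
  · refine PCData.of_iso tot.symm ⟨(pbCx (pullback.snd f (j₁ ≫ j))).obj ((resCx j₁).obj P),
      DerivedCategory.Q.map ((pbCx (pullback.snd f (j₁ ≫ j))).map β),
      isStrictlyPerfect_pbCx _ _ hP', fun i hi => ?_, ?_⟩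
    · exact isIso_homology_Q_map _ i (hiso'' i hi)
    · exact epi_homology_Q_map _ m hepi''

/-- `Lf^*` preserves `m`-pseudo-coherence -/
theorem isPseudoCoherentD_lpull {X Y : Scheme.{u}} (f : X ⟶ Y) [DCoh.HasLpull f] (m : ℤ)
    (E : DCoh.D Y) (hE : DCoh.IsPseudoCoherentD m E) :
    DCoh.IsPseudoCoherentD m ((DCoh.Lpull f).obj E) := by
  rw [isPseudoCoherentD_iff] at hE ⊢
  exact fun x => pcAt_lpull f m E x (hE (f x))

end Groth.Agent.Lib.Helper2.Lpull
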