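import Groth.Agent.Lib.Helper2.OnePoint
import Groth.Agent.Lib.Helper2.EulerPoincare
import Groth.Agent.Lib.Helper2.LpullPC
import Groth.Prelude.Def_PerfD

/-!
# Betti numbers of the fibres of a complex: reduction to complexes of vector spaces
-/

set_option autoImplicit false
universe u
open CategoryTheory CategoryTheory.Limits AlgebraicGeometry Opposite

attribute [local instance] HasDerivedCategory.standard

namespace Groth.Agent.Lib.Helper2.FibreBetti

open Groth.Agent.Lib.Helper2.Lpull Groth.Agent.Lib.Helper2.OnePoint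

variable {X : Scheme.{u}}

/-- the derived pullback along `y = y' ≫ V.ι` of an object which over `V` is represented by a
K-flat complex `P` is the termwise pullback of `P` along `y'`. -/
theorem nonempty_lpull_iso_through_open {Y : Scheme.{u}} (y : Y ⟶ X) [DCoh.HasLpull y]
    (V : X.Opens) (y' : Y ⟶ V) (h : y' ≫ V.ι = y) (E : DCoh.D X)
    (F : CochainComplex X.Modules ℤ) (hF : DCoh.IsKFlat F) (e : DerivedCategory.Q.obj F ≅ E)
    (P : CochainComplex (V : Scheme.{u}).Modules ℤ) (hP : DCoh.IsKFlat P)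
    (eP : DerivedCategory.Q.obj ((DCoh.restrictCx V).obj F) ≅ DerivedCategory.Q.obj P) :
    Nonempty ((DCoh.Lpull y).obj E ≅ DerivedCategory.Q.obj ((pbCx y').obj P)) := by
  subst h
  haveI := hasLpull y'
  exact ⟨(DCoh.Lpull _).mapIso e.symm ≪≫ lpIso (y' ≫ V.ι) F hF ≪≫
    DerivedCategory.Q.mapIso ((pbCompCx y' V.ι).app F).symm ≪≫
    DerivedCategory.Q.mapIso ((pbCx y').mapIso ((resCxIsoPbCx V.ι).app F).symm) ≪≫
    (lpIso y' _ (isKFlat_resCx V.ι F hF)).symm ≪≫ (DCoh.Lpull y').mapIso eP ≪≫ lpIso y' P hP⟩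

/-- global sections of a complex -/
noncomputable abbrev gammaCx (Y : Scheme.{u}) :
    CochainComplex Y.Modules ℤ ⥤ CochainComplex (ModuleCat.{u} (Coh.Γtop Y)) ℤ :=
  (gammaTop Y).mapHomologicalComplex (ComplexShape.up ℤ)

/-- the Betti number computed from a representing complex -/
theorem finrank_HD_eq {Y : Scheme.{u}} (L : DCoh.D Y) (K : CochainComplex Y.Modules ℤ)
    (e : L ≅ DerivedCategory.Q.obj K) [PreservesFiniteLimits (gammaTop Y)]
    [PreservesFiniteColimits (gammaTop Y)] (j : ℤ) :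
    Module.finrank (Coh.Γtop Y) ((DCoh.HD L j).val.obj (op ⊤)) =
      Module.finrank (Coh.Γtop Y) (((gammaCx Y).obj K).homology j) := by
  have e1 : DCoh.HD L j ≅ K.homology j :=
    (DerivedCategory.homologyFunctor Y.Modules j).mapIso e ≪≫
      (DerivedCategory.homologyFunctorFactors Y.Modules j).app K
  have e2 : (gammaTop Y).obj (K.homology j) ≅ ((gammaCx Y).obj K).homology j :=
    ((K.sc j).mapHomologyIso (gammaTop Y)).symm
  exact LinearEquiv.finrank_eq ((gammaTop Y).mapIso e1 ≪≫ e2).toLinearEquiv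

end Groth.Agent.Lib.Helper2.FibreBetti

namespace Groth.Agent.Lib.Helper2.OnePoint

variable {Y : Scheme.{u}}

/-- global sections of a free module -/
noncomputable def gammaTopFreeEquiv [PreservesFiniteColimits (gammaTop Y)] (n : ℕ) :
    ((gammaTop Y).obj (FlatMod.freeMod Y n)) ≃ₗ[Coh.Γtop Y] (Fin n → Coh.Γtop Y) :=
  ((PreservesCoproduct.iso (gammaTop Y) (fun _ : Fin n => Coh.structureModule Y)) ≪≫
    ModuleCat.coprodIsoDirectSum
      (fun _ : Fin n => ModuleCat.of (Coh.Γtop Y) (Coh.Γtop Y))).toLinearEquiv.trans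
    (DirectSum.linearEquivFunOnFintype (Coh.Γtop Y) (Fin n) (fun _ => Coh.Γtop Y))

theorem finite_gammaTop_freeMod [PreservesFiniteColimits (gammaTop Y)] (n : ℕ) :
    Module.Finite (Coh.Γtop Y) ((gammaTop Y).obj (FlatMod.freeMod Y n)) :=
  Module.Finite.equiv (gammaTopFreeEquiv (Y := Y) n).symm

theorem exists_lift_opens {Z : Scheme.{u}} (U : Z.Opens) (y : Y ⟶ Z)
    (h : ∀ p : Y, y.base p ∈ U) : ∃ y' : Y ⟶ U, y' ≫ U.ι = y := by
  refine ⟨IsOpenImmersion.lift U.ι y ?_, IsOpenImmersion.lift_fac _ _ _⟩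
  rw [Scheme.Opens.range_ι]
  rintro _ ⟨p, rfl⟩
  exact h p

end Groth.Agent.Lib.Helper2.OnePoint

namespace Groth.Agent.Lib.Helper2.FibreBetti

open Groth.Agent.Lib.Helper2.Lpull Groth.Agent.Lib.Helper2.OnePoint

variable {X : Scheme.{u}}

/-- the fibre complex of a strictly perfect complex at a point -/
theorem fibre_terms (V : X.Opens) (P : CochainComplex (V : Scheme.{u}).Modules ℤ)
    (a b : ℤ) (hab : DCoh.VanishesOutside P a b)
    (U : ℤ → (V : Scheme.{u}).Opens) (n : ℤ → ℕ)
    (e : ∀ i, Nonempty ((P.X i).restrict (U i).ι ≅ FlatMod.freeMod (↑(U i)) (n i)))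
    {Y : Scheme.{u}} (y' : Y ⟶ V) (hy' : ∀ (p : Y) (i : ℤ), a ≤ i → i ≤ b → y'.base p ∈ U i)
    [PreservesFiniteColimits (gammaTop Y)] (hF : IsField (Coh.Γtop Y)) (i : ℤ) :
    Module.Finite (Coh.Γtop Y) (((gammaCx Y).obj ((pbCx y').obj P)).X i) ∧
      Module.finrank (Coh.Γtop Y) (((gammaCx Y).obj ((pbCx y').obj P)).X i) =
        (if a ≤ i ∧ i ≤ b then n i else 0) := by
  by_cases hi : a ≤ i ∧ i ≤ b
  · rw [if_pos hi]
    obtain ⟨y'', hy''⟩ := exists_lift_opens (U i) y' (fun p => hy' p i hi.1 hi.2)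
    obtain ⟨ei⟩ := e i
    have iso := pullbackFreeOfRestrict y' (P.X i) (U i) (n i) ei y'' hy''
    have le : (((gammaCx Y).obj ((pbCx y').obj P)).X i) ≃ₗ[Coh.Γtop Y]
        ((gammaTop Y).obj (FlatMod.freeMod Y (n i))) := ((gammaTop Y).mapIso iso).toLinearEquiv
    refine ⟨Module.Finite.equiv ((le.trans (gammaTopFreeEquiv (n i))).symm), ?_⟩
    rw [LinearEquiv.finrank_eq (le.trans (gammaTopFreeEquiv (n i)))]
    letI := hF.toField
    exact (Module.finrank_pi (Coh.Γtop Y)).trans (Fintype.card_fin (n i))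
  · rw [if_neg hi]
    have hz : IsZero (P.X i) := hab i (by
      by_contra hc
      push_neg at hc
      exact hi ⟨hc.1, hc.2⟩)
    have hz' : IsZero (((gammaCx Y).obj ((pbCx y').obj P)).X i) :=
      Functor.map_isZero (gammaTop Y) (Functor.map_isZero (Scheme.Modules.pullback y') hz)
    haveI : Subsingleton (((gammaCx Y).obj ((pbCx y').obj P)).X i) :=
      ModuleCat.subsingleton_of_isZero hz'
    haveI : Nontrivial (Coh.Γtop Y) := hF.nontrivial
    exact ⟨inferInstance, Module.finrank_zero_of_subsingleton⟩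

/-- the Betti numbers and the Euler characteristic at a point of an open over which the object is
represented by a strictly perfect complex with free terms near the point -/
theorem betti_and_eulerChar_eq (E : DCoh.D X) (F : CochainComplex X.Modules ℤ) (hF : DCoh.IsKFlat F)
    (e : DerivedCategory.Q.obj F ≅ E) (V : X.Opens)
    (P : CochainComplex (V : Scheme.{u}).Modules ℤ) (hP : DCoh.IsStrictlyPerfect P)
    (a b : ℤ) (hab : DCoh.VanishesOutside P a b)
    (eP : DerivedCategory.Q.obj ((DCoh.restrictCx V).obj F) ≅ DerivedCategory.Q.obj P)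
    (U : ℤ → (V : Scheme.{u}).Opens) (n : ℤ → ℕ)
    (eU : ∀ i, Nonempty ((P.X i).restrict (U i).ι ≅ FlatMod.freeMod (↑(U i)) (n i)))
    (x' : X) [DCoh.HasLpull (X.fromSpecResidueField x')] (v : V) (hv : V.ι.base v = x')
    (hvU : ∀ i, a ≤ i → i ≤ b → v ∈ U i) :
    PerfD.eulerChar E x' =
      ∑ᶠ i : ℤ, (i.negOnePow : ℤ) * (((if a ≤ i ∧ i ≤ b then n i else 0 : ℕ)) : ℤ) := by
  have hfield : IsField (X.residueField x') := Field.toIsField _
  haveI : Subsingleton ↥(Spec (X.residueField x')) := subsingleton_spec _ hfield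
  obtain ⟨p⟩ : Nonempty ↥(Spec (X.residueField x')) := by
    letI := hfield.toField
    exact (inferInstance : Nonempty (PrimeSpectrum (X.residueField x')))
  obtain ⟨h1, h2⟩ := exact_props p (isOnlyPoint_of_subsingleton p)
  haveI := h1
  haveI := h2
  have hΓ : IsField (Coh.Γtop (Spec (X.residueField x'))) := isField_gammaTop_spec _ hfield
  obtain ⟨y', hy'⟩ := exists_lift_opens V (X.fromSpecResidueField x') (fun q => by
    rw [Scheme.fromSpecResidueField_apply, ← hv]
    exact v.2)
  have hpt : ∀ q : ↥(Spec (X.residueField x')), y'.base q = v := by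
    intro q
    apply V.ι.isOpenEmbedding.injective
    rw [hv, ← Scheme.Hom.comp_apply, hy', Scheme.fromSpecResidueField_apply]
  obtain ⟨eL⟩ := nonempty_lpull_iso_through_open (X.fromSpecResidueField x') V y' hy' E F hF e P
    (isKFlat_of_isStrictlyPerfect P hP) eP
  have hb : ∀ j : ℤ, PerfD.betti E x' j = Module.finrank (Coh.Γtop (Spec (X.residueField x')))
      (((gammaCx _).obj ((pbCx y').obj P)).homology j) := fun j => finrank_HD_eq _ _ eL j
  have ht := fibre_terms V P a b hab U n eU y' (fun q i h1 h2 => by rw [hpt q]; exact hvU i h1 h2) hΓ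
  have hep := EulerPoincare.euler_poincare' hΓ ((gammaCx _).obj ((pbCx y').obj P)) a b
    (fun i hi => Functor.map_isZero (gammaTop _)
      (Functor.map_isZero (Scheme.Modules.pullback y') (hab i hi)))
    (fun i => (ht i).1)
  unfold PerfD.eulerChar
  simp_rw [hb]
  rw [hep]
  exact finsum_congr (fun i => by rw [(ht i).2])

end Groth.Agent.Lib.Helper2.FibreBetti
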