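import Groth.Agent.Lib.Helper2.FibreBetti
import Groth.Agent.Lib.Helper12.Sky6
import Groth.Agent.Lib.Helper64.CohSupport
import Groth.Agent.Lib.Helper2.DCohFP
import Groth.Agent.Lib.Helper2.DCohCoh
import Groth.Agent.Lib.Helper75.FlatCx13

set_option autoImplicit false
universe u
open CategoryTheory CategoryTheory.Limits AlgebraicGeometry Opposite TensorProduct

namespace Groth.Agent.Lib.Helper2.FibreUSC


/-- Nakayama along a local homomorphism: if `S ⊗_R M = 0` for a finite module `M` over a local ring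
and a local homomorphism `R → S` of local rings, then `M = 0`. -/
theorem subsingleton_of_subsingleton_tensor {R S : Type u} [CommRing R] [CommRing S]
    [IsLocalRing R] [IsLocalRing S] [Algebra R S] [IsLocalHom (algebraMap R S)]
    (M : Type u) [AddCommGroup M] [Module R M] [Module.Finite R M]
    (h : Subsingleton (S ⊗[R] M)) : Subsingleton M := by
  haveI : IsScalarTower R S (IsLocalRing.ResidueField S) := inferInstance
  haveI : IsScalarTower R (IsLocalRing.ResidueField R) (IsLocalRing.ResidueField S) :=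
    inferInstance
  have e1 : (IsLocalRing.ResidueField S) ⊗[S] (S ⊗[R] M) ≃ₗ[IsLocalRing.ResidueField S]
      (IsLocalRing.ResidueField S) ⊗[R] M :=
    TensorProduct.AlgebraTensorModule.cancelBaseChange R S (IsLocalRing.ResidueField S)
      (IsLocalRing.ResidueField S) M
  have e2 : (IsLocalRing.ResidueField S) ⊗[IsLocalRing.ResidueField R]
      ((IsLocalRing.ResidueField R) ⊗[R] M) ≃ₗ[IsLocalRing.ResidueField S]
      (IsLocalRing.ResidueField S) ⊗[R] M :=
    TensorProduct.AlgebraTensorModule.cancelBaseChange R (IsLocalRing.ResidueField R)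
      (IsLocalRing.ResidueField S) (IsLocalRing.ResidueField S) M
  haveI : Subsingleton ((IsLocalRing.ResidueField S) ⊗[S] (S ⊗[R] M)) := inferInstance
  haveI : Subsingleton ((IsLocalRing.ResidueField S) ⊗[R] M) := e1.symm.toEquiv.subsingleton
  haveI : Subsingleton ((IsLocalRing.ResidueField S) ⊗[IsLocalRing.ResidueField R]
      ((IsLocalRing.ResidueField R) ⊗[R] M)) := e2.toEquiv.subsingleton
  haveI : Subsingleton ((IsLocalRing.ResidueField R) ⊗[R] M) :=
    Module.FaithfullyFlat.lTensor_reflects_triviality (IsLocalRing.ResidueField R)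
      (IsLocalRing.ResidueField S) _
  exact (IsLocalRing.subsingleton_tensorProduct (R := R) (M := M)).1 inferInstance



open Groth.Agent.Lib.Helper2.OnePoint Groth.Agent.Lib.Helper12.Sky

/-- point-like schemes: exactly one point, and the ring of global functions is a field -/
structure IsPt (Y : Scheme.{u}) : Prop where
  sub : Subsingleton Y
  ne : Nonempty Y
  fld : IsField (Coh.Γtop Y)

theorem isPt_spec_residueField {X : Scheme.{u}} (x : X) : IsPt (Spec (X.residueField x)) := by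
  have hfield : IsField (X.residueField x) := Field.toIsField _
  refine ⟨subsingleton_spec _ hfield, ?_, isField_gammaTop_spec _ hfield⟩
  letI := hfield.toField
  exact (inferInstance : Nonempty (PrimeSpectrum (X.residueField x)))

variable {Y Z : Scheme.{u}}

theorem IsPt.exact (hY : IsPt Y) :
    PreservesFiniteLimits (gammaTop Y) ∧ PreservesFiniteColimits (gammaTop Y) := by
  haveI := hY.sub
  obtain ⟨p⟩ := hY.ne
  exact exact_props p (isOnlyPoint_of_subsingleton p)

/-- the fibre functor of a morphism from a point-like scheme -/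
noncomputable def fib (y : Y ⟶ Z) : Z.Modules ⥤ ModuleCat.{u} (Coh.Γtop Y) :=
  Scheme.Modules.pullback y ⋙ gammaTop Y

instance (y : Y ⟶ Z) : (fib y).Additive := by
  unfold fib
  infer_instance

theorem preservesFiniteColimits_fib (hY : IsPt Y) (y : Y ⟶ Z) :
    PreservesFiniteColimits (fib y) := by
  haveI := hY.exact.2
  unfold fib
  infer_instance

/-- the fibre dimension -/
noncomputable def fdim (y : Y ⟶ Z) (M : Z.Modules) : ℕ :=
  Module.finrank (Coh.Γtop Y) ((fib y).obj M)

/-- the stalk of the pullback at a point, as a module -/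
theorem subsingleton_stalk_pullback_iff (y : Y ⟶ Z) (p : Y) (C : Z.Modules) :
    Subsingleton (((Scheme.Modules.pullback y).obj C).presheaf.stalk p) ↔
      Subsingleton ((ModuleCat.extendScalars (y.stalkMap p).hom).obj
        ((DerSch.stalkFunctor Z (y.base p)).obj C)) := by
  have e := (stalkPullbackIso y p).app C
  constructor
  · intro h
    haveI : Subsingleton ((Scheme.Modules.pullback y ⋙ DerSch.stalkFunctor Y p).obj C) := h
    exact e.symm.toLinearEquiv.toEquiv.subsingleton
  · intro h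
    haveI : Subsingleton ((DerSch.stalkFunctor Z (y.base p) ⋙ ext y p).obj C) := h
    exact e.toLinearEquiv.toEquiv.subsingleton

/-- if the stalk vanishes then so does the fibre -/
theorem subsingleton_fib_of_stalk (hY : IsPt Y) (y : Y ⟶ Z) (p : Y) (C : Z.Modules)
    (h : Subsingleton (C.presheaf.stalk (y.base p))) : Subsingleton ((fib y).obj C) := by
  haveI := hY.sub
  haveI : Subsingleton ((DerSch.stalkFunctor Z (y.base p)).obj C) := h
  have h0 : IsZero ((DerSch.stalkFunctor Z (y.base p)).obj C) :=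
    ModuleCat.isZero_of_subsingleton _
  have h1 : Subsingleton ((ModuleCat.extendScalars (y.stalkMap p).hom).obj
      ((DerSch.stalkFunctor Z (y.base p)).obj C)) :=
    ModuleCat.subsingleton_of_isZero (Functor.map_isZero _ h0)
  have h2 := (subsingleton_stalk_pullback_iff y p C).2 h1
  refine ⟨fun s t => ?_⟩
  exact germ_injective _ p (isOnlyPoint_of_subsingleton p) s t (Subsingleton.elim _ _)

/-- Nakayama: if the fibre of a finite type module vanishes then so does the stalk -/
theorem subsingleton_stalk_of_fib (hY : IsPt Y) (y : Y ⟶ Z) (p : Y) (C : Z.Modules)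
    (hC : SheafOfModules.IsFiniteType (R := Z.ringCatSheaf) C)
    (h : Subsingleton ((fib y).obj C)) : Subsingleton (C.presheaf.stalk (y.base p)) := by
  haveI := hY.sub
  have h2 : Subsingleton (((Scheme.Modules.pullback y).obj C).presheaf.stalk p) := by
    refine ⟨fun a b => ?_⟩
    obtain ⟨s, rfl⟩ := germ_surjective _ p (isOnlyPoint_of_subsingleton p) a
    obtain ⟨t, rfl⟩ := germ_surjective _ p (isOnlyPoint_of_subsingleton p) b
    haveI : Subsingleton Γ((Scheme.Modules.pullback y).obj C, ⊤) := h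
    rw [Subsingleton.elim s t]
  have h1 := (subsingleton_stalk_pullback_iff y p C).1 h2
  letI : Algebra (Z.presheaf.stalk (y.base p)) (Y.presheaf.stalk p) := (y.stalkMap p).hom.toAlgebra
  haveI : IsLocalHom (algebraMap (Z.presheaf.stalk (y.base p)) (Y.presheaf.stalk p)) :=
    inferInstanceAs (IsLocalHom (y.stalkMap p).hom)
  haveI := Groth.Agent.Lib.Helper64.FinTypeStalk.finite_stalk C hC (y.base p)
  have h3 : Subsingleton ((Y.presheaf.stalk p) ⊗[Z.presheaf.stalk (y.base p)]
      (C.presheaf.stalk (y.base p))) := h1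
  exact subsingleton_of_subsingleton_tensor (C.presheaf.stalk (y.base p)) h3


open Groth.Agent.Lib.Helper2.DCohFP Groth.Agent.Lib.Helper2.DCohCoh

section LA


theorem exists_subfamily {κ : Type*} [Field κ] {W : Type*} [AddCommGroup W] [Module κ W]
    [FiniteDimensional κ W] {n : ℕ} (v : Fin n → W)
    (hv : Submodule.span κ (Set.range v) = ⊤) :
    ∃ (r' : ℕ) (a : Fin r' → Fin n), r' ≤ Module.finrank κ W ∧
      Submodule.span κ (Set.range (v ∘ a)) = ⊤ := by
  obtain ⟨b, hb, hspan, hli⟩ := exists_linearIndependent κ (Set.range v)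
  haveI : Fintype b := ((Set.finite_range v).subset hb).fintype
  let e : Fin (Fintype.card b) ≃ b := (Fintype.equivFin b).symm
  refine ⟨Fintype.card b, fun j => (hb (e j).2).choose, hli.fintype_card_le_finrank, ?_⟩
  have hr : Set.range (v ∘ fun j => (hb (e j).2).choose) = b := by
    ext w
    constructor
    · rintro ⟨j, rfl⟩
      simp only [Function.comp]
      rw [(hb (e j).2).choose_spec]
      exact (e j).2
    · intro hw
      refine ⟨e.symm ⟨w, hw⟩, ?_⟩
      simp only [Function.comp]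
      rw [(hb (e _).2).choose_spec]
      simp
  rw [hr, hspan, hv]

theorem iSup_range_eq_top_of_isColimit {R : Type u} [Ring R] {J : Type}
    (f : J → ModuleCat.{u} R) (c : Cofan f) (hc : IsColimit c) :
    ⨆ j, LinearMap.range (c.inj j).hom = ⊤ := by
  set S := ⨆ j, LinearMap.range (c.inj j).hom with hS
  let q : c.pt ⟶ ModuleCat.of R (c.pt ⧸ S) := ModuleCat.ofHom S.mkQ
  have hq : q = 0 := by
    apply Cofan.IsColimit.hom_ext hc
    intro j
    ext x
    change S.mkQ ((c.inj j).hom x) = 0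
    exact (Submodule.Quotient.mk_eq_zero S).2 (Submodule.mem_iSup_of_mem j ⟨x, rfl⟩)
  rw [eq_top_iff]
  intro x _
  have := congrArg (fun g => g.hom x) hq
  exact (Submodule.Quotient.mk_eq_zero S).1 this

end LA

variable {Y₀ : Scheme.{u}}


/-- the fibre of the structure sheaf is the ground field -/
noncomputable def fibUnitIso (y : Y ⟶ Z) :
    (fib y).obj (Coh.structureModule Z) ≅ ModuleCat.of (Coh.Γtop Y) (Coh.Γtop Y) :=
  (gammaTop Y).mapIso (Groth.Agent.Lib.Helper40.NisGen.pullbackUnitIso y)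

/-- the fibre of a free module -/
noncomputable def fibFreeIso (y : Y ⟶ Z) (n : ℕ) :
    (fib y).obj (FlatMod.freeMod Z n) ≅ (gammaTop Y).obj (FlatMod.freeMod Y n) :=
  (gammaTop Y).mapIso (Groth.Agent.Lib.Helper7.FinLocFree.pullbackFreeModIso y n)

theorem finrank_fib_freeMod (hY : IsPt Y) (y : Y ⟶ Z) (n : ℕ) :
    Module.Finite (Coh.Γtop Y) ((fib y).obj (FlatMod.freeMod Z n)) ∧
      Module.finrank (Coh.Γtop Y) ((fib y).obj (FlatMod.freeMod Z n)) = n := by
  haveI := hY.exact.2
  constructor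
  · haveI := finite_gammaTop_freeMod (Y := Y) n
    exact Module.Finite.equiv (fibFreeIso y n).toLinearEquiv.symm
  · rw [LinearEquiv.finrank_eq (fibFreeIso y n).toLinearEquiv]
    exact finrank_gammaTop_freeMod hY.fld n

theorem surjective_of_epi_fib (hY : IsPt Y) (y : Y ⟶ Z) {M N : Z.Modules} (π : M ⟶ N) [Epi π] :
    Function.Surjective ((fib y).map π).hom := by
  haveI := preservesFiniteColimits_fib hY y
  haveI : Epi ((fib y).map π) := inferInstance
  exact (ModuleCat.epi_iff_surjective _).1 inferInstance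


theorem fib_unit_generator (hY : IsPt Y) (y : Y ⟶ Z) :
    ∃ u₀ : (fib y).obj (Coh.structureModule Z), ∀ x : (fib y).obj (Coh.structureModule Z),
      ∃ c : Coh.Γtop Y, x = c • u₀ := by
  let e := (fibUnitIso y).toLinearEquiv
  refine ⟨e.symm (1 : Coh.Γtop Y), fun x => ⟨e x, ?_⟩⟩
  apply e.injective
  rw [map_smul, LinearEquiv.apply_symm_apply]
  simp

/-- a selection of generators of the fibre -/
theorem exists_selection (hY : IsPt Y₀) (y₀ : Y₀ ⟶ Z) (M : Z.Modules) (n : ℕ)
    (π : FlatMod.freeMod Z n ⟶ M) [Epi π] :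
    ∃ (r' : ℕ) (a : Fin r' → Fin n), r' ≤ fdim y₀ M ∧
      Function.Surjective ((fib y₀).map
        (Sigma.desc (fun j : Fin r' =>
          Sigma.ι (fun _ : Fin n => Coh.structureModule Z) (a j) ≫ π) :
          FlatMod.freeMod Z r' ⟶ M)).hom := by
  haveI := preservesFiniteColimits_fib hY y₀
  letI : Field (Coh.Γtop Y₀) := hY.fld.toField
  obtain ⟨u₀, hu₀⟩ := fib_unit_generator hY y₀
  let ι : ∀ i : Fin n, Coh.structureModule Z ⟶ FlatMod.freeMod Z n :=
    fun i => Sigma.ι (fun _ : Fin n => Coh.structureModule Z) i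
  let v : Fin n → (fib y₀).obj M := fun i => ((fib y₀).map (ι i ≫ π)).hom u₀
  have hsurj := surjective_of_epi_fib hY y₀ π
  haveI : Module.Finite (Coh.Γtop Y₀) ((fib y₀).obj (FlatMod.freeMod Z n)) :=
    (finrank_fib_freeMod hY y₀ n).1
  haveI : Module.Finite (Coh.Γtop Y₀) ((fib y₀).obj M) :=
    Module.Finite.of_surjective _ hsurj
  have hcol := isColimitOfPreserves (fib y₀)
    (coproductIsCoproduct (fun _ : Fin n => Coh.structureModule Z))
  have hspanT := iSup_range_eq_top_of_isColimit _ _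
    ((isColimitMapCoconeCofanMkEquiv _ _ _).1 hcol)
  have hv : Submodule.span (Coh.Γtop Y₀) (Set.range v) = ⊤ := by
    rw [eq_top_iff]
    intro w _
    obtain ⟨t, rfl⟩ := hsurj w
    have ht : t ∈ (⊤ : Submodule (Coh.Γtop Y₀) ((fib y₀).obj (FlatMod.freeMod Z n))) := trivial
    rw [← hspanT] at ht
    refine Submodule.iSup_induction _ (motive := fun t => ((fib y₀).map π).hom t ∈
      Submodule.span (Coh.Γtop Y₀) (Set.range v)) ht ?_ ?_ ?_
    · rintro i _ ⟨x, rfl⟩
      obtain ⟨c, rfl⟩ := hu₀ x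
      have : ((fib y₀).map π).hom (((Cofan.mk _ fun j => (fib y₀).map (ι j)).inj i).hom (c • u₀))
          = c • v i := by
        change ((fib y₀).map π).hom (((fib y₀).map (ι i)).hom (c • u₀)) = _
        rw [map_smul, map_smul]
        simp only [v, Functor.map_comp]
        rfl
      rw [this]
      exact Submodule.smul_mem _ _ (Submodule.subset_span ⟨i, rfl⟩)
    · simp
    · intro a b ha hb
      rw [map_add]
      exact Submodule.add_mem _ ha hb
  obtain ⟨r', a, hr', ha⟩ := exists_subfamily v hv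
  refine ⟨r', a, hr', ?_⟩
  set τ : FlatMod.freeMod Z r' ⟶ M := Sigma.desc (fun j : Fin r' => ι (a j) ≫ π) with hτ
  rw [← LinearMap.range_eq_top, eq_top_iff, ← ha, Submodule.span_le]
  rintro _ ⟨j, rfl⟩
  refine ⟨((fib y₀).map (Sigma.ι (fun _ : Fin r' => Coh.structureModule Z) j)).hom u₀, ?_⟩
  have h1 : Sigma.ι (fun _ : Fin r' => Coh.structureModule Z) j ≫ τ = ι (a j) ≫ π := by
    rw [hτ]
    simp
  change ((fib y₀).map (Sigma.ι (fun _ : Fin r' => Coh.structureModule Z) j) ≫
    (fib y₀).map τ).hom u₀ = _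
  rw [← Functor.map_comp, h1]
  rfl


theorem subsingleton_fib_cokernel_iff (hY : IsPt Y) (y : Y ⟶ Z) {N M : Z.Modules} (τ : N ⟶ M) :
    Subsingleton ((fib y).obj (cokernel τ)) ↔ Function.Surjective ((fib y).map τ).hom := by
  haveI := preservesFiniteColimits_fib hY y
  have e : (fib y).obj (cokernel τ) ≅ cokernel ((fib y).map τ) := PreservesCokernel.iso (fib y) τ
  rw [← ModuleCat.epi_iff_surjective]
  constructor
  · intro h
    have hz : IsZero (cokernel ((fib y).map τ)) :=
      (ModuleCat.isZero_of_subsingleton _).of_iso e.symm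
    exact Preadditive.epi_of_isZero_cokernel _ hz
  · intro h
    have hz : IsZero ((fib y).obj (cokernel τ)) := (isZero_cokernel_of_epi _).of_iso e
    exact ModuleCat.subsingleton_of_isZero hz

/-- upper semicontinuity of the fibre dimension of a quotient of a free module -/
theorem exists_open_fdim_le (hY : IsPt Y₀) (y₀ : Y₀ ⟶ Z) (p₀ : Y₀) (M : Z.Modules) (n : ℕ)
    (π : FlatMod.freeMod Z n ⟶ M) [Epi π] :
    ∃ W : Z.Opens, y₀.base p₀ ∈ W ∧ ∀ (Y : Scheme.{u}) (_ : IsPt Y) (y : Y ⟶ Z) (p : Y),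
      y.base p ∈ W → fdim y M ≤ fdim y₀ M := by
  obtain ⟨r', a, hr', hsurj⟩ := exists_selection hY y₀ M n π
  obtain ⟨τ, hτ⟩ : ∃ τ : FlatMod.freeMod Z r' ⟶ M, τ = Sigma.desc (fun j : Fin r' =>
    Sigma.ι (fun _ : Fin n => Coh.structureModule Z) (a j) ≫ π) := ⟨_, rfl⟩
  rw [← hτ] at hsurj
  have hM : SheafOfModules.IsFiniteType (R := Z.ringCatSheaf) M :=
    isFiniteType_of_epi π (isFiniteType_freeMod Z n)
  have hC := isFiniteType_of_epi (cokernel.π τ) hM
  have h0 : Subsingleton ((fib y₀).obj (cokernel τ)) :=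
    (subsingleton_fib_cokernel_iff hY y₀ τ).2 hsurj
  have hz := subsingleton_stalk_of_fib hY y₀ p₀ _ hC h0
  have hcl := Groth.Agent.Lib.Helper64.CohSupport.isClosed_support (cokernel τ) hC
  refine ⟨⟨{z : Z | Nontrivial ((cokernel τ).presheaf.stalk z)}ᶜ, hcl.isOpen_compl⟩, ?_, ?_⟩
  · change ¬ Nontrivial _
    exact not_nontrivial_iff_subsingleton.2 hz
  · intro Y hY' y p hp
    have hp' : Subsingleton ((cokernel τ).presheaf.stalk (y.base p)) :=
      not_nontrivial_iff_subsingleton.1 hp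
    have h1 := subsingleton_fib_of_stalk hY' y p _ hp'
    have h2 := (subsingleton_fib_cokernel_iff hY' y τ).1 h1
    obtain ⟨hfin, hrk⟩ := finrank_fib_freeMod hY' y r'
    letI : Field (Coh.Γtop Y) := hY'.fld.toField
    haveI := hfin
    have h3 := LinearMap.finrank_le_finrank_of_surjective h2
    unfold fdim at hr' ⊢
    omega



/-- pulling back along a morphism which factors through an open -/
noncomputable def pullbackRestrictIso (y : Y ⟶ Z) (U : Z.Opens) (y' : Y ⟶ U) (h : y' ≫ U.ι = y)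
    (M : Z.Modules) :
    (Scheme.Modules.pullback y).obj M ≅ (Scheme.Modules.pullback y').obj (M.restrict U.ι) :=
  (Scheme.Modules.pullbackCongr h.symm).app M ≪≫
    ((Scheme.Modules.pullbackComp y' U.ι).app M).symm ≪≫
    (Scheme.Modules.pullback y').mapIso
      ((Scheme.Modules.restrictFunctorIsoPullback U.ι).app M).symm

theorem fdim_restrict (y : Y ⟶ Z) (U : Z.Opens) (y' : Y ⟶ U) (h : y' ≫ U.ι = y)
    (M : Z.Modules) : fdim y M = fdim y' (M.restrict U.ι) :=
  LinearEquiv.finrank_eq ((gammaTop Y).mapIso (pullbackRestrictIso y U y' h M)).toLinearEquiv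

theorem fdim_congr (y : Y ⟶ Z) {M N : Z.Modules} (e : M ≅ N) : fdim y M = fdim y N :=
  LinearEquiv.finrank_eq ((fib y).mapIso e).toLinearEquiv

theorem IsPt.base_eq (hY : IsPt Y) (p q : Y) : p = q := by
  haveI := hY.sub
  exact Subsingleton.elim p q

/-- the fibre dimension of a module which is free near the point -/
theorem fdim_of_free (hY : IsPt Y) (y : Y ⟶ Z) (p : Y) (N : Z.Modules) (U : Z.Opens) (n : ℕ)
    (e : N.restrict U.ι ≅ FlatMod.freeMod (↑U) n) (hp : y.base p ∈ U) : fdim y N = n := by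
  obtain ⟨y', hy'⟩ := exists_lift_opens U y (fun q => by rw [hY.base_eq q p]; exact hp)
  rw [fdim_restrict y U y' hy' N, fdim_congr y' e]
  exact (finrank_fib_freeMod hY y' n).2

/-- upper semicontinuity of the fibre dimension of a quotient of a module free near the point -/
theorem exists_open_fdim_le' (hY : IsPt Y₀) (y₀ : Y₀ ⟶ Z) (p₀ : Y₀) (M N : Z.Modules)
    (U : Z.Opens) (n : ℕ) (e : N.restrict U.ι ≅ FlatMod.freeMod (↑U) n) (hp₀ : y₀.base p₀ ∈ U)
    (π : N ⟶ M) [Epi π] :
    ∃ W : Z.Opens, y₀.base p₀ ∈ W ∧ ∀ (Y : Scheme.{u}) (_ : IsPt Y) (y : Y ⟶ Z) (p : Y),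
      y.base p ∈ W → fdim y M ≤ fdim y₀ M := by
  obtain ⟨y₀', hy₀'⟩ := exists_lift_opens U y₀ (fun q => by rw [hY.base_eq q p₀]; exact hp₀)
  haveI : Epi ((Scheme.Modules.restrictFunctor U.ι).map π) := inferInstance
  let π' : FlatMod.freeMod (↑U) n ⟶ M.restrict U.ι :=
    e.inv ≫ (Scheme.Modules.restrictFunctor U.ι).map π
  haveI : Epi π' := epi_comp _ _
  obtain ⟨W', hW', hle⟩ := exists_open_fdim_le hY y₀' p₀ (M.restrict U.ι) n π'
  refine ⟨U.ι ''ᵁ W', ⟨y₀'.base p₀, hW', ?_⟩, ?_⟩
  · change U.ι.base (y₀'.base p₀) = _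
    rw [← Scheme.Hom.comp_apply, hy₀']
  · rintro Y hY' y p ⟨w, hw, hwp⟩
    have hwp' : U.ι.base w = y.base p := hwp
    have hpU : y.base p ∈ U := by
      rw [← hwp']
      exact w.2
    obtain ⟨y', hy'⟩ := exists_lift_opens U y (fun q => by rw [hY'.base_eq q p]; exact hpU)
    have hw' : y'.base p = w := by
      apply U.ι.isOpenEmbedding.injective
      rw [← Scheme.Hom.comp_apply, hy', hwp']
    rw [fdim_restrict y U y' hy' M, fdim_restrict y₀ U y₀' hy₀' M]
    exact hle Y hY' y' p (by rw [hw']; exact hw)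


/-- the fibre complex -/
noncomputable def fibCx (y : Y ⟶ Z) :
    CochainComplex Z.Modules ℤ ⥤ CochainComplex (ModuleCat.{u} (Coh.Γtop Y)) ℤ :=
  (fib y).mapHomologicalComplex (ComplexShape.up ℤ)

noncomputable def opcyclesIsoCokernel' {C : Type*} [Category C] [Abelian C]
    (L : CochainComplex C ℤ) (i : ℤ) :
    L.opcycles i ≅ cokernel (L.d (i - 1) i) :=
  (L.opcyclesIsCokernel (i - 1) i (by simp)).coconePointUniqueUpToIso (colimit.isColimit _)

/-- the fibre functor commutes with opcycles -/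
noncomputable def opcyclesFibIso (hY : IsPt Y) (y : Y ⟶ Z) (P : CochainComplex Z.Modules ℤ)
    (i : ℤ) : ((fibCx y).obj P).opcycles i ≅ (fib y).obj (P.opcycles i) :=
  haveI := preservesFiniteColimits_fib hY y
  opcyclesIsoCokernel' ((fibCx y).obj P) i ≪≫
    (PreservesCokernel.iso (fib y) (P.d (i - 1) i)).symm ≪≫
    (fib y).mapIso (opcyclesIsoCokernel' P i).symm

theorem finite_opcycles_fibCx (y : Y ⟶ Z) (P : CochainComplex Z.Modules ℤ) (i : ℤ)
    (h : Module.Finite (Coh.Γtop Y) ((fib y).obj (P.X i))) :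
    Module.Finite (Coh.Γtop Y) (((fibCx y).obj P).opcycles i) := by
  have hs : Function.Surjective (((fibCx y).obj P).pOpcycles i).hom :=
    (ModuleCat.epi_iff_surjective _).1 inferInstance
  haveI : Module.Finite (Coh.Γtop Y) (((fibCx y).obj P).X i) := h
  exact Module.Finite.of_surjective _ hs

/-- the dimension formula on a fibre -/
theorem finrank_homology_fibCx (hY : IsPt Y) (y : Y ⟶ Z) (P : CochainComplex Z.Modules ℤ)
    (p : ℤ) (h1 : Module.Finite (Coh.Γtop Y) ((fib y).obj (P.X p)))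
    (h2 : Module.Finite (Coh.Γtop Y) ((fib y).obj (P.X (p + 1)))) :
    Module.finrank (Coh.Γtop Y) (((fibCx y).obj P).homology p) + fdim y (P.X (p + 1)) =
      fdim y (P.opcycles p) + fdim y (P.opcycles (p + 1)) := by
  letI : Field (Coh.Γtop Y) := hY.fld.toField
  haveI := finite_opcycles_fibCx y P p h1
  haveI : FiniteDimensional (Coh.Γtop Y) (((fibCx y).obj P).X (p + 1)) := h2
  have h := Groth.Agent.Lib.Helper75.FlatCx.finrank_homology_add ((fibCx y).obj P) p (p + 1) rfl
  rw [LinearEquiv.finrank_eq (opcyclesFibIso hY y P p).toLinearEquiv,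
    LinearEquiv.finrank_eq (opcyclesFibIso hY y P (p + 1)).toLinearEquiv] at h
  exact h


theorem finite_fib_of_free (hY : IsPt Y) (y : Y ⟶ Z) (p : Y) (N : Z.Modules) (U : Z.Opens) (n : ℕ)
    (e : N.restrict U.ι ≅ FlatMod.freeMod (↑U) n) (hp : y.base p ∈ U) :
    Module.Finite (Coh.Γtop Y) ((fib y).obj N) := by
  obtain ⟨y', hy'⟩ := exists_lift_opens U y (fun q => by rw [hY.base_eq q p]; exact hp)
  haveI := (finrank_fib_freeMod hY y' n).1
  exact Module.Finite.equiv (((gammaTop Y).mapIso (pullbackRestrictIso y U y' hy' N)).toLinearEquiv.trans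
    ((fib y').mapIso e).toLinearEquiv).symm

/-- upper semicontinuity of the dimension of the cohomology of the fibres of a complex whose terms
in degrees `p` and `p + 1` are finite locally free -/
theorem exists_open_homology_le (hY : IsPt Y₀) (y₀ : Y₀ ⟶ Z) (p₀ : Y₀)
    (P : CochainComplex Z.Modules ℤ) (p : ℤ) (h1 : FlatMod.IsFinLocFree (P.X p))
    (h2 : FlatMod.IsFinLocFree (P.X (p + 1))) :
    ∃ W : Z.Opens, y₀.base p₀ ∈ W ∧ ∀ (Y : Scheme.{u}) (_ : IsPt Y) (y : Y ⟶ Z) (q : Y),
      y.base q ∈ W →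
        Module.finrank (Coh.Γtop Y) (((fibCx y).obj P).homology p) ≤
          Module.finrank (Coh.Γtop Y₀) (((fibCx y₀).obj P).homology p) := by
  obtain ⟨U₁, n₁, hU₁, ⟨e₁⟩⟩ := h1 (y₀.base p₀)
  obtain ⟨U₂, n₂, hU₂, ⟨e₂⟩⟩ := h2 (y₀.base p₀)
  obtain ⟨W₁, hW₁, hle₁⟩ := exists_open_fdim_le' hY y₀ p₀ (P.opcycles p) (P.X p) U₁ n₁ e₁ hU₁
    (P.pOpcycles p)
  obtain ⟨W₂, hW₂, hle₂⟩ := exists_open_fdim_le' hY y₀ p₀ (P.opcycles (p + 1)) (P.X (p + 1)) U₂ n₂
    e₂ hU₂ (P.pOpcycles (p + 1))
  refine ⟨W₁ ⊓ W₂ ⊓ U₁ ⊓ U₂, ⟨⟨⟨hW₁, hW₂⟩, hU₁⟩, hU₂⟩, ?_⟩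
  rintro Y hY' y q ⟨⟨⟨hq₁, hq₂⟩, hq₃⟩, hq₄⟩
  have f1 := finrank_homology_fibCx hY' y P p (finite_fib_of_free hY' y q _ U₁ n₁ e₁ hq₃)
    (finite_fib_of_free hY' y q _ U₂ n₂ e₂ hq₄)
  have f2 := finrank_homology_fibCx hY y₀ P p (finite_fib_of_free hY y₀ p₀ _ U₁ n₁ e₁ hU₁)
    (finite_fib_of_free hY y₀ p₀ _ U₂ n₂ e₂ hU₂)
  rw [fdim_of_free hY' y q _ U₂ n₂ e₂ hq₄] at f1
  rw [fdim_of_free hY y₀ p₀ _ U₂ n₂ e₂ hU₂] at f2
  have l1 := hle₁ Y hY' y q hq₁
  have l2 := hle₂ Y hY' y q hq₂
  omega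

end Groth.Agent.Lib.Helper2.FibreUSC
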