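import Groth.Agent.Lib.Helper2.FibreUSC
import Groth.Agent.Lib.Helper2.DCohOpens

set_option autoImplicit false
universe u
open CategoryTheory CategoryTheory.Limits AlgebraicGeometry Opposite

attribute [local instance] HasDerivedCategory.standard

namespace Groth.Agent.Lib.Helper2.FibreUSC

open Groth.Agent.Lib.Helper2.Lpull Groth.Agent.Lib.Helper2.OnePoint
open Groth.Agent.Lib.Helper2.FibreBetti Groth.Agent.Lib.Helper2.DCohBase
open Groth.Agent.Lib.Helper2.DCohPC Groth.Agent.Lib.Helper2.DCohLift Groth.Agent.Lib.Helper2.DCohOpens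

variable {X : Scheme.{u}}

/-- termwise pullback along a morphism which factors through an open immersion -/
noncomputable def pbCxThroughIso {Y U Z : Scheme.{u}} (y'' : Y ⟶ U) (j : U ⟶ Z) [IsOpenImmersion j]
    (F : CochainComplex Z.Modules ℤ) :
    (pbCx (y'' ≫ j)).obj F ≅ (pbCx y'').obj ((resCx j).obj F) :=
  ((pbCompCx y'' j).app F).symm ≪≫ (pbCx y'').mapIso ((resCxIsoPbCx j).app F).symm

theorem finrank_homology_eq_of_quasiIsoAt {Y : Scheme.{u}} (hY : IsPt Y)
    {K L : CochainComplex Y.Modules ℤ} (φ : K ⟶ L) (p : ℤ)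
    (h : IsIso (HomologicalComplex.homologyMap φ p)) :
    Module.finrank (Coh.Γtop Y) (((gammaCx Y).obj K).homology p) =
      Module.finrank (Coh.Γtop Y) (((gammaCx Y).obj L).homology p) := by
  haveI := hY.exact.1
  haveI := hY.exact.2
  have e2 : ∀ K : CochainComplex Y.Modules ℤ,
      (gammaTop Y).obj (K.homology p) ≅ ((gammaCx Y).obj K).homology p :=
    fun K => ((K.sc p).mapHomologyIso (gammaTop Y)).symm
  haveI := h
  exact LinearEquiv.finrank_eq ((e2 K).symm ≪≫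
    (gammaTop Y).mapIso (asIso (HomologicalComplex.homologyMap φ p)) ≪≫ e2 L).toLinearEquiv

theorem nonempty_lpull_iso_through_opens {Y : Scheme.{u}} (y : Y ⟶ X) [DCoh.HasLpull y]
    (V : X.Opens) (V' : (V : Scheme.{u}).Opens) (y'' : Y ⟶ V') (h : (y'' ≫ V'.ι) ≫ V.ι = y)
    (E : DCoh.D X) (F : CochainComplex X.Modules ℤ) (hF : DCoh.IsKFlat F)
    (e : DerivedCategory.Q.obj F ≅ E) :
    Nonempty ((DCoh.Lpull y).obj E ≅
      DerivedCategory.Q.obj ((pbCx y'').obj ((resCx V'.ι).obj ((resCx V.ι).obj F)))) := by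
  subst h
  exact ⟨(DCoh.Lpull _).mapIso e.symm ≪≫ lpIso _ F hF ≪≫
    DerivedCategory.Q.mapIso (pbCxThroughIso (y'' ≫ V'.ι) V.ι F ≪≫
      pbCxThroughIso y'' V'.ι _)⟩

/-- the Betti number in degree `p` of an object which, near the point, receives a map from a
strictly perfect complex which is an isomorphism on cohomology in degrees `≥ p` -/
theorem betti_eq_of_pc (E : DCoh.D X) (F : CochainComplex X.Modules ℤ) (hF : DCoh.IsKFlat F)
    (e : DerivedCategory.Q.obj F ≅ E) (V : X.Opens) (V' : (V : Scheme.{u}).Opens)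
    (P' : CochainComplex (V' : Scheme.{u}).Modules ℤ) (hP' : DCoh.IsStrictlyPerfect P')
    (β : P' ⟶ (resCx V'.ι).obj ((resCx V.ι).obj F)) (m : ℤ)
    (hiso : ∀ i : ℤ, m < i → IsIso (HomologicalComplex.homologyMap β i))
    (hepi : Epi (HomologicalComplex.homologyMap β m))
    (x' : X) [DCoh.HasLpull (X.fromSpecResidueField x')]
    (y'' : Spec (X.residueField x') ⟶ V') (h : (y'' ≫ V'.ι) ≫ V.ι = X.fromSpecResidueField x')
    (p : ℤ) (hp : m < p) :
    PerfD.betti E x' p = Module.finrank (Coh.Γtop (Spec (X.residueField x')))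
      (((fibCx y'').obj P').homology p) := by
  have hpt := isPt_spec_residueField x'
  haveI := hpt.exact.1
  haveI := hpt.exact.2
  have hK' : DCoh.IsKFlat ((resCx V'.ι).obj ((resCx V.ι).obj F)) :=
    isKFlat_resCx V'.ι _ (isKFlat_resCx V.ι F hF)
  have hPK : DCoh.IsKFlat P' := isKFlat_of_isStrictlyPerfect _ hP'
  obtain ⟨hiso', -⟩ := pb_isIso_epi y'' β hPK hK' m hiso hepi
  obtain ⟨eL⟩ := nonempty_lpull_iso_through_opens _ V V' y'' h E F hF e
  unfold PerfD.betti
  rw [finrank_HD_eq _ _ eL p]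
  exact (finrank_homology_eq_of_quasiIsoAt hpt ((pbCx y'').map β) p (hiso' p hp)).symm


/-- a chain level local pseudo-coherence datum -/
theorem exists_local_chain_datum (E : DCoh.D X) (m : ℤ) (hE : DCoh.IsPseudoCoherentD m E)
    (F : CochainComplex X.Modules ℤ) (e : DerivedCategory.Q.obj F ≅ E) (x : X) :
    ∃ (V : X.Opens) (V' : (V : Scheme.{u}).Opens) (hx : x ∈ V) (_ : (⟨x, hx⟩ : V) ∈ V')
      (P' : CochainComplex (V' : Scheme.{u}).Modules ℤ)
      (β : P' ⟶ (resCx V'.ι).obj ((resCx V.ι).obj F)), DCoh.IsStrictlyPerfect P' ∧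
      (∀ i : ℤ, m < i → IsIso (HomologicalComplex.homologyMap β i)) ∧
      Epi (HomologicalComplex.homologyMap β m) := by
  obtain ⟨V, hxV, hV⟩ := hE x
  obtain ⟨P, α, hP, hiso, hepi⟩ := hV F ⟨e⟩
  have hα₁ : IsPC m P α := ⟨hP, hiso, hepi⟩
  obtain ⟨V', hxV', β, hβ⟩ :=
    exists_rep_locally_opens P ((DCoh.restrictCx V).obj F) hP α ⟨x, hxV⟩
  have h2 := hα₁.restrict V'.ι
  have h3 : (resFac V'.ι).inv.app P ≫ (resD V'.ι).map α =
      DerivedCategory.Q.map β ≫ (resFac V'.ι).inv.app ((DCoh.restrictCx V).obj F) := by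
    rw [hβ]
    simp
  rw [h3] at h2
  obtain ⟨hP', hiso', hepi'⟩ := h2
  refine ⟨V, V', hxV, hxV', (resCx V'.ι).obj P, β, hP', ?_, ?_⟩
  · intro i hi
    apply isIso_homologyMap_of_Q'
    have := hiso' i hi
    rw [Functor.map_comp] at this
    exact IsIso.of_isIso_comp_right _
      ((DerivedCategory.homologyFunctor _ i).map
        ((resFac V'.ι).inv.app ((DCoh.restrictCx V).obj F)))
  · apply epi_homologyMap_of_Q'
    rw [Functor.map_comp] at hepi'
    have hh : (DerivedCategory.homologyFunctor _ m).map (DerivedCategory.Q.map β) =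
        ((DerivedCategory.homologyFunctor _ m).map (DerivedCategory.Q.map β) ≫
          (DerivedCategory.homologyFunctor _ m).map
            ((resFac V'.ι).inv.app ((DCoh.restrictCx V).obj F))) ≫
          inv ((DerivedCategory.homologyFunctor _ m).map
            ((resFac V'.ι).inv.app ((DCoh.restrictCx V).obj F))) := by simp
    rw [hh]
    exact epi_comp _ _

theorem exists_lift_two (V : X.Opens) (V' : (V : Scheme.{u}).Opens) (x' : X) (w : V')
    (hw : V.ι.base (V'.ι.base w) = x') :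
    ∃ y'' : Spec (X.residueField x') ⟶ V',
      (y'' ≫ V'.ι) ≫ V.ι = X.fromSpecResidueField x' ∧ ∀ q, y''.base q = w := by
  obtain ⟨y', hy'⟩ := exists_lift_opens V (X.fromSpecResidueField x') (fun q => by
    rw [Scheme.fromSpecResidueField_apply, ← hw]
    exact (V'.ι.base w).2)
  have hpt' : ∀ q : ↥(Spec (X.residueField x')), y'.base q = V'.ι.base w := by
    intro q
    apply V.ι.isOpenEmbedding.injective
    rw [hw, ← Scheme.Hom.comp_apply, hy', Scheme.fromSpecResidueField_apply]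
  obtain ⟨y'', hy''⟩ := exists_lift_opens V' y' (fun q => by
    rw [hpt' q]
    exact w.2)
  refine ⟨y'', by rw [hy'', hy'], fun q => ?_⟩
  apply V'.ι.isOpenEmbedding.injective
  rw [← Scheme.Hom.comp_apply, hy'', hpt' q]

/-- upper semicontinuity of the Betti number in degree `p` of a `(p - 1)`-pseudo-coherent object -/
theorem exists_nhds_betti_le (X : Scheme.{u}) [∀ x : X, DCoh.HasLpull (X.fromSpecResidueField x)]
    (E : DCoh.D X) (p : ℤ) (hE : DCoh.IsPseudoCoherentD (p - 1) E) (x : X) :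
    ∃ W : X.Opens, x ∈ W ∧ ∀ x' ∈ W, PerfD.betti E x' p ≤ PerfD.betti E x p := by
  obtain ⟨F, hF, ⟨e⟩⟩ := exists_kflat_rep E
  obtain ⟨V, V', hxV, hxV', P', β, hP', hiso, hepi⟩ :=
    exists_local_chain_datum E (p - 1) hE F e x
  obtain ⟨y₀, hy₀, hy₀pt⟩ := exists_lift_two V V' x ⟨⟨x, hxV⟩, hxV'⟩ rfl
  obtain ⟨q₀⟩ := (isPt_spec_residueField x).ne
  obtain ⟨W, hW, hle⟩ := exists_open_homology_le (isPt_spec_residueField x) y₀ q₀ P' p
    (hP'.2 p) (hP'.2 (p + 1))
  rw [hy₀pt q₀] at hW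
  refine ⟨V.ι ''ᵁ (V'.ι ''ᵁ W), ⟨⟨x, hxV⟩, ⟨⟨⟨x, hxV⟩, hxV'⟩, hW, rfl⟩, rfl⟩, ?_⟩
  rintro x' ⟨v, ⟨w, hw, hwv⟩, hvx⟩
  have hwx : V.ι.base (V'.ι.base w) = x' := by
    have h1 : V'.ι.base w = v := hwv
    rw [h1]
    exact hvx
  obtain ⟨y'', hy'', hpt⟩ := exists_lift_two V V' x' w hwx
  obtain ⟨q⟩ := (isPt_spec_residueField x').ne
  rw [betti_eq_of_pc E F hF e V V' P' hP' β (p - 1) hiso hepi x' y'' hy'' p (by omega),
    betti_eq_of_pc E F hF e V V' P' hP' β (p - 1) hiso hepi x y₀ hy₀ p (by omega)]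
  exact hle _ (isPt_spec_residueField x') y'' q (by rw [hpt q]; exact hw)

theorem isOpen_betti_lt (X : Scheme.{u}) [∀ x : X, DCoh.HasLpull (X.fromSpecResidueField x)]
    (E : DCoh.D X) (p : ℤ) (hE : DCoh.IsPseudoCoherentD (p - 1) E) (n : ℕ) :
    IsOpen {x : X | PerfD.betti E x p < n} := by
  rw [isOpen_iff_forall_mem_open]
  intro x hx
  obtain ⟨W, hxW, hW⟩ := exists_nhds_betti_le X E p hE x
  exact ⟨W, fun x' hx' => lt_of_le_of_lt (hW x' hx') hx, W.2, hxW⟩

end Groth.Agent.Lib.Helper2.FibreUSC
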