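import Mathlib
import Groth.Prelude.Def_Mor2

set_option autoImplicit false
universe u
open AlgebraicGeometry CategoryTheory CategoryTheory.Limits TopologicalSpace Opposite

namespace Groth.Agent.Lib.Helper2.FinrankAff

variable {X Y : Scheme.{u}}

/-- The restriction of `f` to an affine open `U`, composed with `U ≅ Spec Γ(Y, U)`, is the base
change of `f` along `Spec Γ(Y, U) ⟶ Y`. -/
theorem isPullback_restrict_fromSpec (f : X ⟶ Y) {U : Y.Opens} (hU : IsAffineOpen U) :
    IsPullback (f ⁻¹ᵁ U).ι (f ∣_ U ≫ hU.isoSpec.hom) f hU.fromSpec := by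
  refine (isPullback_morphismRestrict f U).flip.of_iso (Iso.refl _) (Iso.refl _) hU.isoSpec
    (Iso.refl _) ?_ ?_ ?_ ?_
  · simp
  · simp
  · simp
  · simp

/-- For an affine morphism, the preimage of an affine open is the base change, in ring terms. -/
theorem isPullback_fromSpec_of_isAffineHom (f : X ⟶ Y) [IsAffineHom f] {U : Y.Opens}
    (hU : IsAffineOpen U) :
    IsPullback (hU.preimage f).fromSpec (Spec.map (f.app U)) f hU.fromSpec := by
  refine (IsOpenImmersion.isPullback _ _ _ _ ?_ ?_).flip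
  · rw [Scheme.Hom.app_eq_appLE, IsAffineOpen.SpecMap_appLE_fromSpec f hU (hU.preimage f) le_rfl]
  · rw [hU.opensRange_fromSpec, (hU.preimage f).opensRange_fromSpec]

/-- A Zariski-local (on the target) property of `f` can be checked on ring-level base changes to
affine opens covering the target. -/
theorem of_forall_isPullback_fromSpec (P : MorphismProperty Scheme.{u}) [IsZariskiLocalAtTarget P]
    (f : X ⟶ Y)
    (h : ∀ y : Y, ∃ (U : Y.Opens) (hU : IsAffineOpen U) (_ : y ∈ U) (B : CommRingCat.{u})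
      (φ : Γ(Y, U) ⟶ B) (i : Spec B ⟶ X), IsPullback i (Spec.map φ) f hU.fromSpec ∧
        P (Spec.map φ)) : P f := by
  apply IsZariskiLocalAtTarget.of_forall_exists_morphismRestrict
  intro y
  obtain ⟨U, hU, hyU, B, φ, i, hpb, hP⟩ := h y
  refine ⟨U, hyU, ?_⟩
  have h1 := isPullback_restrict_fromSpec f hU
  let e := h1.isoIsPullback _ _ hpb
  have he : e.hom ≫ Spec.map φ = f ∣_ U ≫ hU.isoSpec.hom := h1.isoIsPullback_hom_snd _ _ hpb
  rw [← MorphismProperty.cancel_right_of_respectsIso P _ hU.isoSpec.hom, ← he,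
    MorphismProperty.cancel_left_of_respectsIso P]
  exact hP

/-- Conversely, properties stable under base change pass to the ring-level base change. -/
theorem finrank_eq_of_isPullback_fromSpec (f : X ⟶ Y) [Flat f] [IsFinite f] {U : Y.Opens}
    (hU : IsAffineOpen U) {B : CommRingCat.{u}} (φ : Γ(Y, U) ⟶ B) (i : Spec B ⟶ X)
    (hpb : IsPullback i (Spec.map φ) f hU.fromSpec) (y : Y) (hy : y ∈ U) :
    f.finrank y = φ.hom.finrank (hU.primeIdealOf ⟨y, hy⟩) := by
  have h1 := Scheme.Hom.finrank_of_isPullback _ _ _ _ hpb (hU.primeIdealOf ⟨y, hy⟩)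
  rw [hU.fromSpec_primeIdealOf] at h1
  rw [← h1]
  have hfl : Flat (Spec.map φ) := MorphismProperty.of_isPullback hpb inferInstance
  have hfi : IsFinite (Spec.map φ) := MorphismProperty.of_isPullback hpb inferInstance
  rw [Scheme.Hom.finrank_SpecMap_eq_finrank ((IsFinite.SpecMap_iff _).1 hfi)
    (Flat.SpecMap_iff.1 hfl)]

/-- The rank of a finite flat morphism at a point of an affine open `U` is the rank at the
corresponding prime of `Γ(X, f⁻¹U)` as a `Γ(Y, U)`-module. -/
theorem finrank_eq_finrank_app (f : X ⟶ Y) [Flat f] [IsFinite f] {U : Y.Opens}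
    (hU : IsAffineOpen U) (y : Y) (hy : y ∈ U) :
    f.finrank y = (f.app U).hom.finrank (hU.primeIdealOf ⟨y, hy⟩) :=
  finrank_eq_of_isPullback_fromSpec f hU (f.app U) _ (isPullback_fromSpec_of_isAffineHom f hU) y hy

end Groth.Agent.Lib.Helper2.FinrankAff
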