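import Groth.Agent.Lib.Helper2.FittSheaf
import Groth.Agent.Lib.Lead.PullbackAff4
import Groth.Agent.Lib.Helper82.EffCartier

/-!
# Fitting ideal sheaves: hypothesis-based version, and compatibility with pullback
(helper2 seat library)
-/

set_option autoImplicit false
set_option linter.style.haveILetI false
universe u

open AlgebraicGeometry CategoryTheory Opposite TopologicalSpace Limits

namespace Groth.Agent.Lib.Helper2.FittSheaf

open Groth.Agent.Lib.Helper2.FinTypeAff Groth.Agent.Lib.Helper75.Fitting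
open Groth.Agent.Lib.Helper21.RelFPSch Groth.Agent.Lib.Lead.QCohAff
open Groth.Agent.Lib.Lead.PullbackAff

variable {X : Scheme.{u}} (F : X.Modules)

/-- Version of `fittData` with finiteness of sections given as a hypothesis. -/
noncomputable def fittData' [F.IsQuasicoherent]
    (hfin : ∀ U : X.affineOpens, Module.Finite Γ(X, U.1) Γ(F, U.1)) (k : ℕ) :
    X.IdealSheafData :=
  ⟨fun U => Fitt.ideal Γ(X, U.1) Γ(F, U.1) k, fun U a => by
    haveI := hfin U
    exact (fitt_basicOpen F U.2 a k).symm, _, rfl⟩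

theorem sheafIdeal_ideal' [F.IsQuasicoherent]
    (hfin : ∀ U : X.affineOpens, Module.Finite Γ(X, U.1) Γ(F, U.1)) (k : ℕ)
    (U : X.affineOpens) :
    (Fitt.sheafIdeal F k).ideal U = Fitt.ideal Γ(X, U.1) Γ(F, U.1) k := by
  have : Fitt.sheafIdeal F k = fittData' F hfin k :=
    Scheme.IdealSheafData.ofIdeals_ideal (fittData' F hfin k)
  rw [this]
  rfl

variable {T S : Scheme.{u}} (f : T ⟶ S) (G : S.Modules)

/-- Sections of the pullback of a quasi-coherent module with finite sections on affines are finite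
on the affine opens mapping into an affine open. -/
theorem finite_sections_pullback_of_le [G.IsQuasicoherent] {U : T.Opens} {V : S.Opens}
    (hU : IsAffineOpen U) (hV : IsAffineOpen V) (e : U ≤ f ⁻¹ᵁ V)
    (hfin : Module.Finite Γ(S, V) Γ(G, V)) :
    Module.Finite Γ(T, U) Γ((Scheme.Modules.pullback f).obj G, U) := by
  letI := (f.appLE V U e).hom.toAlgebra
  exact Module.Finite.equiv (sectionsPullbackEquiv f G hU hV e).symm

theorem finite_sections_pullback [G.IsQuasicoherent]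
    (hfin : ∀ V : S.affineOpens, Module.Finite Γ(S, V.1) Γ(G, V.1)) (U : T.affineOpens) :
    Module.Finite Γ(T, U.1) Γ((Scheme.Modules.pullback f).obj G, U.1) := by
  refine finite_of_cover ((Scheme.Modules.pullback f).obj G)
    {U : T.Opens | IsAffineOpen U ∧ ∃ V : S.Opens, IsAffineOpen V ∧ U ≤ f ⁻¹ᵁ V}
    (fun x => ?_) (fun U hU => hU.1) ?_ U.2
  · obtain ⟨V, U, hV, hU, hxU, hUV⟩ := exists_affines f x
    exact ⟨U, ⟨hU, V, hV, hUV⟩, hxU⟩
  · rintro U ⟨hU, V, hV, hUV⟩
    exact finite_sections_pullback_of_le f G hU hV hUV (hfin ⟨V, hV⟩)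

/-- Fitting ideals of sections of a pullback. -/
theorem fitt_sections_pullback [G.IsQuasicoherent] {U : T.Opens} {V : S.Opens}
    (hU : IsAffineOpen U) (hV : IsAffineOpen V) (e : U ≤ f ⁻¹ᵁ V)
    [Module.Finite Γ(S, V) Γ(G, V)] (k : ℕ) :
    Fitt.ideal Γ(T, U) Γ((Scheme.Modules.pullback f).obj G, U) k =
      (Fitt.ideal Γ(S, V) Γ(G, V) k).map (f.appLE V U e).hom := by
  letI := (f.appLE V U e).hom.toAlgebra
  rw [fitt_congr (sectionsPullbackEquiv f G hU hV e) k, fitt_baseChange]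
  rfl

/-- **Fitting ideal sheaves commute with pullback.** -/
theorem sheafIdeal_comap [G.IsQuasicoherent]
    (hfin : ∀ V : S.affineOpens, Module.Finite Γ(S, V.1) Γ(G, V.1)) (k : ℕ) :
    (Fitt.sheafIdeal G k).comap f = Fitt.sheafIdeal ((Scheme.Modules.pullback f).obj G) k := by
  let ι := {p : T.affineOpens × S.affineOpens // p.1.1 ≤ f ⁻¹ᵁ p.2.1}
  refine Scheme.IdealSheafData.ext_of_iSup_eq_top (ι := ι) (fun p => p.1.1) ?_ (fun p => ?_)
  · rw [eq_top_iff]
    intro x _
    obtain ⟨V, U, hV, hU, hxU, hUV⟩ := exists_affines f x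
    rw [Opens.mem_iSup]
    exact ⟨⟨(⟨U, hU⟩, ⟨V, hV⟩), hUV⟩, hxU⟩
  · obtain ⟨⟨⟨U, hU⟩, ⟨V, hV⟩⟩, e⟩ := p
    haveI := hfin ⟨V, hV⟩
    rw [Groth.Agent.Lib.Helper82.ideal_comap_of_le f _ U hU V hV e,
      sheafIdeal_ideal' G hfin k ⟨V, hV⟩,
      sheafIdeal_ideal' _ (finite_sections_pullback f G hfin) k ⟨U, hU⟩,
      fitt_sections_pullback f G hU hV e k]

end Groth.Agent.Lib.Helper2.FittSheaf
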