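import Groth.Agent.Lib.Helper2.FinTypeAff
import Groth.Agent.Lib.Helper75.Fitting13
import Groth.Prelude.Def_Fitting

set_option autoImplicit false
set_option linter.style.haveILetI false
universe u

open AlgebraicGeometry CategoryTheory Opposite TopologicalSpace Limits

namespace Groth.Agent.Lib.Helper2.FittSheaf

open Groth.Agent.Lib.Helper2.FinTypeAff Groth.Agent.Lib.Helper75.Fitting
open Groth.Agent.Lib.Helper21.RelFPSch Groth.Agent.Lib.Lead.QCohAff

/-- Fitting ideals commute with localization (abstract `IsLocalizedModule` form). -/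
theorem fitt_of_isLocalizedModule {R R' M M' : Type u} [CommRing R] [CommRing R'] [Algebra R R']
    [AddCommGroup M] [Module R M] [AddCommGroup M'] [Module R M'] [Module R' M']
    [IsScalarTower R R' M'] (S : Submonoid R) [IsLocalization S R'] (g : M →ₗ[R] M')
    [IsLocalizedModule S g] [Module.Finite R M] (k : ℕ) :
    Fitt.ideal R' M' k = (Fitt.ideal R M k).map (algebraMap R R') := by
  have hbc : IsBaseChange R' g := IsLocalizedModule.isBaseChange S R' g
  rw [← fitt_baseChange (R' := R') (M := M) k]
  exact (fitt_congr hbc.equiv k).symm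

variable {X : Scheme.{u}} (F : X.Modules)

theorem fitt_basicOpen [F.IsQuasicoherent] {U : X.Opens} (hU : IsAffineOpen U) (a : Γ(X, U))
    [Module.Finite Γ(X, U) Γ(F, U)] (k : ℕ) :
    Fitt.ideal Γ(X, X.basicOpen a) Γ(F, X.basicOpen a) k =
      (Fitt.ideal Γ(X, U) Γ(F, U) k).map (X.presheaf.map (homOfLE <| X.basicOpen_le a).op).hom := by
  letI : Module Γ(X, U) Γ(F, X.basicOpen a) :=
    Module.compHom _ (resRing X (X.basicOpen_le a))
  haveI : IsScalarTower Γ(X, U) Γ(X, X.basicOpen a) Γ(F, X.basicOpen a) :=
    IsScalarTower.of_algebraMap_smul fun _ _ => rfl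
  haveI := hU.isLocalization_basicOpen a
  haveI := isLocalizedModule_resL F hU a
  exact fitt_of_isLocalizedModule (Submonoid.powers a) (resL F (X.basicOpen_le a)) k

/-- The Fitting ideals of the modules of sections of a quasi-coherent module of finite type
form an ideal sheaf. -/
noncomputable def fittData [F.IsQuasicoherent]
    [SheafOfModules.IsFiniteType (R := X.ringCatSheaf) F] (k : ℕ) : X.IdealSheafData :=
  ⟨fun U => Fitt.ideal Γ(X, U.1) Γ(F, U.1) k, fun U a => by
    haveI := finite_sections F U.2
    exact (fitt_basicOpen F U.2 a k).symm, _, rfl⟩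

theorem sheafIdeal_eq_fittData [F.IsQuasicoherent]
    [SheafOfModules.IsFiniteType (R := X.ringCatSheaf) F] (k : ℕ) :
    Fitt.sheafIdeal F k = fittData F k :=
  Scheme.IdealSheafData.ofIdeals_ideal (fittData F k)

/-- **Values of the Fitting ideal sheaf on affine opens.** -/
theorem sheafIdeal_ideal [F.IsQuasicoherent]
    [SheafOfModules.IsFiniteType (R := X.ringCatSheaf) F] (k : ℕ) (U : X.affineOpens) :
    (Fitt.sheafIdeal F k).ideal U = Fitt.ideal Γ(X, U.1) Γ(F, U.1) k := by
  rw [sheafIdeal_eq_fittData]
  rfl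

end Groth.Agent.Lib.Helper2.FittSheaf
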