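import Mathlib.AlgebraicGeometry.Sites.Fpqc
import Mathlib.AlgebraicGeometry.Morphisms.FlatDescent
import Mathlib.AlgebraicGeometry.Cover.Sigma

set_option autoImplicit false
universe w u

open CategoryTheory CategoryTheory.Limits AlgebraicGeometry MorphismProperty

namespace Groth.Agent.Lib.Helper2.FpqcLocal

/-- A "sieve-like" predicate on morphisms into `S` which is Zariski-local on the source and
descends along single fpqc morphisms holds for `𝟙 S` as soon as it holds on the members of a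
quasi-compact flat covering family of `S`. -/
theorem good_of_qcCover {S : Scheme.{u}} (Good : ∀ ⦃T : Scheme.{u}⦄, (T ⟶ S) → Prop)
    (hsieve : ∀ ⦃T T' : Scheme.{u}⦄ (h : T' ⟶ T) (q : T ⟶ S), Good q → Good (h ≫ q))
    (hzar : ∀ ⦃T : Scheme.{u}⦄ (q : T ⟶ S) (𝒱 : Scheme.OpenCover.{u} T),
      (∀ i, Good (𝒱.f i ≫ q)) → Good q)
    (hfpqc : ∀ ⦃T T' : Scheme.{u}⦄ (p : T' ⟶ T) (q : T ⟶ S), Surjective p → Flat p →
      QuasiCompact p → Good (p ≫ q) → Good q)
    (𝒰 : Scheme.Cover.{u} (Scheme.precoverage @Flat) S)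
    [QuasiCompactCover 𝒰.toPreZeroHypercover]
    (h𝒰 : ∀ i, Good (𝒰.f i)) : Good (𝟙 S) := by
  refine hzar (𝟙 S) S.affineCover fun i ↦ ?_
  rw [Category.comp_id]
  set ι := S.affineCover.f i with hι
  -- pull back the cover to the affine piece
  let 𝒰' : Scheme.Cover.{u} (Scheme.precoverage @Flat) (S.affineCover.X i) := 𝒰.pullback₁ ι
  have : QuasiCompactCover 𝒰'.toPreZeroHypercover :=
    inferInstanceAs <| QuasiCompactCover (𝒰.toPreZeroHypercover.pullback₁ ι)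
  have h𝒰' : ∀ j, Good (𝒰'.f j ≫ ι) := by
    intro j
    have : 𝒰'.f j ≫ ι = pullback.snd ι (𝒰.f j) ≫ 𝒰.f j := pullback.condition
    rw [this]
    exact hsieve _ _ (h𝒰 j)
  have : IsAffine (S.affineCover.X i) := inferInstanceAs <| IsAffine (Spec _)
  obtain ⟨𝒱, r, hfin, ho⟩ := QuasiCompactCover.exists_hom 𝒰'
  have h𝒱 : ∀ k, Good (𝒱.cover.f k ≫ ι) := by
    intro k
    rw [← r.w₀ k, Category.assoc]
    exact hsieve _ _ (h𝒰' _)
  -- the single fpqc morphism
  have : Finite 𝒱.cover.I₀ := hfin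
  let p : (∐ 𝒱.cover.X) ⟶ S.affineCover.X i := Sigma.desc 𝒱.cover.f
  have hpflat : Flat p := IsZariskiLocalAtSource.sigmaDesc 𝒱.cover.map_prop
  have hpsurj : Surjective p := by
    refine ⟨fun x ↦ ?_⟩
    obtain ⟨k, y, rfl⟩ := 𝒱.cover.exists_eq x
    exact ⟨Sigma.ι 𝒱.cover.X k y, by simp [p, ← Scheme.Hom.comp_apply]⟩
  have : ∀ k, IsAffine (𝒱.cover.X k) := fun k ↦ inferInstanceAs <| IsAffine (Spec _)
  have hpqc : QuasiCompact p := inferInstance
  refine hfpqc p ι hpsurj hpflat hpqc ?_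
  refine hzar _ (sigmaOpenCover 𝒱.cover.X) fun k ↦ ?_
  have : (sigmaOpenCover 𝒱.cover.X).f k ≫ p ≫ ι = 𝒱.cover.f k ≫ ι := by
    change Sigma.ι 𝒱.cover.X k ≫ Sigma.desc 𝒱.cover.f ≫ ι = 𝒱.cover.f k ≫ ι
    rw [Sigma.ι_desc_assoc]
  rw [this]
  exact h𝒱 k

/-- Presieve version of `good_of_qcCover`. -/
theorem good_of_mem_fpqcPrecoverage {S : Scheme.{u}} (Good : ∀ ⦃T : Scheme.{u}⦄, (T ⟶ S) → Prop)
    (hsieve : ∀ ⦃T T' : Scheme.{u}⦄ (h : T' ⟶ T) (q : T ⟶ S), Good q → Good (h ≫ q))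
    (hzar : ∀ ⦃T : Scheme.{u}⦄ (q : T ⟶ S) (𝒱 : Scheme.OpenCover.{u} T),
      (∀ i, Good (𝒱.f i ≫ q)) → Good q)
    (hfpqc : ∀ ⦃T T' : Scheme.{u}⦄ (p : T' ⟶ T) (q : T ⟶ S), Surjective p → Flat p →
      QuasiCompact p → Good (p ≫ q) → Good q)
    (R : Presieve S) (hR : R ∈ Scheme.fpqcPrecoverage S)
    (hRG : ∀ ⦃T : Scheme.{u}⦄ (f : T ⟶ S), R f → Good f) : Good (𝟙 S) := by
  obtain ⟨𝒰, rfl⟩ := Precoverage.mem_iff_exists_zeroHypercover.mp hR
  let 𝒰₁ : Scheme.Cover.{u + 1} (Scheme.propQCPrecoverage @Flat) S := 𝒰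
  let 𝒰₂ : Scheme.Cover.{u} (Scheme.propQCPrecoverage @Flat) S := 𝒰₁.restrictIndexOfSmall
  refine good_of_qcCover Good hsieve hzar hfpqc 𝒰₂.forgetQc fun i ↦ ?_
  exact hRG _ ⟨_⟩

section MorphismProperty

variable (P : MorphismProperty Scheme.{u}) [P.IsStableUnderBaseChange]

lemma fst_comp_iff {S Y T T' : Scheme.{u}} (g : Y ⟶ S) (q : T ⟶ S) (h : T' ⟶ T) :
    P (pullback.fst (h ≫ q) g) ↔ P (pullback.fst h (pullback.fst q g)) := by
  rw [← pullbackRightPullbackFstIso_hom_fst q g h, P.cancel_left_of_respectsIso]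

/-- A property of morphisms which is Zariski-local on the target, stable under base change and
descends along fpqc morphisms can be checked after base change to the members of an fpqc covering
family. -/
theorem of_mem_fpqcPrecoverage [IsZariskiLocalAtTarget P]
    [P.DescendsAlong (@Surjective ⊓ @Flat ⊓ @QuasiCompact)]
    {S Y : Scheme.{u}} (g : Y ⟶ S) (R : Presieve S) (hR : R ∈ Scheme.fpqcPrecoverage S)
    (H : ∀ ⦃T : Scheme.{u}⦄ (f : T ⟶ S), R f → P (pullback.fst f g)) : P g := by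
  have key : P (pullback.fst (𝟙 S) g) := by
    refine good_of_mem_fpqcPrecoverage (fun T q ↦ P (pullback.fst q g)) ?_ ?_ ?_ R hR H
    · intro T T' h q hq
      rw [fst_comp_iff P]
      exact P.pullback_fst _ _ hq
    · intro T q 𝒱 h𝒱
      refine IsZariskiLocalAtTarget.of_openCover 𝒱 fun i ↦ ?_
      change P (pullback.snd (pullback.fst q g) (𝒱.f i))
      rw [← pullbackSymmetry_hom_comp_fst, P.cancel_left_of_respectsIso, ← fst_comp_iff P]
      exact h𝒱 i
    · intro T T' p q hs hf hqc hpq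
      rw [fst_comp_iff P] at hpq
      exact of_pullback_fst_of_descendsAlong (P := P) (Q := @Surjective ⊓ @Flat ⊓ @QuasiCompact)
        (f := p) ⟨⟨hs, hf⟩, hqc⟩ hpq
  have : pullback.fst (𝟙 S) g = pullback.snd (𝟙 S) g ≫ g := by
    rw [← pullback.condition, Category.comp_id]
  rwa [this, P.cancel_left_of_respectsIso] at key

end MorphismProperty

end Groth.Agent.Lib.Helper2.FpqcLocal
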