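import Groth.Agent.Lib.Lead.SheafPts

/-!
# Gluing a morphism of `O_X`-modules from compatible local data on a basis of opens (helper2)
-/

set_option autoImplicit false
universe u

open AlgebraicGeometry CategoryTheory Opposite TopologicalSpace

namespace Groth.Agent.Lib.Helper2.HomGlue

open Groth.Agent.Lib.Lead.QCohAff Groth.Agent.Lib.Lead.SheafGlue

variable {X : Scheme.{u}} (M N : X.Modules) (good : X.Opens → Prop)
  (t : ∀ W : X.Opens, good W → Γ(M, W) → Γ(N, W))

/-- `s` is the value of the glued map at `a`. -/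
def IsGlued (U : X.Opens) (a : Γ(M, U)) (s : Γ(N, U)) : Prop :=
  ∀ (W : X.Opens) (hW : good W) (h : W ≤ U),
    N.presheaf.map (homOfLE h).op s = t W hW (M.presheaf.map (homOfLE h).op a)

variable {M N good t}

theorem IsGlued.unique (hbasis : ∀ (U : X.Opens) (x : X), x ∈ U → ∃ W, good W ∧ x ∈ W ∧ W ≤ U)
    {U : X.Opens} {a : Γ(M, U)} {s s' : Γ(N, U)} (hs : IsGlued M N good t U a s)
    (hs' : IsGlued M N good t U a s') : s = s' := by
  apply eq_of_locally_eq_pts
  intro x hx
  obtain ⟨W, hW, hxW, hWU⟩ := hbasis U x hx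
  exact ⟨W, hWU, hxW, (hs W hW hWU).trans (hs' W hW hWU).symm⟩

theorem exists_isGlued
    (hbasis : ∀ (U : X.Opens) (x : X), x ∈ U → ∃ W, good W ∧ x ∈ W ∧ W ≤ U)
    (compat : ∀ (W W' : X.Opens) (hW : good W) (hW' : good W') (h : W' ≤ W) (a : Γ(M, W)),
      N.presheaf.map (homOfLE h).op (t W hW a) = t W' hW' (M.presheaf.map (homOfLE h).op a))
    (U : X.Opens) (a : Γ(M, U)) : ∃ s : Γ(N, U), IsGlued M N good t U a s := by
  choose V hV hxV hVU using fun x : U => hbasis U x.1 x.2
  obtain ⟨r, hr⟩ := exists_glue_pts N V hVU hxV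
    (fun x => t (V x) (hV x) (M.presheaf.map (homOfLE (hVU x)).op a)) (by
      intro x y
      apply eq_of_locally_eq_pts
      intro z hz
      obtain ⟨W, hW, hzW, hWle⟩ := hbasis (V x ⊓ V y) z hz
      refine ⟨W, hWle, hzW, ?_⟩
      rw [res_res, res_res, compat (V x) W (hV x) hW (hWle.trans inf_le_left),
        compat (V y) W (hV y) hW (hWle.trans inf_le_right), res_res, res_res])
  refine ⟨r, fun W hW hWU => ?_⟩
  apply eq_of_locally_eq_pts
  intro z hz
  obtain ⟨W', hW', hzW', hW'le⟩ := hbasis (W ⊓ V ⟨z, hWU hz⟩) z ⟨hz, hxV ⟨z, hWU hz⟩⟩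
  refine ⟨W', hW'le.trans inf_le_left, hzW', ?_⟩
  rw [res_res, compat W W' hW hW' (hW'le.trans inf_le_left), res_res,
    ← res_res N (hVU ⟨z, hWU hz⟩) (hW'le.trans inf_le_right), hr,
    compat (V ⟨z, hWU hz⟩) W' (hV _) hW' (hW'le.trans inf_le_right), res_res]

/-- **Gluing morphisms of modules**: compatible linear maps on a basis of opens glue to a morphism
of `O_X`-modules. -/
theorem exists_hom
    (hbasis : ∀ (U : X.Opens) (x : X), x ∈ U → ∃ W, good W ∧ x ∈ W ∧ W ≤ U)
    (t_add : ∀ (W : X.Opens) (hW : good W) (a b : Γ(M, W)), t W hW (a + b) = t W hW a + t W hW b)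
    (t_smul : ∀ (W : X.Opens) (hW : good W) (r : Γ(X, W)) (a : Γ(M, W)),
      t W hW (r • a) = r • t W hW a)
    (compat : ∀ (W W' : X.Opens) (hW : good W) (hW' : good W') (h : W' ≤ W) (a : Γ(M, W)),
      N.presheaf.map (homOfLE h).op (t W hW a) = t W' hW' (M.presheaf.map (homOfLE h).op a)) :
    ∃ τ : M ⟶ N, ∀ (W : X.Opens) (hW : good W) (a : Γ(M, W)), τ.app W a = t W hW a := by
  classical
  let g : ∀ (U : X.Opens), Γ(M, U) → Γ(N, U) := fun U a =>
    (exists_isGlued hbasis compat U a).choose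
  have hg : ∀ U a, IsGlued M N good t U a (g U a) := fun U a =>
    (exists_isGlued hbasis compat U a).choose_spec
  have hguniq : ∀ U a s, IsGlued M N good t U a s → s = g U a := fun U a s hs =>
    IsGlued.unique hbasis hs (hg U a)
  have hgadd : ∀ U (a b : Γ(M, U)), g U (a + b) = g U a + g U b := by
    intro U a b
    refine (hguniq U _ _ fun W hW h => ?_).symm
    rw [map_add, map_add, hg U a W hW h, hg U b W hW h, ← t_add]
  have hgsmul : ∀ U (r : Γ(X, U)) (a : Γ(M, U)), g U (r • a) = r • g U a := by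
    intro U r a
    refine (hguniq U _ _ fun W hW h => ?_).symm
    rw [res_smul, res_smul, hg U a W hW h, t_smul]
  have hgres : ∀ (U U' : X.Opens) (h : U' ≤ U) (a : Γ(M, U)),
      g U' (M.presheaf.map (homOfLE h).op a) = N.presheaf.map (homOfLE h).op (g U a) := by
    intro U U' h a
    refine (hguniq U' _ _ fun W hW hWU' => ?_).symm
    rw [res_res, res_res, hg U a W hW (hWU'.trans h)]
  have hggood : ∀ W (hW : good W) (a : Γ(M, W)), g W a = t W hW a := by
    intro W hW a
    refine (hguniq W _ _ fun W' hW' h => ?_).symm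
    exact compat W W' hW hW' h a
  let τ : M ⟶ N := ⟨PresheafOfModules.homMk
    { app := fun U => AddCommGrpCat.ofHom (AddMonoidHom.mk' (g U.unop) (hgadd U.unop))
      naturality := fun U V i => by
        ext a
        have hle : V.unop ≤ U.unop := i.unop.le
        have hi : i = (homOfLE hle).op := Subsingleton.elim _ _
        subst hi
        exact hgres U.unop V.unop hle a }
    (fun U r a => hgsmul U.unop r a)⟩
  exact ⟨τ, fun W hW a => hggood W hW a⟩

end Groth.Agent.Lib.Helper2.HomGlue
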