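import Mathlib.AlgebraicGeometry.Modules.Tilde
import Mathlib.Algebra.Homology.ShortComplex.ExactFunctor
import Groth.Agent.Lib.Helper48.Conormal1

set_option autoImplicit false
universe u
open CategoryTheory Limits AlgebraicGeometry TopologicalSpace Opposite

namespace Groth.Agent.Lib.Helper2.TildeExact

variable {R : CommRingCat.{u}}

/-- a linear map between localizations compatible with an injective map is injective -/
theorem injective_of_localized {A : Type*} [CommRing A] (S : Submonoid A)
    {M N M' N' : Type*} [AddCommGroup M] [AddCommGroup N] [AddCommGroup M'] [AddCommGroup N']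
    [Module A M] [Module A N] [Module A M'] [Module A N']
    (lM : M →ₗ[A] M') (lN : N →ₗ[A] N') [IsLocalizedModule S lM] [IsLocalizedModule S lN]
    (f : M →ₗ[A] N) (F : M' →ₗ[A] N') (hF : F ∘ₗ lM = lN ∘ₗ f) (hf : Function.Injective f) :
    Function.Injective F := by
  have : F = IsLocalizedModule.map S lM lN f := by
    apply IsLocalizedModule.linearMap_ext S lM lN
    rw [hF, IsLocalizedModule.map_comp]
  rw [this]
  exact IsLocalizedModule.map_injective S lM lN f hf

theorem app_basicOpen_injective {M N : ModuleCat.{u} R} (f : M ⟶ N)
    (hf : Function.Injective f.hom) (g : R) :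
    Function.Injective ((tilde.map f).app (PrimeSpectrum.basicOpen g)) := by
  have h := tilde.toOpen_map_app f (PrimeSpectrum.basicOpen g)
  have h' := injective_of_localized (Submonoid.powers g)
    (tilde.toOpen M (PrimeSpectrum.basicOpen g)).hom (tilde.toOpen N (PrimeSpectrum.basicOpen g)).hom
    f.hom ((modulesSpecToSheaf.map (tilde.map f)).1.app (op (PrimeSpectrum.basicOpen g))).hom
    (by rw [← ModuleCat.hom_comp, ← ModuleCat.hom_comp, h]) hf
  exact h'

theorem mono_tilde_map {M N : ModuleCat.{u} R} (f : M ⟶ N) [Mono f] : Mono (tilde.map f) := by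
  have hf : Function.Injective f.hom := (ModuleCat.mono_iff_injective f).1 inferInstance
  refine Groth.Agent.Lib.Helper48.Conormal.mono_of_basis (X := Spec R) (tilde.map f)
    (Set.range PrimeSpectrum.basicOpen) PrimeSpectrum.isBasis_basic_opens ?_
  rintro _ ⟨g, rfl⟩
  exact app_basicOpen_injective f hf g

instance preservesMonomorphisms_tilde : (tilde.functor R).PreservesMonomorphisms where
  preserves f _ := mono_tilde_map f

instance preservesFiniteLimits_tilde : PreservesFiniteLimits (tilde.functor R) := by
  apply (Functor.preservesFiniteLimits_iff_forall_exact_map_and_mono (tilde.functor R)).2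
  intro S hS
  haveI : PreservesFiniteColimits (tilde.functor R) := inferInstance
  refine ⟨(((Functor.preservesFiniteColimits_iff_forall_exact_map_and_epi (tilde.functor R))).1
    inferInstance S hS).1, ?_⟩
  haveI := hS.mono_f
  exact mono_tilde_map S.f

end Groth.Agent.Lib.Helper2.TildeExact
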