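import Groth.Agent.Lib.Helper2.LpullRes
import Groth.Agent.Lib.Helper2.TildeExact
import Groth.Agent.Lib.Helper12.RGZ5
import Groth.Agent.Lib.Lead.QCohLocal
import Groth.Agent.S1055

/-!
# `Lf^*` preserves `D_QCoh` (given the description of `D_QCoh(Spec A)` as the essential image of tilde)
-/

set_option autoImplicit false
universe u
open CategoryTheory CategoryTheory.Limits AlgebraicGeometry
attribute [local instance] HasDerivedCategory.standard

namespace Groth.Agent.Lib.Helper2.LpullQCoh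

open Groth.Agent.Lib.Helper2.DCohBase Groth.Agent.Lib.Helper2.Lpull
open Groth.Agent.Lib.Helper12

/-- the essential-image description of `D_QCoh(Spec R)` (third conjunct of S0997) -/
def EssImage : Prop :=
  ∀ (R : CommRingCat.{u}) (K : DCoh.D (Spec (CommRingCat.of R))),
    DCoh.IsQCohD K ↔ ∃ M, Nonempty ((DCoh.tildeD R).obj M ≅ K)

/-- `D_QCoh` is closed under isomorphisms -/
theorem isQCohD_of_iso {X : Scheme.{u}} {K L : DCoh.D X} (e : K ≅ L) (hK : DCoh.IsQCohD K) :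
    DCoh.IsQCohD L := fun i =>
  QCohSigma.isQuasicoherent_of_iso ((DerivedCategory.homologyFunctor _ i).mapIso e) (hK i)

/-- `D_QCoh` is local: it can be tested on the `Spec Γ(Y, V)` for affine opens `V` around each point -/
theorem isQCohD_of_forall_affine {Y : Scheme.{u}} (E : DCoh.D Y)
    (h : ∀ y : Y, ∃ (V : Y.Opens) (hV : IsAffineOpen V), y ∈ V ∧
      DCoh.IsQCohD ((resD hV.fromSpec).obj E)) : DCoh.IsQCohD E := by
  intro i
  apply Groth.Agent.Lib.Lead.QCohLocal.isQuasicoherent_of_forall_affine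
  intro y
  obtain ⟨V, hV, hy, hq⟩ := h y
  refine ⟨V, hV, hy, ?_⟩
  exact QCohSigma.isQuasicoherent_of_iso
    (Groth.Agent.Lib.Helper62.SerreLoc.mapDerivedCategoryHomologyIso
      (Scheme.Modules.restrictFunctor hV.fromSpec) E i) (hq i)

theorem isQCohD_lpull (h : EssImage.{u}) {Y X : Scheme.{u}} (f : Y ⟶ X) [DCoh.HasLpull f]
    (K : DCoh.D X) (hK : DCoh.IsQCohD K) : DCoh.IsQCohD ((DCoh.Lpull f).obj K) := by
  apply isQCohD_of_forall_affine
  intro y
  obtain ⟨_, ⟨U, hU : IsAffineOpen U, rfl⟩, hfy, -⟩ :=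
    X.isBasis_affineOpens.exists_subset_of_mem_open (Set.mem_univ (f.base y)) isOpen_univ
  obtain ⟨_, ⟨V, hV : IsAffineOpen V, rfl⟩, hyV, hVU⟩ :=
    Y.isBasis_affineOpens.exists_subset_of_mem_open (show y ∈ ((f ⁻¹ᵁ U : Y.Opens) : Set Y) from hfy)
      (f ⁻¹ᵁ U).isOpen
  have hVU' : V ≤ f ⁻¹ᵁ U := hVU
  refine ⟨V, hV, hyV, ?_⟩
  -- the rings and the ring map
  let φ : (Γ(X, U) : Type u) →+* (Γ(Y, V) : Type u) := (f.appLE U V hVU').hom
  let jU : Spec (CommRingCat.of (Γ(X, U) : Type u)) ⟶ X := hU.fromSpec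
  let jV : Spec (CommRingCat.of (Γ(Y, V) : Type u)) ⟶ Y := hV.fromSpec
  haveI : IsOpenImmersion jU := inferInstanceAs (IsOpenImmersion hU.fromSpec)
  haveI : IsOpenImmersion jV := inferInstanceAs (IsOpenImmersion hV.fromSpec)
  have w : jV ≫ f = Spec.map (CommRingCat.ofHom φ) ≫ jU :=
    (IsAffineOpen.SpecMap_appLE_fromSpec f hU hV hVU').symm
  haveI : DCoh.HasLpull (Spec.map (CommRingCat.ofHom φ)) := hasLpull _
  obtain ⟨e1⟩ := nonempty_resD_lpull_iso f jU jV (Spec.map (CommRingCat.ofHom φ)) w K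
  have hKU : DCoh.IsQCohD ((resD jU).obj K) := RGZ.isQCohD_restrictD jU K hK
  obtain ⟨M, ⟨eM⟩⟩ := (h (CommRingCat.of (Γ(X, U) : Type u)) _).1 hKU
  obtain ⟨e2⟩ := Groth.Agent.S1055.result φ
  refine isQCohD_of_iso (e1 ≪≫ (DCoh.Lpull (Spec.map (CommRingCat.ofHom φ))).mapIso eM.symm ≪≫
    (e2.app M).symm).symm ?_
  exact (h (CommRingCat.of (Γ(Y, V) : Type u)) _).2 ⟨_, ⟨Iso.refl _⟩⟩

end Groth.Agent.Lib.Helper2.LpullQCoh
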