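import Mathlib.RingTheory.IntegralClosure.IntegralRestrict
import Mathlib.RingTheory.Norm.Transitivity
import Mathlib.RingTheory.Ideal.GoingUp

/-!
# Norms from a finite extension of domains down to an integrally closed domain (helper2)
(no integrally-closedness assumption on the top ring)
-/

set_option autoImplicit false
universe u

namespace Groth.Agent.Lib.Helper2.NormCore
open Module Polynomial IsScalarTower

section AKLB
variable {A B K L : Type*} [CommRing A] [CommRing B] [Field K] [Field L]
  [Algebra A B] [Algebra A K] [Algebra K L] [Algebra B L] [Algebra A L]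
  [IsScalarTower A K L] [IsScalarTower A B L] [IsFractionRing A K]
  [IsDomain A] [IsIntegrallyClosed A] [Algebra.IsIntegral A B]

omit [IsDomain A] in
theorem exists_algebraMap_eq_norm (b : B) :
    ∃ a : A, algebraMap A K a = Algebra.norm K (algebraMap B L b) := by
  have h1 : IsIntegral A (algebraMap B L b) :=
    (Algebra.IsIntegral.isIntegral b).map (IsScalarTower.toAlgHom A B L)
  have h2 : IsIntegral A (Algebra.norm K (algebraMap B L b)) := Algebra.isIntegral_norm K h1
  exact IsIntegrallyClosed.isIntegral_iff.1 h2

/-- `N(x)/x` is integral -/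
theorem isIntegral_inv_mul_norm [IsDomain B] [FiniteDimensional K L]
    (hinj : Function.Injective (algebraMap B L)) (x : B) (hx : x ≠ 0) :
    IsIntegral A ((algebraMap B L x)⁻¹ * algebraMap K L (Algebra.norm K (algebraMap B L x))) := by
  classical
  let E := AlgebraicClosure L
  have hinjE : Function.Injective (algebraMap B E) := by
    rw [IsScalarTower.algebraMap_eq B L E]
    exact (FaithfulSMul.algebraMap_injective L E).comp hinj
  have hxint : IsIntegral A x := Algebra.IsIntegral.isIntegral x
  have hmin : minpoly K (algebraMap B L x) = (minpoly A x).map (algebraMap A K) :=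
    minpoly.isIntegrallyClosed_eq_field_fractions K L hxint
  rw [← isIntegral_algHom_iff (toAlgHom A L E)
    (FaithfulSMul.algebraMap_injective L E), coe_toAlgHom', map_mul, map_inv₀,
    ← algebraMap_apply, ← algebraMap_apply,
    Algebra.norm_eq_prod_roots _ (IsAlgClosed.splits _), ← Multiset.prod_erase
    (a := algebraMap B E x)]
  · rw [mul_pow, ← mul_pow_sub_one (Nat.pos_iff_ne_zero.1 Module.finrank_pos) (algebraMap B E x),
      mul_assoc, inv_mul_cancel_left₀]
    · refine IsIntegral.mul (IsIntegral.pow ?_ _)
        (IsIntegral.pow (IsIntegral.multiset_prod (fun a ha ↦ ⟨minpoly A x, minpoly.monic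
          hxint, ?_⟩)) _)
      · exact (isIntegral_algebraMap_iff hinjE).mpr hxint
      · replace ha := Multiset.erase_subset _ _ ha
        suffices (aeval a) ((minpoly A x).map (algebraMap A K)) = 0 by simpa
        rw [← hmin]
        simp only [mem_roots', ne_eq, Polynomial.map_eq_zero, IsRoot.def, eval_map_algebraMap] at ha
        exact ha.2
    · exact (map_ne_zero_iff _ hinjE).mpr hx
  · simp only [mem_roots', ne_eq, Polynomial.map_eq_zero, IsRoot.def, eval_map_algebraMap]
    refine ⟨minpoly.ne_zero (Algebra.IsIntegral.isIntegral _), ?_⟩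
    simp [algebraMap_apply B L E, aeval_algebraMap_apply]

theorem algebraMap_mem_of_norm [IsDomain B] [FiniteDimensional K L]
    (hinj : Function.Injective (algebraMap B L)) (q : Ideal B) [q.IsPrime] (x : B) (hx : x ∈ q)
    (a : A) (ha : algebraMap A K a = Algebra.norm K (algebraMap B L x)) :
    algebraMap A B a ∈ q := by
  by_cases hx0 : x = 0
  · subst hx0
    rw [map_zero, Algebra.norm_zero] at ha
    have : a = 0 := IsFractionRing.injective A K (by rw [ha, map_zero])
    rw [this, map_zero]; exact q.zero_mem
  have hz := isIntegral_inv_mul_norm (A := A) (K := K) hinj x hx0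
  set z := (algebraMap B L x)⁻¹ * algebraMap K L (Algebra.norm K (algebraMap B L x)) with hzdef
  have hzB : IsIntegral B z := hz.tower_top
  let C := integralClosure B L
  let z' : C := ⟨z, hzB⟩
  have hmul : algebraMap B C x * z' = algebraMap B C (algebraMap A B a) := by
    apply Subtype.ext
    change algebraMap B L x * z = algebraMap B L (algebraMap A B a)
    rw [hzdef, mul_inv_cancel_left₀ ((map_ne_zero_iff _ hinj).2 hx0), ← ha,
      ← IsScalarTower.algebraMap_apply, ← IsScalarTower.algebraMap_apply]
  have hinjC : Function.Injective (algebraMap B C) := fun u v h => hinj (congrArg Subtype.val h)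
  obtain ⟨Q, -, hQ, hQc⟩ := Ideal.exists_ideal_over_prime_of_isIntegral (S := C) q ⊥ (by
      rw [Ideal.comap_bot_of_injective _ hinjC]; exact bot_le)
  have h1 : algebraMap B C x ∈ Q := by rw [← hQc] at hx; exact hx
  have h2 : algebraMap B C (algebraMap A B a) ∈ Q := hmul ▸ Q.mul_mem_right _ h1
  rw [← hQc]; exact h2

omit [IsIntegrallyClosed A] in
theorem finiteDimensional_of_finite [IsDomain B] [Module.Finite A B] [IsFractionRing B L] :
    FiniteDimensional K L := by
  have hAB : Function.Injective (algebraMap A B) := by
    have h1 : Function.Injective (algebraMap A L) := by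
      rw [IsScalarTower.algebraMap_eq A K L]
      exact (algebraMap K L).injective.comp (IsFractionRing.injective A K)
    rw [IsScalarTower.algebraMap_eq A B L] at h1
    exact Function.Injective.of_comp h1
  haveI : FaithfulSMul A B := (faithfulSMul_iff_algebraMap_injective A B).2 hAB
  haveI : IsLocalization (Algebra.algebraMapSubmonoid B (nonZeroDivisors A)) L := inferInstance
  exact Module.Finite.of_isLocalization A B (nonZeroDivisors A)

end AKLB

end Groth.Agent.Lib.Helper2.NormCore
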