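import Groth.Agent.Lib.Helper2.HomGlue
import Groth.Prelude.Def_CohB1

/-!
# Gluing multiplicative norm maps `Γ(X, π⁻¹U) → Γ(Y, U)` from a basis (helper2)
-/

set_option autoImplicit false
universe u

open AlgebraicGeometry CategoryTheory Opposite TopologicalSpace

namespace Groth.Agent.Lib.Helper2.NormGlue

open Groth.Agent.Lib.Helper2.HomGlue Groth.Agent.Lib.Lead.SheafGlue

/-- glue local multiplicative "norm" maps given on a basis of opens of the target -/
theorem exists_glued_norm {X Y : Scheme.{u}} (π : X ⟶ Y) (d : ℕ) (good : Y.Opens → Prop)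
    (hbasis : ∀ (U : Y.Opens) (y : Y), y ∈ U → ∃ W, good W ∧ y ∈ W ∧ W ≤ U)
    (t : ∀ W : Y.Opens, good W → Γ(X, π ⁻¹ᵁ W) → Γ(Y, W))
    (compat : ∀ (W W' : Y.Opens) (hW : good W) (hW' : good W') (h : W' ≤ W) (a : Γ(X, π ⁻¹ᵁ W)),
      (Y.presheaf.map (homOfLE h).op).hom (t W hW a) =
        t W' hW' ((X.presheaf.map ((Opens.map π.base).map (homOfLE h)).op).hom a))
    (tone : ∀ W hW, t W hW 1 = 1)
    (tmul : ∀ W hW a b, t W hW (a * b) = t W hW a * t W hW b)
    (tapp : ∀ W hW (b : Γ(Y, W)), t W hW ((π.app W).hom b) = b ^ d) :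
    ∃ g : ∀ U : Y.Opens, Γ(X, π ⁻¹ᵁ U) →* Γ(Y, U),
      (∀ {U V : Y.Opens} (i : V ⟶ U) (s : Γ(X, π ⁻¹ᵁ U)),
        Y.presheaf.map i.op (g U s) = g V (X.presheaf.map ((Opens.map π.base).map i).op s)) ∧
      (∀ (U : Y.Opens) (b : Γ(Y, U)), g U (π.app U b) = b ^ d) ∧
      (∀ (W : Y.Opens) (hW : good W) (a : Γ(X, π ⁻¹ᵁ W)), g W a = t W hW a) := by
  classical
  let M : Y.Modules := (Scheme.Modules.pushforward π).obj (Coh.structureModule X)
  let N : Y.Modules := Coh.structureModule Y
  let t' : ∀ W : Y.Opens, good W → Γ(M, W) → Γ(N, W) := fun W hW a =>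
    (show Γ(Y, W) from t W hW (show Γ(X, π ⁻¹ᵁ W) from a))
  have compat' : ∀ (W W' : Y.Opens) (hW : good W) (hW' : good W') (h : W' ≤ W) (a : Γ(M, W)),
      N.presheaf.map (homOfLE h).op (t' W hW a) = t' W' hW' (M.presheaf.map (homOfLE h).op a) :=
    fun W W' hW hW' h a => compat W W' hW hW' h a
  let g : ∀ (U : Y.Opens), Γ(X, π ⁻¹ᵁ U) → Γ(Y, U) := fun U a =>
    (exists_isGlued (M := M) (N := N) (good := good) (t := t') hbasis compat' U a).choose
  have hg : ∀ U a, IsGlued M N good t' U a (g U a) := fun U a =>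
    (exists_isGlued (M := M) (N := N) (good := good) (t := t') hbasis compat' U a).choose_spec
  have hguniq : ∀ U a (s : Γ(Y, U)), IsGlued M N good t' U a s → s = g U a := fun U a s hs =>
    IsGlued.unique hbasis hs (hg U a)
  have hgres : ∀ (U V : Y.Opens) (h : V ≤ U) (a : Γ(X, π ⁻¹ᵁ U)),
      (Y.presheaf.map (homOfLE h).op).hom (g U a) =
        g V ((X.presheaf.map ((Opens.map π.base).map (homOfLE h)).op).hom a) := by
    intro U V h a
    refine hguniq V _ _ fun W hW hWV => ?_
    have h1 := hg U a W hW (hWV.trans h)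
    have h2 : (Y.presheaf.map (homOfLE hWV).op).hom ((Y.presheaf.map (homOfLE h).op).hom (g U a)) =
        (Y.presheaf.map (homOfLE (hWV.trans h)).op).hom (g U a) := by
      rw [← CommRingCat.comp_apply, ← Functor.map_comp]
      rfl
    have h3 : M.presheaf.map (homOfLE hWV).op (show Γ(M, V) from
        (X.presheaf.map ((Opens.map π.base).map (homOfLE h)).op).hom a) =
        M.presheaf.map (homOfLE (hWV.trans h)).op (show Γ(M, U) from a) := by
      change (X.presheaf.map _).hom ((X.presheaf.map _).hom a) = (X.presheaf.map _).hom a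
      rw [← CommRingCat.comp_apply, ← Functor.map_comp]
      rfl
    refine h2.trans (h1.trans ?_)
    exact congrArg (t' W hW) h3.symm
  have hgone : ∀ U, g U 1 = 1 := by
    intro U
    refine (hguniq U _ _ fun W hW h => ?_).symm
    have h1 : (Y.presheaf.map (homOfLE h).op).hom (1 : Γ(Y, U)) = 1 := map_one _
    have h2 : M.presheaf.map (homOfLE h).op (show Γ(M, U) from (1 : Γ(X, π ⁻¹ᵁ U))) =
        (show Γ(M, W) from (1 : Γ(X, π ⁻¹ᵁ W))) :=
      map_one (X.presheaf.map ((Opens.map π.base).map (homOfLE h)).op).hom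
    refine h1.trans ?_
    refine Eq.trans ?_ (congrArg (t' W hW) h2.symm)
    exact (tone W hW).symm
  have hgmul : ∀ U (a b : Γ(X, π ⁻¹ᵁ U)), g U (a * b) = g U a * g U b := by
    intro U a b
    refine (hguniq U _ _ fun W hW h => ?_).symm
    have h1 : (Y.presheaf.map (homOfLE h).op).hom (g U a * g U b) =
        (Y.presheaf.map (homOfLE h).op).hom (g U a) * (Y.presheaf.map (homOfLE h).op).hom (g U b) :=
      map_mul _ _ _
    have h2 : M.presheaf.map (homOfLE h).op (show Γ(M, U) from a * b) =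
        (show Γ(M, W) from
          (X.presheaf.map ((Opens.map π.base).map (homOfLE h)).op).hom a *
          (X.presheaf.map ((Opens.map π.base).map (homOfLE h)).op).hom b) :=
      map_mul (X.presheaf.map ((Opens.map π.base).map (homOfLE h)).op).hom a b
    refine h1.trans ?_
    refine Eq.trans ?_ (congrArg (t' W hW) h2.symm)
    have h3 := hg U a W hW h
    have h4 := hg U b W hW h
    refine Eq.trans (congrArg₂ (· * ·) h3 h4) ?_
    exact (tmul W hW _ _).symm
  have hgapp : ∀ (U : Y.Opens) (b : Γ(Y, U)), g U ((π.app U).hom b) = b ^ d := by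
    intro U b
    refine (hguniq U _ _ fun W hW h => ?_).symm
    have h1 : M.presheaf.map (homOfLE h).op (show Γ(M, U) from (π.app U).hom b) =
        (show Γ(M, W) from (π.app W).hom ((Y.presheaf.map (homOfLE h).op).hom b)) := by
      have := congr($(π.naturality (homOfLE h).op) b)
      exact this.symm
    refine Eq.trans ?_ (congrArg (t' W hW) h1.symm)
    refine Eq.trans ?_ (tapp W hW _).symm
    change (Y.presheaf.map (homOfLE h).op).hom (b ^ d) = _
    rw [map_pow]
  refine ⟨fun U => ⟨⟨g U, hgone U⟩, hgmul U⟩, ?_, ?_, ?_⟩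
  · intro U V i s
    have hi : i = homOfLE i.le := Subsingleton.elim _ _
    rw [hi]
    exact hgres U V i.le s
  · intro U b
    exact hgapp U b
  · intro W hW a
    have h1 := hg W a W hW le_rfl
    have h2 : N.presheaf.map (homOfLE (le_refl W)).op (g W a) = g W a := by
      change (Y.presheaf.map (homOfLE (le_refl W)).op).hom (g W a) = g W a
      have : (homOfLE (le_refl W)).op = 𝟙 (op W) := Subsingleton.elim _ _
      rw [this, Y.presheaf.map_id]
      rfl
    have h3 : M.presheaf.map (homOfLE (le_refl W)).op (show Γ(M, W) from a) = a := by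
      change (X.presheaf.map ((Opens.map π.base).map (homOfLE (le_refl W))).op).hom a = a
      have : ((Opens.map π.base).map (homOfLE (le_refl W))).op = 𝟙 (op (π ⁻¹ᵁ W)) :=
        Subsingleton.elim _ _
      rw [this, X.presheaf.map_id]
      rfl
    change g W a = t W hW a
    rw [← h2, h1, h3]

end Groth.Agent.Lib.Helper2.NormGlue
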