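import Groth.Agent.Lib.Helper12.StalkExact
import Groth.Prelude.Def_Coh
import Groth.Agent.Lib.Helper7.FinLocFreePullback
import Groth.Prelude.Def_FlatMod2
import Mathlib.Algebra.Category.ModuleCat.Products

/-!
# Global sections on a scheme with a point whose only neighbourhood is the whole space

On such a scheme (e.g. the spectrum of a field) the functor of global sections
`Γ(⊤, -) : Y.Modules ⥤ ModuleCat Γ(Y, ⊤)` is exact.
-/

set_option autoImplicit false
universe u
open CategoryTheory CategoryTheory.Limits AlgebraicGeometry Opposite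

namespace Groth.Agent.Lib.Helper2.OnePoint

open Groth.Agent.Lib.Helper78.ModStalk Groth.Agent.Lib.Helper78.ModStalkExact

variable {Y : Scheme.{u}}

/-- a point whose only open neighbourhood is the whole space -/
def IsOnlyPoint (y : Y) : Prop := ∀ U : Y.Opens, y ∈ U → U = ⊤

theorem germ_surjective (M : Y.Modules) (y : Y) (hy : IsOnlyPoint y)
    (t : M.presheaf.stalk y) : ∃ s : Γ(M, ⊤), M.presheaf.germ ⊤ y trivial s = t := by
  obtain ⟨U, hU, s, rfl⟩ := M.presheaf.exists_germ_eq (x := y) t
  obtain rfl := hy U hU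
  exact ⟨s, rfl⟩

theorem germ_injective (M : Y.Modules) (y : Y) (hy : IsOnlyPoint y) (s t : Γ(M, ⊤))
    (h : M.presheaf.germ ⊤ y trivial s = M.presheaf.germ ⊤ y trivial t) : s = t := by
  obtain ⟨W, hW, iU, iV, e⟩ := M.presheaf.germ_eq (U := ⊤) (V := ⊤) y trivial trivial s t h
  obtain rfl := hy W hW
  have h1 : iU = 𝟙 _ := Subsingleton.elim _ _
  have h2 : iV = 𝟙 _ := Subsingleton.elim _ _
  rw [h1, h2] at e
  simpa using e

/-- global sections as a functor to modules over the ring of global functions -/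
noncomputable def gammaTop (Y : Scheme.{u}) : Y.Modules ⥤ ModuleCat.{u} (Coh.Γtop Y) :=
  SheafOfModules.forget _ ⋙ PresheafOfModules.evaluation _ (op ⊤)

theorem gammaTop_map_apply {M N : Y.Modules} (φ : M ⟶ N) (s : Γ(M, ⊤)) :
    (gammaTop Y).map φ s = φ.app ⊤ s := rfl

instance : (gammaTop Y).Additive where
  map_add {M N φ ψ} := by
    ext s
    change (φ + ψ).app ⊤ s = φ.app ⊤ s + ψ.app ⊤ s
    rw [Scheme.Modules.Hom.add_app]
    rfl

theorem shortExact_map_gammaTop (y : Y) (hy : IsOnlyPoint y) (S : ShortComplex Y.Modules)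
    (hS : S.ShortExact) : (S.map (gammaTop Y)).ShortExact := by
  have h1 := stalk_function_exact S hS y
  have h2 := stalk_injective S hS y
  have h3 := stalk_surjective S hS y
  have hinj : Function.Injective ((gammaTop Y).map S.f) := by
    intro r r' hr
    apply germ_injective S.X₁ y hy
    apply h2
    rw [stalkMap_germ, stalkMap_germ]
    exact congrArg _ hr
  have hsurj : Function.Surjective ((gammaTop Y).map S.g) := by
    intro s
    obtain ⟨t, ht⟩ := h3 (S.X₃.presheaf.germ ⊤ y trivial s)
    obtain ⟨r, rfl⟩ := germ_surjective S.X₂ y hy t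
    rw [stalkMap_germ] at ht
    exact ⟨r, germ_injective S.X₃ y hy _ _ ht⟩
  have hex : (S.map (gammaTop Y)).Exact := by
    rw [ShortComplex.ShortExact.moduleCat_exact_iff_function_exact]
    intro s
    constructor
    · intro hs
      have : stalkMap S.g y (S.X₂.presheaf.germ ⊤ y trivial s) = 0 := by
        rw [stalkMap_germ]
        have : S.g.app ⊤ s = 0 := hs
        rw [this, map_zero]
      obtain ⟨t, ht⟩ := (h1 _).1 this
      obtain ⟨r, rfl⟩ := germ_surjective S.X₁ y hy t
      rw [stalkMap_germ] at ht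
      exact ⟨r, germ_injective S.X₂ y hy _ _ ht⟩
    · rintro ⟨r, rfl⟩
      exact (S.map (gammaTop Y)).moduleCat_zero_apply r
  haveI : Mono (S.map (gammaTop Y)).f := by
    rw [ModuleCat.mono_iff_injective]
    exact hinj
  haveI : Epi (S.map (gammaTop Y)).g := by
    rw [ModuleCat.epi_iff_surjective]
    exact hsurj
  exact ShortComplex.ShortExact.mk hex

theorem exact_props (y : Y) (hy : IsOnlyPoint y) :
    PreservesFiniteLimits (gammaTop Y) ∧ PreservesFiniteColimits (gammaTop Y) :=
  ((Functor.exact_tfae (gammaTop Y)).out 0 3).1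
    (fun S hS => shortExact_map_gammaTop y hy S hS)

end Groth.Agent.Lib.Helper2.OnePoint

namespace Groth.Agent.Lib.Helper2.OnePoint

variable {Y : Scheme.{u}}

theorem isOnlyPoint_of_subsingleton [Subsingleton Y] (y : Y) : IsOnlyPoint y := by
  intro U hU
  ext z
  simp only [TopologicalSpace.Opens.coe_top, Set.mem_univ, iff_true]
  rw [Subsingleton.elim z y]
  exact hU

/-- sections of the structure sheaf -/
theorem gammaTop_unit : (gammaTop Y).obj (Coh.structureModule Y) =
    ModuleCat.of (Coh.Γtop Y) (Coh.Γtop Y) := rfl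

/-- rank of global sections of a free module -/
theorem finrank_gammaTop_freeMod (hF : IsField (Coh.Γtop Y))
    [PreservesFiniteColimits (gammaTop Y)] (n : ℕ) :
    Module.finrank (Coh.Γtop Y) ((gammaTop Y).obj (FlatMod.freeMod Y n)) = n := by
  have e1 : (gammaTop Y).obj (FlatMod.freeMod Y n) ≅
      ∐ fun _ : Fin n => ModuleCat.of (Coh.Γtop Y) (Coh.Γtop Y) :=
    PreservesCoproduct.iso (gammaTop Y) (fun _ : Fin n => Coh.structureModule Y)
  have e2 := ModuleCat.coprodIsoDirectSum (fun _ : Fin n => ModuleCat.of (Coh.Γtop Y) (Coh.Γtop Y))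
  rw [LinearEquiv.finrank_eq (e1 ≪≫ e2).toLinearEquiv]
  change Module.finrank (Coh.Γtop Y) (DirectSum (Fin n) fun _ => Coh.Γtop Y) = n
  rw [LinearEquiv.finrank_eq (DirectSum.linearEquivFunOnFintype (Coh.Γtop Y) (Fin n)
    (fun _ => Coh.Γtop Y))]
  letI := hF.toField
  exact (Module.finrank_pi (Coh.Γtop Y)).trans (Fintype.card_fin n)

end Groth.Agent.Lib.Helper2.OnePoint

namespace Groth.Agent.Lib.Helper2.OnePoint

section SpecField

variable (K : CommRingCat.{u})

theorem subsingleton_spec (h : IsField K) : Subsingleton ↥(Spec K) := by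
  letI := h.toField
  exact (inferInstance : Subsingleton (PrimeSpectrum K))

theorem isField_gammaTop_spec (h : IsField K) : IsField (Coh.Γtop (Spec K)) :=
  MulEquiv.isField h (Scheme.ΓSpecIso K).commRingCatIsoToRingEquiv.toMulEquiv

end SpecField

section Free

variable {V Y : Scheme.{u}}

/-- the pullback of a module which is free near the image is free -/
noncomputable def pullbackFreeOfRestrict (y' : Y ⟶ V) (M : V.Modules) (U : V.Opens) (n : ℕ)
    (e : M.restrict U.ι ≅ FlatMod.freeMod (↑U) n) (y'' : Y ⟶ U) (h : y'' ≫ U.ι = y') :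
    (Scheme.Modules.pullback y').obj M ≅ FlatMod.freeMod Y n :=
  (Scheme.Modules.pullbackCongr h.symm).app M ≪≫
    ((Scheme.Modules.pullbackComp y'' U.ι).app M).symm ≪≫
    (Scheme.Modules.pullback y'').mapIso
      (((Scheme.Modules.restrictFunctorIsoPullback U.ι).app M).symm ≪≫ e) ≪≫
    Groth.Agent.Lib.Helper7.FinLocFree.pullbackFreeModIso y'' n

end Free

end Groth.Agent.Lib.Helper2.OnePoint
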