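import Groth.Agent.Lib.Helper2.LpullQCoh
import Groth.Agent.Lib.Helper2.LpullPC
import Groth.Agent.Lib.Helper43.PCDescent
import Groth.Agent.Lib.Helper25.LTenCompute
import Groth.Agent.S1004
import Groth.Agent.S0997

/-!
# Descent of `m`-pseudo-coherence on `D_QCoh` along flat surjective quasi-compact morphisms
-/

set_option autoImplicit false
universe u
open CategoryTheory CategoryTheory.Limits AlgebraicGeometry TensorProduct
attribute [local instance] HasDerivedCategory.standard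

namespace Groth.Agent.Lib.Helper2.PCDescSch

open Groth.Agent.Lib.Helper2.DCohBase Groth.Agent.Lib.Helper2.Lpull
open Groth.Agent.Lib.Helper2.DCohPC Groth.Agent.Lib.Helper2.DCohPerf
open Groth.Agent.Lib.Helper12

/-- (D1) statement -/
def D1Stmt : Prop :=
  ∀ {A : Type u} [CommRing A] {T : Type u}
    (B : T → Type u) [∀ t, CommRing (B t)] [∀ t, Algebra A (B t)] [∀ t, Module.Flat A (B t)]
    (_ : ∀ p : PrimeSpectrum A, ∃ (t : T) (q : PrimeSpectrum (B t)),
      PrimeSpectrum.comap (algebraMap A (B t)) q = p)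
    (M : Type u) [AddCommGroup M] [Module A M] (_ : ∀ t, Subsingleton (B t ⊗[A] M)),
    Subsingleton M

/-- (D2) statement -/
def D2Stmt : Prop :=
  ∀ {A : Type u} [CommRing A] {T : Type u} [Finite T]
    (B : T → Type u) [∀ t, CommRing (B t)] [∀ t, Algebra A (B t)] [∀ t, Module.Flat A (B t)]
    (_ : ∀ p : PrimeSpectrum A, ∃ (t : T) (q : PrimeSpectrum (B t)),
      PrimeSpectrum.comap (algebraMap A (B t)) q = p)
    (M : Type u) [AddCommGroup M] [Module A M] (_ : ∀ t, Module.Finite (B t) (B t ⊗[A] M)),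
    Module.Finite A M

section Ring

open DerivedCategory Groth.Agent.Lib.Helper43 Groth.Agent.Lib.Helper84 Groth.Agent.Lib.Helper15
  Groth.Agent.Lib.Helper84.FlatBC

/-- ring-level descent of `m`-pseudo-coherence along a finite jointly surjective flat family -/
theorem isPseudoCoherent_of_flat_family (d1 : D1Stmt.{u}) (d2 : D2Stmt.{u})
    {A : Type u} [CommRing A] {T : Type u} [Finite T]
    (B : T → Type u) [∀ t, CommRing (B t)] (φ : ∀ t, A →+* B t) (hflat : ∀ t, (φ t).Flat)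
    (hsurj : ∀ p : PrimeSpectrum A, ∃ (t : T) (q : PrimeSpectrum (B t)),
      PrimeSpectrum.comap (φ t) q = p)
    (M : Dual.D A) (m : ℤ)
    (h : ∀ t, DRing.IsPseudoCoherent (B t) m ((DRing.LBaseChange (φ t)).obj M)) :
    DRing.IsPseudoCoherent A m M := by
  letI : ∀ t, Algebra A (B t) := fun t => (φ t).toAlgebra
  haveI : ∀ t, Module.Flat A (B t) := fun t => hflat t
  haveI : ∀ t, PreservesFiniteLimits (ext (φ t)) := fun t => preservesFiniteLimits_ext (φ t) (hflat t)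
  obtain ⟨P, hP, -, ⟨e⟩⟩ := Groth.Agent.Lib.Helper25.LTenCompute.exists_kproj_kflat M
  haveI := hP
  refine PseudoCoh.of_iso e ?_
  have hK : ∀ t, DRing.IsPseudoCoherent (B t) m (DRing.toD ((extCx (φ t)).obj P)) := fun t =>
    PseudoCoh.of_iso ((DRing.LBaseChange (φ t)).mapIso e.symm ≪≫ LDerived.lbcIso (φ t) P) (h t)
  -- uniform bound
  have hb : ∀ t, ∃ n : ℤ, (DRing.toD ((extCx (φ t)).obj P)).IsLE n := fun t =>
    PseudoCoh.isLE_of_isPseudoCoherent (hK t)
  choose nn hnn using hb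
  obtain ⟨n, hn⟩ : ∃ n : ℤ, ∀ t, nn t ≤ n := by
    obtain ⟨n, hn⟩ := (Set.finite_range nn).bddAbove
    exact ⟨n, fun t => hn ⟨t, rfl⟩⟩
  refine PCDescent.descent B φ ?_ ?_ P m n ?_ hK
  · intro N hN
    have h1 : ∀ t, Subsingleton (B t ⊗[A] N) := fun t => ModuleCat.subsingleton_of_isZero (hN t)
    haveI := d1 B hsurj N h1
    exact ModuleCat.isZero_of_subsingleton N
  · intro N hN
    exact d2 B hsurj N (fun t => hN t)
  · intro t i hi
    haveI := hnn t
    exact isZero_of_isLE _ (nn t) i (lt_of_le_of_lt (hn t) hi)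

end Ring

section Sch

variable {X U : Scheme.{u}}

/-- restriction to an open is `Lj^*` -/
theorem nonempty_resD_iso_lpull (j : U ⟶ X) [IsOpenImmersion j] [DCoh.HasLpull j] (K : DCoh.D X) :
    Nonempty ((resD j).obj K ≅ (DCoh.Lpull j).obj K) := by
  obtain ⟨P, hP, ⟨e⟩⟩ := exists_kflat_rep K
  exact ⟨(resD j).mapIso e.symm ≪≫ resDQ j P ≪≫ DerivedCategory.Q.mapIso ((resCxIsoPbCx j).app P) ≪≫
    (lpIso j P hP).symm ≪≫ (DCoh.Lpull j).mapIso e⟩

theorem isPseudoCoherentD_of_iso {m : ℤ} {K L : DCoh.D X} (e : K ≅ L)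
    (h : DCoh.IsPseudoCoherentD m K) : DCoh.IsPseudoCoherentD m L := by
  rw [isPseudoCoherentD_iff] at h ⊢
  exact fun x => pcAt_of_iso e (h x)

/-- restriction to an open preserves `m`-pseudo-coherence -/
theorem isPseudoCoherentD_resD (j : U ⟶ X) [IsOpenImmersion j] {m : ℤ} (K : DCoh.D X)
    (h : DCoh.IsPseudoCoherentD m K) : DCoh.IsPseudoCoherentD m ((resD j).obj K) := by
  haveI : DCoh.HasLpull j := hasLpull j
  obtain ⟨e⟩ := nonempty_resD_iso_lpull j K
  exact isPseudoCoherentD_of_iso e.symm (isPseudoCoherentD_lpull j m K h)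

end Sch

section Desc

open Groth.Agent.Lib.Helper2.LpullQCoh

/-- descent of `m`-pseudo-coherence on `D_QCoh` along a flat surjective quasi-compact morphism -/
theorem isPseudoCoherentD_of_lpull (d1 : D1Stmt.{u}) (d2 : D2Stmt.{u})
    {X' X : Scheme.{u}} (f : X' ⟶ X) [Flat f] [Surjective f] [QuasiCompact f] [DCoh.HasLpull f]
    (E : DCoh.D X) (hE : DCoh.IsQCohD E) (m : ℤ)
    (h : DCoh.IsPseudoCoherentD m ((DCoh.Lpull f).obj E)) : DCoh.IsPseudoCoherentD m E := by
  rw [isPseudoCoherentD_iff]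
  intro x
  obtain ⟨_, ⟨U, hU : IsAffineOpen U, rfl⟩, hxU, -⟩ :=
    X.isBasis_affineOpens.exists_subset_of_mem_open (Set.mem_univ x) isOpen_univ
  let jU : Spec (CommRingCat.of (Γ(X, U) : Type u)) ⟶ X := hU.fromSpec
  haveI : IsOpenImmersion jU := inferInstanceAs (IsOpenImmersion hU.fromSpec)
  have hrange : Set.range jU = (U : Set X) := hU.range_fromSpec
  have hx' : x ∈ Set.range jU := by
    rw [hrange]; exact hxU
  obtain ⟨y, rfl⟩ := hx'
  apply pcAt_of_resD jU E y
  have hEU : DCoh.IsQCohD ((resD jU).obj E) := RGZ.isQCohD_restrictD jU E hE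
  obtain ⟨M, ⟨eM⟩⟩ :=
    ((Groth.Agent.S0997.result (CommRingCat.of (Γ(X, U) : Type u))).2.2 _).1 hEU
  -- suffices: `M` is `m`-pseudo-coherent
  suffices hM : DRing.IsPseudoCoherent (Γ(X, U) : Type u) m M by
    have h1 : DCoh.IsPseudoCoherentD m
        ((DCoh.tildeD (CommRingCat.of (Γ(X, U) : Type u))).obj M) :=
      (Groth.Agent.S1004.result (Γ(X, U) : Type u) M m).2 hM
    exact (isPseudoCoherentD_iff m _).1 (isPseudoCoherentD_of_iso eM h1) y
  -- the finite affine cover of `f⁻¹ U`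
  obtain ⟨s, hs, hsU⟩ := (isCompact_iff_finite_and_eq_biUnion_affineOpens (U := f ⁻¹ᵁ U)).1
    (f.isCompact_preimage hU.isCompact)
  haveI : Finite ↥s := hs
  have hle : ∀ V : ↥s, (V.1 : X'.Opens) ≤ f ⁻¹ᵁ U := fun V => by
    rw [hsU]
    exact le_iSup₂ (f := fun (i : X'.affineOpens) (_ : i ∈ s) => (i : X'.Opens)) V.1 V.2
  refine isPseudoCoherent_of_flat_family d1 d2 (T := ↥s)
    (fun V => (Γ(X', (V.1 : X'.Opens)) : Type u))
    (fun V => (f.appLE U V.1 (hle V)).hom) (fun V => f.flat_appLE hU V.1.2 (hle V)) ?_ M m ?_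
  · -- joint surjectivity on spectra
    intro p
    obtain ⟨x', hx'⟩ := f.surjective (jU p)
    have hx'U : x' ∈ f ⁻¹ᵁ U := by
      show f x' ∈ (U : Set X)
      rw [hx', ← hrange]
      exact ⟨p, rfl⟩
    rw [hsU] at hx'U
    simp only [TopologicalSpace.Opens.mem_iSup] at hx'U
    obtain ⟨V, hVs, hx'V⟩ := hx'U
    let jV : Spec (CommRingCat.of (Γ(X', (V : X'.Opens)) : Type u)) ⟶ X' := V.2.fromSpec
    have hrV : Set.range jV = ((V : X'.Opens) : Set X') := V.2.range_fromSpec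
    have hx'r : x' ∈ Set.range jV := by rw [hrV]; exact hx'V
    obtain ⟨q, rfl⟩ := hx'r
    refine ⟨⟨V, hVs⟩, q, ?_⟩
    have w : jV ≫ f = Spec.map (CommRingCat.ofHom (f.appLE U V (hle ⟨V, hVs⟩)).hom) ≫ jU :=
      (IsAffineOpen.SpecMap_appLE_fromSpec f hU V.2 (hle ⟨V, hVs⟩)).symm
    apply jU.isOpenEmbedding.injective
    have h2 := congrArg (fun g => g q) w
    simp only [Scheme.Hom.comp_apply] at h2
    rw [← hx', h2]
    rfl
  · intro V
    let φ : (Γ(X, U) : Type u) →+* (Γ(X', (V.1 : X'.Opens)) : Type u) := (f.appLE U V.1 (hle V)).hom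
    let jV : Spec (CommRingCat.of (Γ(X', (V.1 : X'.Opens)) : Type u)) ⟶ X' := V.1.2.fromSpec
    haveI : IsOpenImmersion jV := inferInstanceAs (IsOpenImmersion V.1.2.fromSpec)
    have w : jV ≫ f = Spec.map (CommRingCat.ofHom φ) ≫ jU :=
      (IsAffineOpen.SpecMap_appLE_fromSpec f hU V.1.2 (hle V)).symm
    haveI : DCoh.HasLpull (Spec.map (CommRingCat.ofHom φ)) := hasLpull _
    obtain ⟨e1⟩ := nonempty_resD_lpull_iso f jU jV (Spec.map (CommRingCat.ofHom φ)) w E
    obtain ⟨e2⟩ := Groth.Agent.S1055.result φ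
    have h1 : DCoh.IsPseudoCoherentD m ((resD jV).obj ((DCoh.Lpull f).obj E)) :=
      isPseudoCoherentD_resD jV _ h
    have h2 : DCoh.IsPseudoCoherentD m
        ((DCoh.tildeD (CommRingCat.of (Γ(X', (V.1 : X'.Opens)) : Type u))).obj
          ((DRing.LBaseChange φ).obj M)) :=
      isPseudoCoherentD_of_iso (e1 ≪≫ (DCoh.Lpull (Spec.map (CommRingCat.ofHom φ))).mapIso eM.symm ≪≫
        (e2.app M).symm) h1
    exact (Groth.Agent.S1004.result (Γ(X', (V.1 : X'.Opens)) : Type u) _ m).1 h2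

end Desc

end Groth.Agent.Lib.Helper2.PCDescSch
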