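import Groth.Agent.Lib.Helper2.DCohTorAmp
import Groth.Prelude.Def_KSix

set_option autoImplicit false
universe u
open CategoryTheory Limits AlgebraicGeometry HomologicalComplex
attribute [local instance] HasDerivedCategory.standard

namespace Groth.Agent.Lib.Helper2.PerfAmp

open Scheme.Modules Groth.Agent.Lib.Helper2.DCohFlat
open Groth.Agent.Lib.Helper2.DCohBase Groth.Agent.Lib.Helper2.DCohHom
open Groth.Agent.Lib.Helper2.DCohCoh Groth.Agent.Lib.Helper2.DCohOpens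
open Groth.Agent.Lib.Helper2.DCohPC Groth.Agent.Lib.Helper2.DCohPerf
open Groth.Agent.Lib.Helper2.DCohLift Groth.Agent.Lib.Helper2.DCohFP
open Groth.Agent.Lib.Helper2.DCohTorAmp

variable {X : Scheme.{u}}

/-- `K` has perfect amplitude in `[m, n]` near `x` -/
def PerfAmpAt (m n : ℤ) (K : DCoh.D X) (x : X) : Prop :=
  ∃ (U : Scheme.{u}) (j : U ⟶ X) (_ : IsOpenImmersion j), x ∈ Set.range j ∧
    ∃ E : CochainComplex U.Modules ℤ, DCoh.VanishesOutside E m n ∧
      (∀ i : ℤ, FlatMod.IsFinLocFree (E.X i)) ∧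
      Nonempty ((resD j).obj K ≅ DerivedCategory.Q.obj E)

theorem hasPerfectAmplitudeIn_iff (m n : ℤ) (K : DCoh.D X) :
    KSix.HasPerfectAmplitudeIn m n K ↔ ∀ x, PerfAmpAt m n K x := by
  constructor
  · intro hK x
    obtain ⟨V, hxV, hV⟩ := hK x
    obtain ⟨F₀, ⟨e₀⟩⟩ := exists_rep K
    obtain ⟨E, hE, hEf, ⟨ε⟩⟩ := hV F₀ ⟨e₀⟩
    refine ⟨V, V.ι, inferInstance, by simpa using hxV, E, hE, hEf, ⟨?_⟩⟩
    exact (resD V.ι).mapIso e₀.symm ≪≫ resDQ V.ι F₀ ≪≫ ε
  · intro h x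
    obtain ⟨U, j, hj, hx, E, hE, hEf, ⟨e⟩⟩ := h x
    haveI := hj
    refine ⟨j.opensRange, hx, fun F ⟨e'⟩ => ?_⟩
    let ε : DerivedCategory.Q.obj ((resCx j).obj F) ≅ DerivedCategory.Q.obj E :=
      (resDQ j F).symm ≪≫ (resD j).mapIso e' ≪≫ e
    refine ⟨(resCx j.isoOpensRange.inv).obj E, ?_, ?_, ⟨packIso j ε⟩⟩
    · intro i hi
      exact (restrictFunctor j.isoOpensRange.inv).map_isZero (hE i hi)
    · intro i
      exact isFinLocFree_restrict j.isoOpensRange.inv _ (hEf i)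


section Trunc

variable {U : Scheme.{u}}

theorem truncLE_props (A : CochainComplex U.Modules ℤ) (hAfl : ∀ i, FlatMod.IsFinLocFree (A.X i))
    (a b : ℤ) (hab : a ≤ b) (hlow : ∀ i : ℤ, i < a → IsZero (A.X i))
    (hAz : ∀ i : ℤ, b < i → IsZero (A.homology i))
    (p' : A.X b ⟶ A.cycles b) (hp : A.iCycles b ≫ p' = 𝟙 _) :
    DCoh.VanishesOutside (A.truncLE b) a b ∧
      (∀ i : ℤ, FlatMod.IsFinLocFree ((A.truncLE b).X i)) ∧
      Nonempty (DerivedCategory.Q.obj A ≅ DerivedCategory.Q.obj (A.truncLE b)) := by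
  refine ⟨?_, ?_, ?_⟩
  · intro i hi
    rcases hi with hi | hi
    · exact IsZero.of_iso (hlow i hi) (A.truncLEXIso b i (by omega))
    · exact (A.truncLE b).isZero_of_isStrictlyLE b i hi
  · intro i
    rcases lt_trichotomy i b with hi | hi | hi
    · exact Groth.Agent.Lib.Helper7.FinLocFree.isFinLocFree_of_iso (A.truncLEXIso b i hi).symm
        (hAfl i)
    · rw [hi]
      exact Groth.Agent.Lib.Helper7.FinLocFree.isFinLocFree_of_iso (A.truncLEXIsoCycles b).symm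
        (Groth.Agent.Lib.Helper2.DCohSummand.isFinLocFree_of_retract (A.iCycles b) p' hp (hAfl b))
    · exact isFinLocFree_of_isZero ((A.truncLE b).isZero_of_isStrictlyLE b i hi)
  · haveI : A.IsLE b := by
      rw [CochainComplex.isLE_iff]
      intro i hi
      rw [HomologicalComplex.exactAt_iff_isZero_homology]
      exact hAz i hi
    haveI : QuasiIso (A.ιTruncLE b) := (CochainComplex.quasiIso_ιTruncLE_iff A b).2 inferInstance
    exact ⟨(asIso (DerivedCategory.Q.map (A.ιTruncLE b))).symm⟩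

/-- locally, a strictly perfect complex without cohomology above `b` can be truncated above `b` -/
theorem exists_truncLE_locally (E' : CochainComplex U.Modules ℤ) (hE' : DCoh.IsStrictlyPerfect E')
    (a b : ℤ) (hab : a ≤ b) (hlow : ∀ i : ℤ, i < a → IsZero (E'.X i))
    (hz : ∀ i : ℤ, b < i → IsZero (E'.homology i)) (y : U) :
    ∃ W : U.Opens, y ∈ W ∧ ∃ E'' : CochainComplex (W : Scheme.{u}).Modules ℤ,
      DCoh.VanishesOutside E'' a b ∧ (∀ i : ℤ, FlatMod.IsFinLocFree (E''.X i)) ∧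
      Nonempty (DerivedCategory.Q.obj ((DCoh.restrictCx W).obj E') ≅ DerivedCategory.Q.obj E'') := by
  obtain ⟨W, hyW, p', hp⟩ := exists_retract_cycles E' hE' b hz y
  obtain ⟨h1, h2, h3⟩ := truncLE_props ((DCoh.restrictCx W).obj E')
    (fun i => isFinLocFree_restrict W.ι _ (hE'.2 i)) a b hab
    (fun i hi => (restrictFunctor W.ι).map_isZero (hlow i hi))
    (fun i hi => isZero_homology_resCx W.ι E' i (hz i hi)) p' hp
  exact ⟨W, hyW, _, h1, h2, h3⟩

end Trunc


section Main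

variable {U : Scheme.{u}}

/-- `exists_strictlyPerfect_of_chain` with the lower bound and the vanishing of the cohomology
above `b` recorded -/
theorem exists_strictlyPerfect_of_chain' (P G : CochainComplex U.Modules ℤ) (f : P ⟶ G) (a b : ℤ)
    (hG0 : DCoh.VanishesOutside G a b) (hGfl : ∀ i, FlatMod.IsFlat (G.X i))
    (hf : IsPC (a - 1) P (DerivedCategory.Q.map f)) :
    ∃ E' : CochainComplex U.Modules ℤ, DCoh.IsStrictlyPerfect E' ∧
      (∀ i : ℤ, i < a → IsZero (E'.X i)) ∧ (∀ i : ℤ, b < i → IsZero (E'.homology i)) ∧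
      Nonempty (DerivedCategory.Q.obj G ≅ DerivedCategory.Q.obj E') := by
  obtain ⟨hPsp, hiso, hepi⟩ := hf
  obtain ⟨⟨a', b', hP0⟩, hPfl⟩ := hPsp
  let T₁ := DerivedCategory.Q.mapTriangle.obj (CochainComplex.mappingCone.triangle f)
  have hT₁ : T₁ ∈ distTriang _ := DerivedCategory.mappingCone_triangle_distinguished f
  have hex : ∀ i : ℤ, a - 1 ≤ i → IsZero ((CochainComplex.mappingCone f).homology i) := by
    intro i hi
    have h1 : IsZero ((DerivedCategory.homologyFunctor U.Modules i).obj T₁.obj₃) :=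
      isZero_homology_cone (K := DerivedCategory.Q.obj G) (E := P) (α := DerivedCategory.Q.map f)
        ⟨⟨⟨a', b', hP0⟩, hPfl⟩, hiso, hepi⟩ T₁.obj₃ T₁.mor₂ T₁.mor₃ hT₁ i hi
    exact IsZero.of_iso h1
      ((DerivedCategory.homologyFunctorFactors U.Modules i).app (CochainComplex.mappingCone f)).symm
  have hflat : FlatMod.IsFlat (P.opcycles a) :=
    isFlat_opcycles_of_cone f a (max b b') (fun i => isFlat_of_isFinLocFree _ (hPfl i)) hGfl
      (fun i hi => hP0 i (Or.inr (by omega))) (fun i hi => hG0 i (Or.inr (by omega)))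
      (hG0 _ (Or.inl (by omega))) (hG0 _ (Or.inl (by omega))) hex
  have hlf : FlatMod.IsFinLocFree (P.opcycles a) :=
    isFinLocFree_opcycles P ⟨⟨a', b', hP0⟩, hPfl⟩ a hflat
  haveI : G.IsStrictlyGE a :=
    (CochainComplex.isStrictlyGE_iff G a).2 (fun i hi => hG0 i (Or.inl hi))
  haveI : QuasiIso (CochainComplex.truncGEMap f a) :=
    (CochainComplex.quasiIso_truncGEMap_iff f a).2 (fun i hi => by
      rw [quasiIsoAt_iff_isIso_homologyMap]
      exact isIso_homologyMap_of_Q f i (hiso i (by omega)))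
  have eiso : DerivedCategory.Q.obj G ≅ DerivedCategory.Q.obj (P.truncGE a) :=
    DerivedCategory.Q.mapIso (asIso (G.πTruncGE a)) ≪≫
      (asIso (DerivedCategory.Q.map (CochainComplex.truncGEMap f a))).symm
  refine ⟨P.truncGE a, ⟨⟨a, max a b', ?_⟩, ?_⟩, ?_, ?_, ⟨eiso⟩⟩
  · intro i hi
    rcases hi with hi | hi
    · exact (P.truncGE a).isZero_of_isStrictlyGE a i hi
    · exact IsZero.of_iso (hP0 i (Or.inr (by omega))) (P.truncGEXIso a i (by omega))
  · intro i
    rcases lt_trichotomy i a with hi | hi | hi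
    · exact isFinLocFree_of_isZero ((P.truncGE a).isZero_of_isStrictlyGE a i hi)
    · subst hi
      exact Groth.Agent.Lib.Helper7.FinLocFree.isFinLocFree_of_iso (P.truncGEXIsoOpcycles i).symm hlf
    · exact Groth.Agent.Lib.Helper7.FinLocFree.isFinLocFree_of_iso (P.truncGEXIso a i hi).symm
        (hPfl i)
  · intro i hi
    exact (P.truncGE a).isZero_of_isStrictlyGE a i hi
  · intro i hi
    have h1 : IsZero (G.homology i) :=
      ShortComplex.isZero_homology_of_isZero_X₂ _ (hG0 i (Or.inr hi))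
    have e1 : (P.truncGE a).homology i ≅ G.homology i :=
      ((DerivedCategory.homologyFunctorFactors U.Modules i).app _).symm ≪≫
        (DerivedCategory.homologyFunctor U.Modules i).mapIso eiso.symm ≪≫
        (DerivedCategory.homologyFunctorFactors U.Modules i).app _
    exact h1.of_iso e1


/-- the local statement: flat amplitude in `[a, b]` and `(a - 1)`-pseudo-coherence near `y` imply
perfect amplitude in `[a, b]` near `y` -/
theorem perfAmpAt_of_flat_of_pcAt (K : DCoh.D U) (G : CochainComplex U.Modules ℤ) (a b : ℤ)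
    (hab : a ≤ b) (hG0 : DCoh.VanishesOutside G a b) (hGfl : ∀ i, FlatMod.IsFlat (G.X i))
    (e : DerivedCategory.Q.obj G ≅ K) (y : U) (hpc : PCAt (a - 1) K y) : PerfAmpAt a b K y := by
  obtain ⟨U₁, j₁, hj₁, ⟨y₁, hy₁⟩, hd⟩ := hpc
  haveI := hj₁
  let G₁ := (resCx j₁).obj G
  let ε₁ : (resD j₁).obj K ≅ DerivedCategory.Q.obj G₁ := (resD j₁).mapIso e.symm ≪≫ resDQ j₁ G
  obtain ⟨P, α, hP, hiso, hepi⟩ := hd.of_iso ε₁
  obtain ⟨U₂, j₂, hj₂, ⟨y₂, hy₂⟩, f, hf⟩ := exists_rep_locally P G₁ hP α y₁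
  haveI := hj₂
  let P₂ := (resCx j₂).obj P
  let G₂ := (resCx j₂).obj G₁
  have hα₂ : IsPC (a - 1) P₂ ((resFac j₂).inv.app P ≫ (resD j₂).map α) :=
    IsPC.restrict ⟨hP, hiso, hepi⟩ j₂
  have hQf : DerivedCategory.Q.map f =
      ((resFac j₂).inv.app P ≫ (resD j₂).map α) ≫ (resFac j₂).hom.app G₁ := by
    rw [hf]
    simp
  have hPC : IsPC (a - 1) P₂ (DerivedCategory.Q.map f) := by
    rw [hQf]
    obtain ⟨h1, h2, h3⟩ := hα₂
    refine ⟨h1, fun i hi => ?_, ?_⟩
    · rw [Functor.map_comp]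
      haveI := h2 i hi
      infer_instance
    · rw [Functor.map_comp]
      infer_instance
  have hG₂0 : DCoh.VanishesOutside G₂ a b := fun i hi =>
    (restrictFunctor j₂).map_isZero ((restrictFunctor j₁).map_isZero (hG0 i hi))
  have hG₂fl : ∀ i, FlatMod.IsFlat (G₂.X i) := fun i =>
    isFlat_restrict j₂ _ (isFlat_restrict j₁ _ (hGfl i))
  obtain ⟨E', hE', hlow, hz, ⟨ε⟩⟩ := exists_strictlyPerfect_of_chain' P₂ G₂ f a b hG₂0 hG₂fl hPC
  obtain ⟨W, hyW, E'', hE''0, hE''fl, ⟨ε''⟩⟩ := exists_truncLE_locally E' hE' a b hab hlow hz y₂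
  have ε₂ : (resD (j₂ ≫ j₁)).obj K ≅ DerivedCategory.Q.obj E' :=
    resDComp j₁ j₂ K ≪≫ (resD j₂).mapIso ε₁ ≪≫ resDQ j₂ G₁ ≪≫ ε
  refine ⟨W, W.ι ≫ (j₂ ≫ j₁), inferInstance, ⟨⟨y₂, hyW⟩, ?_⟩, E'', hE''0, hE''fl, ⟨?_⟩⟩
  · rw [Scheme.Hom.comp_apply, Scheme.Hom.comp_apply]
    change j₁.base (j₂.base y₂) = y
    rw [hy₂, hy₁]
  · exact resDComp (j₂ ≫ j₁) W.ι K ≪≫ (resD W.ι).mapIso ε₂ ≪≫ resDQ W.ι E' ≪≫ ε''

end Main

end Groth.Agent.Lib.Helper2.PerfAmp
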