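import Groth.Agent.Lib.Helper2.PerfClosedImm
import Groth.Agent.Lib.Helper43.KoszulPerf

set_option autoImplicit false
universe u
open CategoryTheory Limits AlgebraicGeometry TopologicalSpace Opposite
attribute [local instance] HasDerivedCategory.standard

namespace Groth.Agent.Lib.Helper2.PerfClosedImm

variable {Z X : Scheme.{u}} (i : Z ⟶ X) {V : X.Opens} (hV : IsAffineOpen V)

/-- chart criterion: if `Γ(Z, i⁻¹V)` is a perfect `Γ(X, V)`-module then `i_* O_Z` is perfect near
every point of the affine open `V` (any qcqs `i`). -/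
theorem perfAt_pushO_of_chart [QuasiCompact i] [QuasiSeparated i]
    [alg : Algebra Γ(X, V) Γ(Z, i ⁻¹ᵁ V)]
    (halg : algebraMap Γ(X, V) Γ(Z, i ⁻¹ᵁ V) = (i.appLE V (i ⁻¹ᵁ V) le_rfl).hom)
    (hP : DRing.IsPerfect Γ(X, V) (Dual.inD Γ(X, V) Γ(Z, i ⁻¹ᵁ V)))
    (y : Spec Γ(X, V)) :
    DCohPerf.PerfAt (DCoh.inD X (pushO i)) (hV.fromSpec y) := by
  have hT := Groth.Agent.Lib.Helper15.TildePerf.isPerfect_tildeD Γ(X, V) _ hP
  apply DCohPerf.perfAt_of_resD
  haveI hqc : (chartMod i hV).IsQuasicoherent := inferInstance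
  let φ := Scheme.Modules.fromTildeΓ (R := Γ(X, V)) (chartMod i hV)
  have hφ : IsIso φ :=
    Scheme.Modules.isIso_fromTildeΓ_of_isQuasicoherent (R := Γ(X, V)) (chartMod i hV)
  let eφ : (tilde.functor Γ(X, V)).obj (chartΓ i hV) ≅ chartMod i hV := @asIso _ _ _ _ φ hφ
  refine DCohPerf.perfAt_of_iso ?_ ((DCohPerf.isPerfect_iff _).1 hT y)
  exact ((tilde.functor Γ(X, V)).mapDerivedCategorySingleFunctor 0).app _ ≪≫
    (DerivedCategory.singleFunctor _ 0).mapIso
      ((tilde.functor Γ(X, V)).mapIso (chartΓIso i hV halg).symm ≪≫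
        eφ) ≪≫
    (DCohSingle.resDInD hV.fromSpec (pushO i)).symm

open ZeroObject in
/-- the zero module is perfect -/
theorem isPerfect_inD_of_subsingleton (A M : Type u) [CommRing A] [AddCommGroup M] [Module A M]
    [Subsingleton M] : DRing.IsPerfect A (Dual.inD A M) := by
  have h0 : IsZero (ModuleCat.of A M) := ModuleCat.isZero_of_subsingleton _
  have h1 : IsZero (Dual.inD A M) := Functor.map_isZero _ h0
  have h2 : IsZero (DRing.toD (0 : DRing.Cx A)) := Functor.map_isZero _ (isZero_zero _)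
  refine ⟨0, 0, 0, fun j _ => ?_, fun j => ⟨?_, ?_⟩, ⟨h2.iso h1⟩⟩
  · exact (HomologicalComplex.eval _ _ j).map_isZero (isZero_zero _)
  · haveI : Subsingleton ((0 : DRing.Cx A).X j) :=
      ModuleCat.subsingleton_of_isZero ((HomologicalComplex.eval _ _ j).map_isZero (isZero_zero _))
    infer_instance
  · haveI : Subsingleton ((0 : DRing.Cx A).X j) :=
      ModuleCat.subsingleton_of_isZero ((HomologicalComplex.eval _ _ j).map_isZero (isZero_zero _))
    infer_instance

/-- quotient by a Koszul-regular sequence is a perfect module -/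
theorem isPerfect_of_koszul {A B : Type u} [CommRing A] [CommRing B] [Algebra A B]
    (hs : Function.Surjective (algebraMap A B)) (rs : List A) (hrs : LCI.IsKoszulRegularSeq A rs)
    (hk : RingHom.ker (algebraMap A B) = Ideal.ofList rs) :
    DRing.IsPerfect A (Dual.inD A B) := by
  obtain ⟨e⟩ := Groth.Agent.Lib.Helper43.KoszulPerf.inD_iso_koszul rs hrs
  have hs' : Function.Surjective (Algebra.ofId A B) := hs
  have hk' : Ideal.ofList rs = RingHom.ker (Algebra.ofId A B) := hk.symm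
  let e1 : (A ⧸ Ideal.ofList rs) ≃ₗ[A] (A ⧸ RingHom.ker (Algebra.ofId A B)) :=
    Submodule.quotEquivOfEq _ _ hk'
  let e2 : (A ⧸ RingHom.ker (Algebra.ofId A B)) ≃ₗ[A] B :=
    (Ideal.quotientKerAlgEquivOfSurjective hs').toLinearEquiv
  refine ⟨Koszul.koszul A rs, -(rs.length : ℤ), 0,
    Groth.Agent.Lib.Helper43.KoszulPerf.koszul_vanishesOutside rs, fun j => ?_,
    ⟨e ≪≫ (DerivedCategory.singleFunctor _ 0).mapIso (e1.trans e2).toModuleIso⟩⟩
  obtain ⟨h1, h2⟩ := Groth.Agent.Lib.Helper43.KoszulPerf.koszul_termwiseFiniteFree rs j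
  exact ⟨h1, inferInstance⟩

end Groth.Agent.Lib.Helper2.PerfClosedImm
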