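import Groth.Agent.Lib.Helper2.PerfChart
import Groth.Agent.Lib.Helper2.SmoothTor
import Groth.Agent.S0914
import Groth.Agent.S6946

set_option autoImplicit false
universe u
open CategoryTheory Limits AlgebraicGeometry TopologicalSpace Opposite
attribute [local instance] HasDerivedCategory.standard

namespace Groth.Agent.Lib.Helper2.PerfClosedImm

variable {Z X : Scheme.{u}} (i : Z ⟶ X) {V : X.Opens} (hV : IsAffineOpen V)

/-- the chart isomorphism in the derived category -/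
noncomputable def chartDIso [QuasiCompact i] [QuasiSeparated i]
    [alg : Algebra Γ(X, V) Γ(Z, i ⁻¹ᵁ V)]
    (halg : algebraMap Γ(X, V) Γ(Z, i ⁻¹ᵁ V) = (i.appLE V (i ⁻¹ᵁ V) le_rfl).hom) :
    (DCoh.tildeD Γ(X, V)).obj (Dual.inD Γ(X, V) Γ(Z, i ⁻¹ᵁ V)) ≅
      (DCohBase.resD hV.fromSpec).obj (DCoh.inD X (pushO i)) :=
  haveI hqc : (chartMod i hV).IsQuasicoherent := inferInstance
  let φ := Scheme.Modules.fromTildeΓ (R := Γ(X, V)) (chartMod i hV)
  have hφ : IsIso φ :=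
    Scheme.Modules.isIso_fromTildeΓ_of_isQuasicoherent (R := Γ(X, V)) (chartMod i hV)
  let eφ : (tilde.functor Γ(X, V)).obj (chartΓ i hV) ≅ chartMod i hV := @asIso _ _ _ _ φ hφ
  ((tilde.functor Γ(X, V)).mapDerivedCategorySingleFunctor 0).app _ ≪≫
    (DerivedCategory.singleFunctor _ 0).mapIso
      ((tilde.functor Γ(X, V)).mapIso (chartΓIso i hV halg).symm ≪≫
        eφ) ≪≫
    (DCohSingle.resDInD hV.fromSpec (pushO i)).symm

include hV in
/-- pseudo-coherence of `i_* O_Z` gives pseudo-coherence of `Γ(Z, i⁻¹V)` over `Γ(X, V)` -/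
theorem isPseudoCoherent_chart [QuasiCompact i] [QuasiSeparated i]
    [alg : Algebra Γ(X, V) Γ(Z, i ⁻¹ᵁ V)]
    (halg : algebraMap Γ(X, V) Γ(Z, i ⁻¹ᵁ V) = (i.appLE V (i ⁻¹ᵁ V) le_rfl).hom)
    (m : ℤ) (hpc : DCoh.IsPseudoCoherentD m (DCoh.inD X (pushO i))) :
    DRing.IsPseudoCoherent Γ(X, V) m (Dual.inD Γ(X, V) Γ(Z, i ⁻¹ᵁ V)) := by
  rw [← Groth.Agent.Lib.Helper15.TildePC.isPseudoCoherentD_tildeD_iff]
  rw [DCohPC.isPseudoCoherentD_iff]
  intro y
  refine DCohPC.pcAt_of_iso (chartDIso i hV halg).symm ?_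
  exact Groth.Agent.S0914.pcAt_resD hV.fromSpec _ y ((DCohPC.isPseudoCoherentD_iff _ _).1 hpc _)

/-- ring side: `R → A` standard smooth, `B` an `A`-algebra flat over `R` and pseudo-coherent as an
`A`-module; then `B` is a perfect `A`-module -/
theorem isPerfect_of_smooth_flat_pc {R A B : Type u} [CommRing R] [CommRing A] [CommRing B]
    [Algebra R A] [Algebra A B] [Algebra R B] [IsScalarTower R A B]
    (hsm : (algebraMap R A).IsStandardSmooth) [Module.Flat R B]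
    (hpc : ∀ m : ℤ, DRing.IsPseudoCoherent A m (Dual.inD A B)) :
    DRing.IsPerfect A (Dual.inD A B) := by
  obtain ⟨n, hn⟩ := Groth.Agent.Lib.Helper2.SmoothTor.torAmp_cancel_standardSmooth _ hsm
  have h0 : DRing.HasTorAmplitudeIn R (-((0 : ℕ) : ℤ)) 0 (Dual.inD R B) :=
    ((Groth.Agent.S6946.result R B 0).1).1 (((Groth.Agent.S6946.result R B 0).2).2 inferInstance)
  have h1 := hn B (fun a m => by rw [algebraMap_smul]) 0 h0
  obtain ⟨E, hE1, hE2, hE3⟩ := Groth.Agent.Lib.Helper43.PerfAmp.exists_perfect_amplitude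
    (Dual.inD A B) _ 0 (hpc _) h1
  exact ⟨E, _, _, hE1, hE2, hE3⟩

end Groth.Agent.Lib.Helper2.PerfClosedImm
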