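import Groth.Agent.Lib.Helper2.TildeExact
import Groth.Agent.Lib.Helper2.KerSec
import Groth.Agent.Lib.Helper2.DCohPerf
import Groth.Agent.Lib.Helper2.DCohSingle
import Groth.Agent.Lib.Helper15.TildePerf
import Groth.Prelude.Def_MoreMor
import Groth.Agent.Lib.Helper43.PCHomLocal
import Groth.Agent.Lib.Helper43.TorDim
import Groth.Agent.Lib.Helper43.PerfAmp
import Groth.Agent.S2066

set_option autoImplicit false
universe u
open CategoryTheory Limits AlgebraicGeometry TopologicalSpace Opposite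
attribute [local instance] HasDerivedCategory.standard

namespace Groth.Agent.Lib.Helper2.PerfClosedImm

/-- ring side: a finite perfect ring map makes the target a perfect module -/
theorem isPerfect_of_isPerfectHom_of_finite (A B : Type u) [CommRing A] [CommRing B] [Algebra A B]
    [Module.Finite A B] (h : MoreMor.IsPerfectHom A B) :
    DRing.IsPerfect A (Dual.inD A B) := by
  obtain ⟨hpc, n, hn⟩ := h
  have hpc' : DRing.IsPseudoCoherent' A (Dual.inD A B) :=
    (Groth.Agent.Lib.Helper43.PCHomLocal.pcHom_iff_of_finite (A := A) (B := B)).1 hpc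
  have hpcall := (Groth.Agent.S2066.result (Dual.inD A B)).1.2 hpc'
  have htor : DRing.HasTorAmplitudeIn A (-(n : ℤ)) 0 (Dual.inD A B) := by
    refine Groth.Agent.Lib.Helper43.TorDim.hasTorAmplitudeIn_single_of_isZero_T (ModuleCat.of A B) n ?_
    intro N p hp
    haveI := hn N p hp
    exact ModuleCat.isZero_of_subsingleton _
  obtain ⟨E, h1, h2, h3⟩ := Groth.Agent.Lib.Helper43.PerfAmp.exists_perfect_amplitude
    (Dual.inD A B) (-(n : ℤ)) 0 (hpcall _) htor
  exact ⟨E, _, _, h1, h2, h3⟩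

variable {Z X : Scheme.{u}} (i : Z ⟶ X) {V : X.Opens} (hV : IsAffineOpen V)

/-- `i_* O_Z` -/
noncomputable abbrev pushO : X.Modules :=
  (Scheme.Modules.pushforward i).obj (SheafOfModules.unit Z.ringCatSheaf)

/-- its restriction to the affine chart -/
noncomputable abbrev chartMod : (Spec Γ(X, V)).Modules :=
  (Scheme.Modules.restrictFunctor hV.fromSpec).obj (pushO i)

/-- global sections of the chart restriction, as a `Γ(X, V)`-module -/
noncomputable abbrev chartΓ : ModuleCat.{u} Γ(X, V) :=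
  (modulesSpecToSheaf.obj (chartMod i hV)).presheaf.obj (op ⊤)

theorem smul_chartΓ (r : Γ(X, V)) (m : chartΓ i hV) :
    (r • m : chartΓ i hV) =
      ((i.app (hV.fromSpec ''ᵁ ⊤)).hom (((hV.fromSpec.appIso ⊤).inv).hom
        (((Scheme.ΓSpecIso Γ(X, V)).inv).hom r)) * (show Γ(Z, i ⁻¹ᵁ (hV.fromSpec ''ᵁ ⊤)) from m) :
        Γ(Z, i ⁻¹ᵁ (hV.fromSpec ''ᵁ ⊤))) := rfl

include hV in
theorem fromSpec_image_top : hV.fromSpec ''ᵁ ⊤ = V := by
  rw [Scheme.Hom.image_top_eq_opensRange, hV.opensRange_fromSpec]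

theorem key_fromSpec :
    (Scheme.ΓSpecIso Γ(X, V)).inv ≫ (hV.fromSpec.appIso ⊤).inv ≫
      X.presheaf.map (eqToHom (fromSpec_image_top hV).symm).op = 𝟙 _ := by
  have h1 := hV.fromSpec_app_self
  have h2 := hV.fromSpec.app_invApp' V (by rw [hV.opensRange_fromSpec])
  have h3 := hV.fromSpec.appIso_inv_naturality (eqToHom hV.fromSpec_preimage_self).op
  rw [h1, Category.assoc, h3] at h2
  have h4 : hV.fromSpec ''ᵁ (hV.fromSpec ⁻¹ᵁ V) = V := by
    rw [hV.fromSpec_preimage_self, fromSpec_image_top hV]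
  have h5 := congr($h2 ≫ X.presheaf.map (eqToHom h4.symm).op)
  simp only [Category.assoc, ← Functor.map_comp] at h5
  rw [show (X.presheaf.map _ : Γ(X, V) ⟶ Γ(X, V)) = 𝟙 _ from ?_] at h5
  · rw [← h5]
    congr 3
  · rw [← X.presheaf.map_id]
    congr 1

theorem key_push :
    (Scheme.ΓSpecIso Γ(X, V)).inv ≫ (hV.fromSpec.appIso ⊤).inv ≫ i.app (hV.fromSpec ''ᵁ ⊤) ≫
      Z.presheaf.map (eqToHom (congrArg (fun W => i ⁻¹ᵁ W) (fromSpec_image_top hV).symm)).op =
      i.appLE V (i ⁻¹ᵁ V) le_rfl := by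
  have h1 := i.naturality (eqToHom (fromSpec_image_top hV).symm).op
  have h2 := key_fromSpec hV
  rw [← Scheme.Hom.app_eq_appLE]
  have h3 : i.app (hV.fromSpec ''ᵁ ⊤) ≫
      Z.presheaf.map (eqToHom (congrArg (fun W => i ⁻¹ᵁ W) (fromSpec_image_top hV).symm)).op =
      X.presheaf.map (eqToHom (fromSpec_image_top hV).symm).op ≫ i.app V := h1.symm
  rw [h3, ← Category.assoc, ← Category.assoc, Category.assoc _ _ (X.presheaf.map _), h2,
    Category.id_comp]

variable [alg : Algebra Γ(X, V) Γ(Z, i ⁻¹ᵁ V)]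
  (halg : algebraMap Γ(X, V) Γ(Z, i ⁻¹ᵁ V) = (i.appLE V (i ⁻¹ᵁ V) le_rfl).hom)

/-- the linear identification of the chart sections with `Γ(Z, i⁻¹V)` -/
noncomputable def chartΓLin : chartΓ i hV →ₗ[Γ(X, V)] Γ(Z, i ⁻¹ᵁ V) where
  toFun m := (Z.presheaf.map
    (eqToHom (congrArg (fun W => i ⁻¹ᵁ W) (fromSpec_image_top hV).symm)).op).hom m
  map_add' a b := map_add _ _ _
  map_smul' r m := by
    rw [smul_chartΓ, map_mul, RingHom.id_apply, Algebra.smul_def, halg, ← key_push i hV]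
    rfl

include halg in
theorem chartΓLin_bijective : Function.Bijective (chartΓLin i hV halg) := by
  have h : IsIso (Z.presheaf.map
    (eqToHom (congrArg (fun W => i ⁻¹ᵁ W) (fromSpec_image_top hV).symm)).op) := inferInstance
  exact (ConcreteCategory.isIso_iff_bijective _).1 h

/-- the iso in `ModuleCat` -/
noncomputable def chartΓIso : chartΓ i hV ≅ ModuleCat.of Γ(X, V) Γ(Z, i ⁻¹ᵁ V) :=
  (LinearEquiv.ofBijective (chartΓLin i hV halg) (chartΓLin_bijective i hV halg)).toModuleIso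

instance isQuasicoherent_unit : (SheafOfModules.unit Z.ringCatSheaf).IsQuasicoherent := by
  have h : (SheafOfModules.free (R := Z.ringCatSheaf) PUnit.{u+1}).IsQuasicoherent := inferInstance
  exact ObjectProperty.prop_of_iso (SheafOfModules.isQuasicoherent Z.ringCatSheaf)
    (coproductUniqueIso (fun _ : PUnit.{u+1} => SheafOfModules.unit Z.ringCatSheaf)) h

instance [QuasiCompact i] [QuasiSeparated i] : (pushO i).IsQuasicoherent :=
  Groth.Agent.Lib.Helper2.KerSec.isQuasicoherent_pushforward_of_qcqs i _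

instance [QuasiCompact i] [QuasiSeparated i] : (chartMod i hV).IsQuasicoherent := inferInstance

omit alg in
theorem perfAt_pushO [IsClosedImmersion i] (hi : MoreMor.IsPerfectMor i)
    (y : Spec Γ(X, V)) :
    DCohPerf.PerfAt (DCoh.inD X (pushO i)) (hV.fromSpec y) := by
  letI alg : Algebra Γ(X, V) Γ(Z, i ⁻¹ᵁ V) := (i.appLE V (i ⁻¹ᵁ V) le_rfl).hom.toAlgebra
  have halg : algebraMap Γ(X, V) Γ(Z, i ⁻¹ᵁ V) = (i.appLE V (i ⁻¹ᵁ V) le_rfl).hom := rfl
  have hperf : MoreMor.IsPerfectHom Γ(X, V) Γ(Z, i ⁻¹ᵁ V) := hi _ _ (hV.preimage i) hV le_rfl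
  have hsurj : Function.Surjective (algebraMap Γ(X, V) Γ(Z, i ⁻¹ᵁ V)) := by
    rw [halg, ← Scheme.Hom.app_eq_appLE]
    exact i.app_surjective V hV
  haveI : Module.Finite Γ(X, V) Γ(Z, i ⁻¹ᵁ V) :=
    Module.Finite.of_surjective (Algebra.linearMap _ _) hsurj
  have hP := isPerfect_of_isPerfectHom_of_finite Γ(X, V) Γ(Z, i ⁻¹ᵁ V) hperf
  have hT := Groth.Agent.Lib.Helper15.TildePerf.isPerfect_tildeD Γ(X, V) _ hP
  apply DCohPerf.perfAt_of_resD
  haveI hqc : (chartMod i hV).IsQuasicoherent := inferInstance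
  let φ := Scheme.Modules.fromTildeΓ (R := Γ(X, V)) (chartMod i hV)
  have hφ : IsIso φ :=
    Scheme.Modules.isIso_fromTildeΓ_of_isQuasicoherent (R := Γ(X, V)) (chartMod i hV)
  let eφ : (tilde.functor Γ(X, V)).obj (chartΓ i hV) ≅ chartMod i hV := @asIso _ _ _ _ φ hφ
  refine DCohPerf.perfAt_of_iso ?_ ((DCohPerf.isPerfect_iff _).1 hT y)
  exact ((tilde.functor Γ(X, V)).mapDerivedCategorySingleFunctor 0).app _ ≪≫
    (DerivedCategory.singleFunctor _ 0).mapIso
      ((tilde.functor Γ(X, V)).mapIso (chartΓIso i hV halg).symm ≪≫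
        eφ) ≪≫
    (DCohSingle.resDInD hV.fromSpec (pushO i)).symm

omit alg in
theorem isPerfect_pushO [IsClosedImmersion i] (hi : MoreMor.IsPerfectMor i) :
    DCoh.IsPerfect (DCoh.inD X (pushO i)) := by
  rw [DCohPerf.isPerfect_iff]
  intro x
  obtain ⟨_, ⟨W, hW : IsAffineOpen W, rfl⟩, hxW, -⟩ :=
    (X.isBasis_affineOpens).exists_subset_of_mem_open (Set.mem_univ x) isOpen_univ
  have hx : x ∈ Set.range hW.fromSpec := by rw [hW.range_fromSpec]; exact hxW
  obtain ⟨y, rfl⟩ := hx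
  exact perfAt_pushO i hW hi y

end Groth.Agent.Lib.Helper2.PerfClosedImm
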