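import Groth.Agent.Lib.Helper2.QCohLim

/-!
# Finite products of quasi-coherent modules are quasi-coherent (helper2)
-/

set_option autoImplicit false
universe u

open AlgebraicGeometry CategoryTheory Limits Opposite TopologicalSpace

namespace Groth.Agent.Lib.Helper2.QCohProd

open Scheme.Modules Groth.Agent.Lib.Lead.QCohAff Groth.Agent.Lib.Lead Groth.Agent.Lib.Helper2.KerSec

attribute [local instance] Abelian.hasFiniteBiproducts

variable {X : Scheme.{u}} {J : Type} [Fintype J] (F : J → X.Modules)

theorem biproduct_total_apply (U : X.Opens) (s : Γ(⨁ F, U)) :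
    ∑ j, (biproduct.ι F j).app U ((biproduct.π F j).app U s) = s := by
  classical
  have key : ∀ (φ : J → (⨁ F ⟶ ⨁ F)) (t : Finset J),
      (∑ j ∈ t, φ j : ⨁ F ⟶ ⨁ F).app U s = ∑ j ∈ t, (φ j).app U s := by
    intro φ t
    induction t using Finset.induction_on with
    | empty =>
      rw [Finset.sum_empty, Finset.sum_empty, Hom.zero_app]
      rfl
    | insert a t ha ih =>
      rw [Finset.sum_insert ha, Finset.sum_insert ha, Hom.add_app, ← ih]
      rfl
  have h := key (fun j => biproduct.π F j ≫ biproduct.ι F j) Finset.univ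
  have ht : (∑ j, biproduct.π F j ≫ biproduct.ι F j) = 𝟙 (⨁ F) := biproduct.total
  simp only [ht] at h
  exact h.symm

theorem locOn_biproduct [∀ j, (F j).IsQuasicoherent] (U : X.Opens) (hU : IsAffineOpen U) :
    LocOn (⨁ F) U := by
  classical
  have hF := fun j => LocOn.of_isQuasicoherent (F j) hU
  constructor
  · intro f s hs
    have h1 : ∀ j, (F j).presheaf.map (homOfLE (X.basicOpen_le f)).op
        ((biproduct.π F j).app U s) = 0 := by
      intro j
      rw [← naturality_apply, hs, map_zero]
    choose n hn using fun j => (hF j).1 f _ (h1 j)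
    refine ⟨∑ j, n j, ?_⟩
    have e : ∀ j, f ^ (∑ j, n j) • (biproduct.π F j).app U s = 0 := by
      intro j
      have : ∑ j, n j = (∑ j, n j - n j) + n j :=
        (Nat.sub_add_cancel (Finset.single_le_sum (fun _ _ => Nat.zero_le _) (Finset.mem_univ j))).symm
      rw [this, pow_add, mul_smul, hn j, smul_zero]
    rw [← biproduct_total_apply F U s, Finset.smul_sum]
    refine Finset.sum_eq_zero fun j _ => ?_
    rw [← Hom.app_smul, e j, map_zero]
  · intro f t
    choose n a ha using fun j => (hF j).2 f ((biproduct.π F j).app _ t)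
    refine ⟨∑ j, n j, ∑ j, (biproduct.ι F j).app U (f ^ (∑ j, n j - n j) • a j), ?_⟩
    rw [map_sum, ← biproduct_total_apply F _ t, Finset.smul_sum]
    refine Finset.sum_congr rfl fun j _ => ?_
    have : ∑ j, n j = (∑ j, n j - n j) + n j :=
      (Nat.sub_add_cancel (Finset.single_le_sum (fun _ _ => Nat.zero_le _) (Finset.mem_univ j))).symm
    rw [← naturality_apply, Scheme.Modules.map_smul, ha j, ← mul_smul, map_pow, ← pow_add, ← this,
      Hom.app_smul]

theorem isQuasicoherent_biproduct [∀ j, (F j).IsQuasicoherent] : (⨁ F).IsQuasicoherent :=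
  (QCohCrit.isQuasicoherent_iff_locOn _).2 (fun U hU => locOn_biproduct F U hU)

theorem isQuasicoherent_piObj_fin [∀ j, (F j).IsQuasicoherent] : (∏ᶜ F).IsQuasicoherent :=
  haveI := isQuasicoherent_biproduct F
  isQuasicoherent_of_iso (biproduct.isoProduct F)

theorem isQuasicoherent_piObj {K : Type*} [Finite K] (G : K → X.Modules)
    [∀ k, (G k).IsQuasicoherent] : (∏ᶜ G).IsQuasicoherent := by
  obtain ⟨n, ⟨e⟩⟩ := Finite.exists_equiv_fin K
  haveI : ∀ j, ((G ∘ e.symm) j).IsQuasicoherent := fun j => inferInstanceAs (G (e.symm j)).IsQuasicoherent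
  haveI := isQuasicoherent_piObj_fin (G ∘ e.symm)
  exact isQuasicoherent_of_iso (Pi.reindex e.symm G)

end Groth.Agent.Lib.Helper2.QCohProd
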