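import Groth.Agent.Lib.Helper2.RankSections

/-!
# Semilocal freeness spread out (helper2)
-/

set_option autoImplicit false
set_option linter.style.haveILetI false
universe u

open AlgebraicGeometry CategoryTheory Opposite TopologicalSpace Limits TensorProduct Module

namespace Groth.Agent.Lib.Helper2.Semilocal

/-- the submonoid of elements avoiding finitely many primes -/
def avoid {A : Type u} [CommRing A] (s : Finset (Ideal A)) (hs : ∀ p ∈ s, p.IsPrime) :
    Submonoid A where
  carrier := {a | ∀ p ∈ s, a ∉ p}
  one_mem' := fun p hp h => (hs p hp).ne_top ((Ideal.eq_top_iff_one _).2 h)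
  mul_mem' := fun {a b} ha hb p hp h => by
    rcases (hs p hp).mem_or_mem h with h | h
    · exact ha p hp h
    · exact hb p hp h

theorem mem_avoid {A : Type u} [CommRing A] (s : Finset (Ideal A)) (hs : ∀ p ∈ s, p.IsPrime)
    (a : A) : a ∈ avoid s hs ↔ ∀ p ∈ s, a ∉ p := Iff.rfl

/-- the localisation at the complement of a finite union of primes is semilocal -/
theorem finite_maximalSpectrum_avoid {A : Type u} [CommRing A] (s : Finset (Ideal A))
    (hs : ∀ p ∈ s, p.IsPrime) : Finite (MaximalSpectrum (Localization (avoid s hs))) := by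
  set S := avoid s hs
  set L := Localization S
  have key : ∀ P : MaximalSpectrum L, ∃ p ∈ s, Ideal.map (algebraMap A L) p = P.1 := by
    intro P
    have hP : P.1.IsPrime := P.2.isPrime
    have hdisj : Disjoint (S : Set A) (P.1.comap (algebraMap A L) : Set A) :=
      ((IsLocalization.isPrime_iff_isPrime_disjoint S L P.1).1 hP).2
    have hsub : ((P.1.comap (algebraMap A L) : Ideal A) : Set A) ⊆
        ⋃ i ∈ (↑s : Set (Ideal A)), (id i : Ideal A) := by
      intro a ha
      have : a ∉ S := fun h => Set.disjoint_left.1 hdisj h ha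
      rw [mem_avoid] at this
      push_neg at this
      obtain ⟨p, hp, hap⟩ := this
      exact Set.mem_biUnion (show p ∈ (↑s : Set (Ideal A)) from hp) hap
    obtain ⟨p, hp, hle⟩ := (Ideal.subset_union_prime (f := id) ⊤ ⊤
      (fun i hi _ _ => hs i hi)).1 hsub
    refine ⟨p, hp, ?_⟩
    have h1 : P.1 ≤ Ideal.map (algebraMap A L) p := by
      rw [← IsLocalization.map_comap S L P.1]
      exact Ideal.map_mono hle
    have h2 : Ideal.map (algebraMap A L) p ≠ ⊤ := by
      rw [IsLocalization.map_algebraMap_ne_top_iff_disjoint S L, Set.disjoint_left]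
      intro a ha hap
      exact ha p hp hap
    exact (P.2.eq_of_le h2 h1).symm
  choose φ hφ1 hφ2 using key
  let ψ : MaximalSpectrum L → s := fun P => ⟨φ P, hφ1 P⟩
  have hψ : Function.Injective ψ := by
    intro P Q hPQ
    have h : φ P = φ Q := congrArg Subtype.val hPQ
    apply MaximalSpectrum.ext
    rw [← hφ2 P, ← hφ2 Q, h]
  exact Finite.of_injective ψ hψ

/-- **Semilocal freeness, spread out**: a finitely presented flat module of constant rank `r`
over `B` becomes free of rank `r` over `B_b` for some `b` in any submonoid `S'` with semilocal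
localisation. -/
theorem exists_basis_away_of_semilocal {B M : Type u} [CommRing B] [AddCommGroup M] [Module B M]
    [Module.FinitePresentation B M] [Module.Flat B M] (r : ℕ)
    (hr : ∀ q : PrimeSpectrum B, rankAtStalk M q = r) (S' : Submonoid B)
    [Finite (MaximalSpectrum (Localization S'))] :
    ∃ b ∈ S', Nonempty (Basis (Fin r) (Localization.Away b) (LocalizedModule.Away b M)) := by
  have rk : ∀ P : MaximalSpectrum (Localization S'),
      finrank ((Localization S') ⧸ P.1)
        (((Localization S') ⧸ P.1) ⊗[Localization S'] (LocalizedModule S' M)) = r := by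
    intro P
    rw [RankSections.finrank_quot_tensor, Module.rankAtStalk_isBaseChange
      (LocalizedModule.isBaseChange S' M), hr]
  obtain ⟨bM⟩ := Module.nonempty_basis_of_flat_of_finrank_eq (Localization S')
    (LocalizedModule S' M) r rk
  have bN : Basis (Fin r) (Localization S') (LocalizedModule S' (Fin r →₀ B)) :=
    (Finsupp.basisSingleOne (R := B) (ι := Fin r)).ofIsLocalizedModule (Localization S') S'
      (LocalizedModule.mkLinearMap S' (Fin r →₀ B))
  obtain ⟨b, hb, l', -⟩ := Module.FinitePresentation.exists_lift_equiv_of_isLocalizedModule S'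
    (M' := LocalizedModule S' M) (N' := LocalizedModule S' (Fin r →₀ B))
    (LocalizedModule.mkLinearMap S' M) (LocalizedModule.mkLinearMap S' (Fin r →₀ B))
    ((bM.equiv bN (Equiv.refl _)).restrictScalars B)
  refine ⟨b, hb, ?_⟩
  have bN' : Basis (Fin r) (Localization.Away b) (LocalizedModule.Away b (Fin r →₀ B)) :=
    (Finsupp.basisSingleOne (R := B) (ι := Fin r)).ofIsLocalizedModule _
      (Submonoid.powers b)
      (LocalizedModule.mkLinearMap (Submonoid.powers b) (Fin r →₀ B))
  exact ⟨bN'.map l'.symm⟩

end Groth.Agent.Lib.Helper2.Semilocal
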