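import Groth.Agent.Lib.Helper2.SmoothTor

/-!
# Tor dimension over a localization of a standard smooth algebra, with explicit shift (helper2)
-/

set_option autoImplicit false
universe u

open CategoryTheory CategoryTheory.Limits DerivedCategory DRing TensorProduct
attribute [local instance] HasDerivedCategory.standard

namespace Groth.Agent.Lib.Helper2.SmoothTor

open Groth.Agent.Lib.Helper84 Groth.Agent.Lib.Helper43 Groth.Agent.Lib.Helper43.SmoothCancel
  Groth.Agent.Lib.Helper84.FlatAmp

/-- cancellation along an algebra étale over a polynomial ring in `n` variables -/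
theorem torAmp_cancel_of_etale {A B : Type u} [CommRing A] [CommRing B]
    (f : A →+* B) (n : ℕ) (e : MvPolynomial (Fin n) A →+* B)
    (he : e.comp MvPolynomial.C = f) (het : e.Etale)
    (M : Type u) [AddCommGroup M] [Module A M] [Module B M]
    (hsm : ∀ (a : A) (m : M), a • m = f a • m) (d : ℕ)
    (h : HasTorAmplitudeIn A (-(d : ℤ)) 0 (Dual.inD A M)) :
    HasTorAmplitudeIn B (-((d + n : ℕ) : ℤ)) 0 (Dual.inD B M) := by
  letI algPB : Algebra (MvPolynomial (Fin n) A) B := e.toAlgebra
  letI modPM : Module (MvPolynomial (Fin n) A) M := Module.compHom M e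
  haveI : IsScalarTower (MvPolynomial (Fin n) A) B M := ⟨fun p b m => by
    change (e p * b) • m = e p • (b • m)
    rw [mul_smul]⟩
  haveI : IsScalarTower A (MvPolynomial (Fin n) A) M := ⟨fun a p m => by
    change e (a • p) • m = a • (e p • m)
    rw [hsm, ← mul_smul, Algebra.smul_def, map_mul]
    congr 2
    change e (MvPolynomial.C a) = f a
    rw [← he]
    rfl⟩
  haveI hE : Algebra.Etale (MvPolynomial (Fin n) A) B := het
  haveI : Module.Flat (MvPolynomial (Fin n) A) B := inferInstance
  have h2 := PolyTor.torAmp_mvPolynomial A n M (-(d : ℤ)) h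
  have h3 : HasTorAmplitudeIn (MvPolynomial (Fin n) A) (-((d + n : ℕ) : ℤ)) 0
      (Dual.inD (MvPolynomial (Fin n) A) M) := by
    convert h2 using 1
    push_cast
    ring
  exact (Groth.Agent.S6946.result B M (d + n)).1.1
    (hasTorDimLE_of_unramified_flat (MvPolynomial (Fin n) A) B M (d + n) h3)

/-- the local statement, for an algebra étale over a polynomial ring in `n` variables -/
theorem torAmp_local_of_etale {A B : Type u} [CommRing A] [CommRing B]
    (f : A →+* B) (n : ℕ) (e : MvPolynomial (Fin n) A →+* B)
    (he : e.comp MvPolynomial.C = f) (het : e.Etale)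
    {R T : Type u} [CommRing R] [CommRing T] (α : A →+* R) (β : B →+* T) (ψ : R →+* T)
    (hsq : ψ.comp α = β.comp f) (hα : α.Flat) (S : Submonoid B)
    (hβ : @IsLocalization B _ S T _ β.toAlgebra) (N : ModuleCat.{u} T) (d : ℕ)
    (h : HasTorAmplitudeIn R (-(d : ℤ)) 0 ((DerivedCategory.singleFunctor (ModuleCat.{u} R) 0).obj
      ((ModuleCat.restrictScalars ψ).obj N))) :
    HasTorAmplitudeIn T (-((d + n : ℕ) : ℤ)) 0
      ((DerivedCategory.singleFunctor (ModuleCat.{u} T) 0).obj N) := by
  letI algAR : Algebra A R := α.toAlgebra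
  letI algBT : Algebra B T := β.toAlgebra
  haveI : IsLocalization S T := hβ
  haveI : Module.Flat A R := hα
  letI modA : Module A N := Module.compHom N (β.comp f)
  letI modB : Module B N := Module.compHom N β
  letI modR : Module R N := Module.compHom N ψ
  haveI : IsScalarTower A R N := ⟨fun a r m => by
    change ψ (a • r) • m = (β.comp f) a • (ψ r • m)
    rw [Algebra.smul_def, map_mul, mul_smul]
    have h0 : ψ (algebraMap A R a) = (β.comp f) a := by
      change (ψ.comp α) a = _
      rw [hsq]
    rw [h0]⟩
  haveI : IsScalarTower B T N := ⟨fun b t m => by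
    change (b • t) • m = β b • (t • m)
    rw [Algebra.smul_def, mul_smul]
    rfl⟩
  have h1 : HasTorAmplitudeIn R (-(d : ℤ)) 0 (Dual.inD R N) := h
  have h2 : HasTorAmplitudeIn A (-(d : ℤ)) 0 (Dual.inD A N) :=
    PolyTor.torAmp_restrict_flat A R N (-(d : ℤ)) h1
  have h3 := torAmp_cancel_of_etale f n e he het N (fun a m => rfl) d h2
  haveI : Module.Flat B T := IsLocalization.flat T S
  haveI : Algebra.FormallyUnramified B T := Algebra.FormallyUnramified.of_isLocalization S
  haveI : Algebra.EssFiniteType B T := Algebra.EssFiniteType.of_isLocalization T S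
  have h4 := (Groth.Agent.S6946.result T N (d + n)).1.1
    (hasTorDimLE_of_unramified_flat B T N (d + n) h3)
  exact h4

/-- the local statement for a standard smooth map of relative dimension `n` -/
theorem torAmp_local_of_relDim {A B : Type u} [CommRing A] [CommRing B]
    (f : A →+* B) (n : ℕ) (hf : f.IsStandardSmoothOfRelativeDimension n)
    {R T : Type u} [CommRing R] [CommRing T] (α : A →+* R) (β : B →+* T) (ψ : R →+* T)
    (hsq : ψ.comp α = β.comp f) (hα : α.Flat) (S : Submonoid B)
    (hβ : @IsLocalization B _ S T _ β.toAlgebra) (N : ModuleCat.{u} T) (d : ℕ)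
    (h : HasTorAmplitudeIn R (-(d : ℤ)) 0 ((DerivedCategory.singleFunctor (ModuleCat.{u} R) 0).obj
      ((ModuleCat.restrictScalars ψ).obj N))) :
    HasTorAmplitudeIn T (-((d + n : ℕ) : ℤ)) 0
      ((DerivedCategory.singleFunctor (ModuleCat.{u} T) 0).obj N) := by
  obtain ⟨e, he, het⟩ := hf.exists_etale_mvPolynomial
  exact torAmp_local_of_etale f n e he het α β ψ hsq hα S hβ N d h

end Groth.Agent.Lib.Helper2.SmoothTor
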