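import Groth.Agent.Lib.Helper2.SmoothTor2
import Groth.Agent.Lib.Helper12.StalkTor

/-!
# Tor amplitude relative to the source of a smooth morphism (helper2)
-/

set_option autoImplicit false
universe u
open CategoryTheory AlgebraicGeometry
attribute [local instance] HasDerivedCategory.standard

namespace Groth.Agent.Lib.Helper2.SmoothTorSch

open Groth.Agent.Lib.Helper2.SmoothTor Groth.Agent.Lib.Helper12.StalkTor
  Groth.Agent.Lib.Helper84.FlatAmp DRing

/-- the complex of stalks of a module placed in degree `0` is the stalk placed in degree `0` -/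
noncomputable def stalkSingleIso {X B : Scheme.{u}} (φ : X ⟶ B) (x : X) (F : X.Modules) :
    DRing.toD ((DerSch.stalkCxOver φ x).obj
      ((HomologicalComplex.single X.Modules (ComplexShape.up ℤ) 0).obj F)) ≅
      (DerivedCategory.singleFunctor (ModuleCat.{u} (B.presheaf.stalk (φ.base x))) 0).obj
        ((DerSch.stalkOver φ x).obj F) :=
  DerivedCategory.Q.mapIso ((HomologicalComplex.singleMapHomologicalComplex
    (DerSch.stalkOver φ x) (ComplexShape.up ℤ) 0).app F) ≪≫
    ((DerivedCategory.singleFunctorIsoCompQ _ 0).app _).symm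

theorem germ_square {B S : Scheme.{u}} (h : B ⟶ S) (W : S.Opens) (V : B.Opens)
    (e : V ≤ h ⁻¹ᵁ W) (y : B) (hyV : y ∈ V) :
    (h.stalkMap y).hom.comp (S.presheaf.germ W (h.base y) (e hyV)).hom =
      (B.presheaf.germ V y hyV).hom.comp (h.appLE W V e).hom := by
  rw [← CommRingCat.hom_comp, ← CommRingCat.hom_comp, Scheme.Hom.germ_stalkMap,
    Scheme.Hom.appLE, Category.assoc, B.presheaf.germ_res]

/-- if `h` is standard smooth of relative dimension `n` on a chart around `φ x`, a module of tor
amplitude `[a, b]` at `x` relative to `φ ≫ h` has tor amplitude `[-(max(-a, 0) + n), 0]` at `x`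
relative to `φ` -/
theorem hasTorAmplitudeAt_of_chart {X B S : Scheme.{u}} (h : B ⟶ S) (φ : X ⟶ B) (F : X.Modules)
    (x : X) (W : S.Opens) (hW : IsAffineOpen W) (V : B.Opens) (hV : IsAffineOpen V)
    (hyV : φ.base x ∈ V) (e : V ≤ h ⁻¹ᵁ W) (n : ℕ)
    (hst : (h.appLE W V e).hom.IsStandardSmoothOfRelativeDimension n) (a b : ℤ)
    (hab : DerSch.HasTorAmplitudeAt (φ ≫ h) a b
      ((HomologicalComplex.single X.Modules (ComplexShape.up ℤ) 0).obj F) x) :
    DerSch.HasTorAmplitudeAt φ (-((((-a).toNat + n : ℕ)) : ℤ)) 0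
      ((HomologicalComplex.single X.Modules (ComplexShape.up ℤ) 0).obj F) x := by
  have h1 := torAmp_of_iso hab (stalkSingleIso (φ ≫ h) x F)
  have h2 := torAmp_of_iso h1 ((DerivedCategory.singleFunctor _ 0).mapIso
    ((stalkOverCompIso φ h x).app F).symm)
  have hd := torAmp_mono (torAmp_single_normalize _ a b h2)
    (show (-(((-a).toNat : ℕ) : ℤ)) ≤ a by omega) le_rfl
  have hloc := hV.isLocalization_stalk ⟨φ.base x, hyV⟩
  have hlocW := hW.isLocalization_stalk ⟨h.base (φ.base x), e hyV⟩
  have hflat : (S.presheaf.germ W (h.base (φ.base x)) (e hyV)).hom.Flat := by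
    letI := TopCat.Presheaf.algebra_section_stalk S.presheaf
      (⟨h.base (φ.base x), e hyV⟩ : W)
    haveI := hlocW
    exact IsLocalization.flat _ (hW.primeIdealOf ⟨h.base (φ.base x), e hyV⟩).asIdeal.primeCompl
  have h3 := torAmp_local_of_relDim _ n hst
    (S.presheaf.germ W (h.base (φ.base x)) (e hyV)).hom
    (B.presheaf.germ V (φ.base x) hyV).hom (h.stalkMap (φ.base x)).hom
    (germ_square h W V e (φ.base x) hyV) hflat _ hloc ((DerSch.stalkOver φ x).obj F)
    (-a).toNat hd
  exact torAmp_of_iso h3 (stalkSingleIso φ x F).symm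

end Groth.Agent.Lib.Helper2.SmoothTorSch
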