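import Groth.Agent.Lib.Helper2.SmoothTorSch

/-!
# Tor amplitude relative to the source of a smooth morphism: standard smooth charts (helper2)
-/

set_option autoImplicit false
universe u
open CategoryTheory AlgebraicGeometry
attribute [local instance] HasDerivedCategory.standard

namespace Groth.Agent.Lib.Helper2.SmoothTorSch

open Groth.Agent.Lib.Helper2.SmoothTor Groth.Agent.Lib.Helper12.StalkTor
  Groth.Agent.Lib.Helper84.FlatAmp DRing

/-- for a standard smooth chart `(W, V)` of `h`, there is a shift `n` valid at all points over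
`V` -/
theorem exists_shift_of_chart {B S : Scheme.{u}} (h : B ⟶ S)
    (W : S.Opens) (hW : IsAffineOpen W) (V : B.Opens) (hV : IsAffineOpen V)
    (e : V ≤ h ⁻¹ᵁ W) (hst : (h.appLE W V e).hom.IsStandardSmooth) :
    ∃ n : ℕ, ∀ {X : Scheme.{u}} (φ : X ⟶ B) (F : X.Modules) (x : X), φ.base x ∈ V →
      ∀ (a b : ℤ), DerSch.HasTorAmplitudeAt (φ ≫ h) a b
        ((HomologicalComplex.single X.Modules (ComplexShape.up ℤ) 0).obj F) x →
      DerSch.HasTorAmplitudeAt φ (-((((-a).toNat + n : ℕ)) : ℤ)) 0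
        ((HomologicalComplex.single X.Modules (ComplexShape.up ℤ) 0).obj F) x := by
  obtain ⟨n, e', he', het⟩ := hst.exists_etale_mvPolynomial
  refine ⟨n, fun {X} φ F x hyV a b hab => ?_⟩
  have h1 := torAmp_of_iso hab (stalkSingleIso (φ ≫ h) x F)
  have h2 := torAmp_of_iso h1 ((DerivedCategory.singleFunctor _ 0).mapIso
    ((stalkOverCompIso φ h x).app F).symm)
  have hd := torAmp_mono (torAmp_single_normalize _ a b h2)
    (show (-(((-a).toNat : ℕ) : ℤ)) ≤ a by omega) le_rfl
  have hloc := hV.isLocalization_stalk ⟨φ.base x, hyV⟩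
  have hlocW := hW.isLocalization_stalk ⟨h.base (φ.base x), e hyV⟩
  have hflat : (S.presheaf.germ W (h.base (φ.base x)) (e hyV)).hom.Flat := by
    letI := TopCat.Presheaf.algebra_section_stalk S.presheaf
      (⟨h.base (φ.base x), e hyV⟩ : W)
    haveI := hlocW
    exact IsLocalization.flat _ (hW.primeIdealOf ⟨h.base (φ.base x), e hyV⟩).asIdeal.primeCompl
  have h3 := torAmp_local_of_etale _ n e' he' het
    (S.presheaf.germ W (h.base (φ.base x)) (e hyV)).hom
    (B.presheaf.germ V (φ.base x) hyV).hom (h.stalkMap (φ.base x)).hom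
    (germ_square h W V e (φ.base x) hyV) hflat _ hloc ((DerSch.stalkOver φ x).obj F)
    (-a).toNat hd
  exact torAmp_of_iso h3 (stalkSingleIso φ x F).symm

/-- uniform version on a quasi-compact source -/
theorem exists_uniform_shift {X B S : Scheme.{u}} [CompactSpace X] (h : B ⟶ S) [Smooth h]
    (φ : X ⟶ B) (F : X.Modules) :
    ∃ N : ℕ, ∀ (x : X) (a b : ℤ), DerSch.HasTorAmplitudeAt (φ ≫ h) a b
        ((HomologicalComplex.single X.Modules (ComplexShape.up ℤ) 0).obj F) x →
      DerSch.HasTorAmplitudeAt φ (-((((-a).toNat + N : ℕ)) : ℤ)) 0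
        ((HomologicalComplex.single X.Modules (ComplexShape.up ℤ) 0).obj F) x := by
  have key : ∀ w : B, ∃ (V : B.Opens) (n : ℕ), w ∈ V ∧ ∀ (x : X), φ.base x ∈ V →
      ∀ (a b : ℤ), DerSch.HasTorAmplitudeAt (φ ≫ h) a b
        ((HomologicalComplex.single X.Modules (ComplexShape.up ℤ) 0).obj F) x →
      DerSch.HasTorAmplitudeAt φ (-((((-a).toNat + n : ℕ)) : ℤ)) 0
        ((HomologicalComplex.single X.Modules (ComplexShape.up ℤ) 0).obj F) x := by
    intro w
    obtain ⟨W, hW, V, hV, hwV, e, hst⟩ := Smooth.exists_isStandardSmooth h w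
    obtain ⟨n, hn⟩ := exists_shift_of_chart h W hW V hV e hst
    exact ⟨V, n, hwV, fun x hx a b hab => hn φ F x hx a b hab⟩
  choose V n hwV hV using key
  obtain ⟨s, hs⟩ := isCompact_univ.elim_finite_subcover
    (fun w : B => ((φ ⁻¹ᵁ V w : X.Opens) : Set X))
    (fun w => (φ ⁻¹ᵁ V w).isOpen) (fun x _ => Set.mem_iUnion.2 ⟨φ.base x, hwV (φ.base x)⟩)
  obtain ⟨N, hN⟩ := (s.image n).exists_le
  refine ⟨N, fun x a b hab => ?_⟩
  obtain ⟨w, hw⟩ := Set.mem_iUnion.1 (hs (Set.mem_univ x))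
  obtain ⟨hws, hxV⟩ := Set.mem_iUnion.1 hw
  have h1 := hV w x hxV a b hab
  have h2 := hN (n w) (Finset.mem_image_of_mem n hws)
  exact torAmp_mono h1 (by push_cast; omega) le_rfl

end Groth.Agent.Lib.Helper2.SmoothTorSch
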