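import Groth.Agent.Lib.Helper2.QCAlgMod

set_option autoImplicit false
universe u

open AlgebraicGeometry CategoryTheory Opposite TopologicalSpace Limits

namespace Groth.Agent.Lib.Helper2.QCAlgMod

open Scheme.Modules

variable {X : Scheme.{u}}

/-- the restriction of a global function to an open -/
noncomputable abbrev resTop (c : Γ(X, ⊤)) (U : X.Opens) : Γ(X, U) :=
  (X.presheaf.map (homOfLE (le_top : U ≤ ⊤)).op).hom c

theorem resTop_res (c : Γ(X, ⊤)) {U V : X.Opens} (i : V ⟶ U) :
    (X.presheaf.map i.op).hom (resTop c U) = resTop c V := by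
  unfold resTop
  rw [← CommRingCat.comp_apply, ← Functor.map_comp]
  rfl

/-- multiplication by a global function, as an endomorphism of a module -/
noncomputable def smulEnd (c : Γ(X, ⊤)) (M : X.Modules) : M ⟶ M :=
  ⟨PresheafOfModules.homMk
    { app := fun U => AddCommGrpCat.ofHom
        (DistribSMul.toAddMonoidHom Γ(M, U.unop) (resTop c U.unop))
      naturality := fun U V i => by
        obtain ⟨U⟩ := U
        obtain ⟨V⟩ := V
        ext s
        change resTop c V • M.presheaf.map i (show Γ(M, U) from s) =
          M.presheaf.map i (resTop c U • (show Γ(M, U) from s))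
        have := Scheme.Modules.map_smul M i.unop (resTop c U) (show Γ(M, U) from s)
        rw [resTop_res] at this
        exact this.symm }
    (fun U r s => by
      obtain ⟨U⟩ := U
      change resTop c U • ((show Γ(X, U) from r) • (show Γ(M, U) from s)) =
        (show Γ(X, U) from r) • (resTop c U • (show Γ(M, U) from s))
      exact smul_comm _ _ _)⟩

@[simp] theorem smulEnd_app (c : Γ(X, ⊤)) (M : X.Modules) (U : X.Opens) (s : Γ(M, U)) :
    (smulEnd c M).app U s = resTop c U • s := rfl

end Groth.Agent.Lib.Helper2.QCAlgMod
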