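import Groth.Agent.Lib.Lead.Inv3
import Groth.Prelude.Def_SecTwist

/-!
# Morphisms out of the tensor product of `O_X`-modules from natural bilinear maps (helper2)
-/

set_option autoImplicit false
universe u

open AlgebraicGeometry CategoryTheory Opposite TopologicalSpace MonoidalCategory

namespace Groth.Agent.Lib.Helper2.TensorDesc

open Groth.Agent.Lib.Lead.QCohAff Groth.Agent.Lib.Lead.Inv

variable {X : Scheme.{u}} (M N F : X.Modules)

open TensorProduct in
/-- The presheaf-level map `M(U) ⊗ N(U) → F(U)` induced by natural bilinear maps. -/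
noncomputable def preDesc
    (b : ∀ U : X.Opens, Γ(M, U) →ₗ[Γ(X, U)] Γ(N, U) →ₗ[Γ(X, U)] Γ(F, U))
    (hb : ∀ (U V : X.Opens) (h : V ≤ U) (m : Γ(M, U)) (n : Γ(N, U)),
      F.presheaf.map (homOfLE h).op (b U m n) =
        b V (M.presheaf.map (homOfLE h).op m) (N.presheaf.map (homOfLE h).op n)) :
    (CohB1.tensorPre M N : X.PresheafOfModules) ⟶
      (PresheafOfModules.restrictScalars (𝟙 X.ringCatSheaf.obj)).obj F.val :=
  PresheafOfModules.homMk
    { app := fun U => AddCommGrpCat.ofHom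
        (show (Γ(M, U.unop) ⊗[Γ(X, U.unop)] Γ(N, U.unop)) →+ Γ(F, U.unop) from
          (TensorProduct.lift (b U.unop)).toAddMonoidHom)
      naturality := fun U V i => by
        ext z
        have hle : V.unop ≤ U.unop := i.unop.le
        have hi : i = (homOfLE hle).op := Subsingleton.elim _ _
        subst hi
        induction z using TensorProduct.induction_on with
        | zero => exact (AddMonoidHom.map_zero _).trans (AddMonoidHom.map_zero _).symm
        | tmul m n =>
          exact (hb U.unop V.unop hle m n).symm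
        | add x y hx hy =>
          exact (AddMonoidHom.map_add _ x y).trans
            ((congrArg₂ (· + ·) hx hy).trans (AddMonoidHom.map_add _ _ _).symm) }
    (fun U r z => (TensorProduct.lift (b U.unop)).map_smul r z)

open TensorProduct in
theorem preDesc_app
    (b : ∀ U : X.Opens, Γ(M, U) →ₗ[Γ(X, U)] Γ(N, U) →ₗ[Γ(X, U)] Γ(F, U))
    (hb : ∀ (U V : X.Opens) (h : V ≤ U) (m : Γ(M, U)) (n : Γ(N, U)),
      F.presheaf.map (homOfLE h).op (b U m n) =
        b V (M.presheaf.map (homOfLE h).op m) (N.presheaf.map (homOfLE h).op n))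
    (U : X.Opens) (m : Γ(M, U)) (n : Γ(N, U)) :
    ((preDesc M N F b hb).app (op U)).hom
      (show (CohB1.tensorPre M N).obj (op U) from
        (show Γ(M, U) ⊗[Γ(X, U)] Γ(N, U) from m ⊗ₜ[Γ(X, U)] n)) = b U m n := rfl

/-- The morphism `M ⊗ N ⟶ F` induced by natural bilinear maps. -/
noncomputable def desc
    (b : ∀ U : X.Opens, Γ(M, U) →ₗ[Γ(X, U)] Γ(N, U) →ₗ[Γ(X, U)] Γ(F, U))
    (hb : ∀ (U V : X.Opens) (h : V ≤ U) (m : Γ(M, U)) (n : Γ(N, U)),
      F.presheaf.map (homOfLE h).op (b U m n) =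
        b V (M.presheaf.map (homOfLE h).op m) (N.presheaf.map (homOfLE h).op n)) :
    CohB1.tensorMod M N ⟶ F :=
  ((PresheafOfModules.sheafificationAdjunction (𝟙 X.ringCatSheaf.obj)).homEquiv
    (CohB1.tensorPre M N : X.PresheafOfModules) F).symm (preDesc M N F b hb)

theorem desc_tmul
    (b : ∀ U : X.Opens, Γ(M, U) →ₗ[Γ(X, U)] Γ(N, U) →ₗ[Γ(X, U)] Γ(F, U))
    (hb : ∀ (U V : X.Opens) (h : V ≤ U) (m : Γ(M, U)) (n : Γ(N, U)),
      F.presheaf.map (homOfLE h).op (b U m n) =
        b V (M.presheaf.map (homOfLE h).op m) (N.presheaf.map (homOfLE h).op n))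
    (U : X.Opens) (m : Γ(M, U)) (n : Γ(N, U)) :
    (desc M N F b hb).app U (tmul M N m n) = b U m n := by
  have h1 := (PresheafOfModules.sheafificationAdjunction (𝟙 X.ringCatSheaf.obj)).homEquiv_unit
    (X := (CohB1.tensorPre M N : X.PresheafOfModules)) (Y := F) (f := desc M N F b hb)
  rw [desc, Equiv.apply_symm_apply] at h1
  have h2 := congrArg (fun ψ => (PresheafOfModules.Hom.app ψ (op U)).hom
    (show (CohB1.tensorPre M N).obj (op U) from
      (show TensorProduct Γ(X, U) Γ(M, U) Γ(N, U) from m ⊗ₜ[Γ(X, U)] n))) h1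
  rw [← preDesc_app M N F b hb U m n]
  exact h2.symm

theorem desc_secTwist_tmul
    (b : ∀ U : X.Opens, Γ(M, U) →ₗ[Γ(X, U)] Γ(N, U) →ₗ[Γ(X, U)] Γ(F, U))
    (hb : ∀ (U V : X.Opens) (h : V ≤ U) (m : Γ(M, U)) (n : Γ(N, U)),
      F.presheaf.map (homOfLE h).op (b U m n) =
        b V (M.presheaf.map (homOfLE h).op m) (N.presheaf.map (homOfLE h).op n))
    (U : X.Opens) (m : Γ(M, U)) (n : Γ(N, U)) :
    ((desc M N F b hb).val.app (op U)).hom (SecTwist.tmul M N U m n) = b U m n :=
  desc_tmul M N F b hb U m n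

end Groth.Agent.Lib.Helper2.TensorDesc
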