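import Groth.Agent.Lib.Helper43.ResTensor
import Groth.Agent.Lib.Helper15.LDerived
import Groth.Agent.Lib.Helper84.KProj
import Groth.Agent.Lib.Helper15.KProjRes

/-!
# Tor amplitude of `P ⊗_B C` over `A` (ring level)

For `φ : A → B`, `ψ : B → C`, a K-flat complex `P` of `B`-modules whose restriction to `A` has tor
amplitude in `[c, d]`, and `C` of tor amplitude `[a, b]` over `B`, the complex `P ⊗_B C`
(as a complex of `A`-modules) has tor amplitude in `[a + c, b + d]`.
-/

set_option autoImplicit false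
universe u

open CategoryTheory CategoryTheory.Limits MonoidalCategory DerivedCategory DRing

attribute [local instance] HasDerivedCategory.standard

namespace Groth.Agent.Lib.Helper2.TorAmpBC

open Groth.Agent.Lib.Helper25.TensorCx Groth.Agent.Lib.Helper25.KFlat
  Groth.Agent.Lib.Helper25.SingleTensor Groth.Agent.Lib.Helper84.FlatAmp
  Groth.Agent.Lib.Helper84 Groth.Agent.Lib.Helper15 Groth.Agent.Lib.Helper43.ResTensor

variable {A B : Type u} [CommRing A] [CommRing B] (φ : A →+* B)

/-- (body of S6953) a flat complex in `[a, b]` tensored with a complex whose restriction has tor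
amplitude in `[c, d]` -/
theorem torAmp_res_tensor (E L : DRing.Cx B) (a b c d : ℤ) (hE : VanishesOutside E a b)
    (hEf : TermwiseFlat E)
    (hL : HasTorAmplitudeIn A c d (toD ((DRing.restrictCx φ).obj L))) :
    HasTorAmplitudeIn A (a + c) (b + d) (toD ((DRing.restrictCx φ).obj (E ⊗ L : DRing.Cx B))) := by
  rw [torAmp_res_iff]
  intro N F hF f hf i hi
  have hY := (torAmp_res_iff φ L c d).1 hL N F hF f hf
  have h1 := exactAt_tensor_of_bounded_flat E (L ⊗ extCx φ F : DRing.Cx B) a b c d hE hEf hY i hi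
  exact exactAt_of_iso (MonoidalCategory.associator E L (extCx φ F)).symm i h1

/-- the same with the flat complex replaced by any complex isomorphic to it in `D(B)`, the second
factor being K-flat -/
theorem torAmp_res_tensor_of_iso (M P : DRing.Cx B) (hP : IsKFlat P) (a b c d : ℤ)
    (hM : HasTorAmplitudeIn B a b (toD M))
    (hL : HasTorAmplitudeIn A c d (toD ((DRing.restrictCx φ).obj P))) :
    HasTorAmplitudeIn A (a + c) (b + d) (toD ((DRing.restrictCx φ).obj (M ⊗ P : DRing.Cx B))) := by
  obtain ⟨E, hE, hEf, ⟨e⟩⟩ := hM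
  obtain ⟨Pr, π, hPr, hπ, -, -, -⟩ := KProjRes.exists_kprojective_resolution M
  obtain ⟨g, hg⟩ := KProj.exists_Q_map_eq Pr E (Q.map π ≫ e.inv)
  haveI e1 : IsIso (Q.map π) := by rw [isIso_Q_map_iff_quasiIso]; exact hπ
  have hgq : QuasiIso g := by
    rw [← isIso_Q_map_iff_quasiIso, hg]
    infer_instance
  haveI e2 : IsIso (Q.map (g ▷ P)) := by
    rw [isIso_Q_map_iff_quasiIso]
    exact quasiIso_whiskerRight_of_isKFlat P hP g hgq
  haveI e3 : IsIso (Q.map (π ▷ P)) := by
    rw [isIso_Q_map_iff_quasiIso]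
    exact quasiIso_whiskerRight_of_isKFlat P hP π hπ
  have iso : toD (E ⊗ P : DRing.Cx B) ≅ toD (M ⊗ P : DRing.Cx B) :=
    (asIso (Q.map (g ▷ P))).symm ≪≫ asIso (Q.map (π ▷ P))
  have h1 := torAmp_res_tensor φ E P a b c d hE hEf hL
  exact torAmp_of_iso h1 ((PseudoCohRes.restrictDQIso φ _).symm ≪≫
    (DRing.restrictD φ).mapIso iso ≪≫ PseudoCohRes.restrictDQIso φ _)

section Ext

variable {B C : Type u} [CommRing B] [CommRing C] (ψ : B →+* C)

/-- `C` as a `B`-module -/
noncomputable abbrev modOf : ModuleCat.{u} B :=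
  (ModuleCat.restrictScalars ψ).obj (ModuleCat.of C C)

theorem smul_eq (N : ModuleCat.{u} B) (b : B)
    (t : ((tensorLeft (modOf ψ)).obj N : ModuleCat.{u} B)) :
    (b • t : ((tensorLeft (modOf ψ)).obj N : ModuleCat.{u} B)) =
      (b • (t : ((ModuleCat.restrictScalars ψ).obj ((ModuleCat.extendScalars ψ).obj N) :
        ModuleCat.{u} B)) :
      ((ModuleCat.restrictScalars ψ).obj ((ModuleCat.extendScalars ψ).obj N) : ModuleCat.{u} B)) := by
  let f1 : TensorProduct B (modOf ψ) N →+ TensorProduct B (modOf ψ) N :=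
    DistribMulAction.toAddMonoidHom ((tensorLeft (modOf ψ)).obj N : ModuleCat.{u} B) b
  let f2 : TensorProduct B (modOf ψ) N →+ TensorProduct B (modOf ψ) N :=
    DistribMulAction.toAddMonoidHom
      ((ModuleCat.restrictScalars ψ).obj ((ModuleCat.extendScalars ψ).obj N) : ModuleCat.{u} B) b
  have h : ∀ t, f1 t = f2 t := fun t =>
    TensorProduct.induction_on t (by rw [map_zero, map_zero]) (fun c n => rfl)
      (fun x y hx hy => by rw [map_add, map_add, hx, hy])
  exact h t

/-- `C ⊗_B N` as the restriction of the extension of scalars -/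
noncomputable def tensExtEquiv (N : ModuleCat.{u} B) :
    ((tensorLeft (modOf ψ)).obj N : ModuleCat.{u} B) ≃ₗ[B]
      ((ModuleCat.restrictScalars ψ).obj ((ModuleCat.extendScalars ψ).obj N) : ModuleCat.{u} B) where
  toFun := fun t => t
  invFun := fun t => t
  map_add' := fun _ _ => rfl
  map_smul' := fun b t => smul_eq ψ N b t
  left_inv := fun _ => rfl
  right_inv := fun _ => rfl

noncomputable def tensExtNatIso :
    tensorLeft (modOf ψ) ≅ ModuleCat.extendScalars ψ ⋙ ModuleCat.restrictScalars ψ :=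
  NatIso.ofComponents (fun N => (tensExtEquiv ψ N).toModuleIso) (by
    intro N N' g
    ext t
    rfl)

/-- `C ⊗_B P` termwise -/
noncomputable def tensExtCxIso (P : DRing.Cx B) :
    (TensCx.tens (modOf ψ)).obj P ≅ (DRing.restrictCx ψ).obj (extCx ψ P) :=
  (NatIso.mapHomologicalComplex (tensExtNatIso ψ) (ComplexShape.up ℤ)).app P

variable {A : Type u} [CommRing A] (φ : A →+* B)

/-- **Tor amplitude of `P ⊗_B C` over `A`**. -/
theorem torAmp_ext (P : DRing.Cx B) (hP : IsKFlat P) (a b c d : ℤ)
    (hC : HasTorAmplitudeIn B a b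
      ((DerivedCategory.singleFunctor (ModuleCat.{u} B) 0).obj (modOf ψ)))
    (hL : HasTorAmplitudeIn A c d (toD ((DRing.restrictCx φ).obj P))) :
    HasTorAmplitudeIn A (a + c) (b + d)
      (toD ((DRing.restrictCx φ).obj ((DRing.restrictCx ψ).obj (extCx ψ P)))) := by
  have h0 : HasTorAmplitudeIn B a b (toD (sgl (modOf ψ))) :=
    torAmp_of_iso hC ((DerivedCategory.singleFunctorIsoCompQ (ModuleCat.{u} B) 0).app (modOf ψ))
  have h1 := torAmp_res_tensor_of_iso φ (sgl (modOf ψ)) P hP a b c d h0 hL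
  exact torAmp_of_iso h1 (DerivedCategory.Q.mapIso ((DRing.restrictCx φ).mapIso
    ((singleTensorIso (modOf ψ) P).symm ≪≫ tensExtCxIso ψ P)))

end Ext

end Groth.Agent.Lib.Helper2.TorAmpBC
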