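import Groth.Agent.Lib.Helper2.StalkLpull
import Groth.Agent.Lib.Helper12.LTC
import Groth.Agent.Lib.Helper69.TorAmpWEt
import Groth.Agent.S6946

set_option autoImplicit false
universe u
open CategoryTheory CategoryTheory.Limits AlgebraicGeometry

attribute [local instance] HasDerivedCategory.standard

namespace Groth.Agent.Lib.Helper2.TorAmpVanish

open Groth.Agent.Lib.Helper2.Lpull Groth.Agent.Lib.Helper2.StalkLpull
  Groth.Agent.Lib.Helper12 Groth.Agent.Lib.Helper12.Sky
  Groth.Agent.Lib.Helper12.StalkExact Groth.Agent.Lib.Helper12.StalkTor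
  Groth.Agent.Lib.Helper84.FlatAmp Groth.Agent.Lib.Helper15
  Groth.Agent.Lib.Helper43.ResTensor Groth.Agent.Lib.Helper25.SingleTensor

/-- tor amplitude can be tested after restriction of scalars along a bijective ring map -/
theorem torAmp_of_restrict_bijective {A A' : Type u} [CommRing A] [CommRing A'] (ψ : A →+* A')
    (hψ : Function.Bijective ψ) (L : DRing.Cx A') (a b : ℤ)
    (h : DRing.HasTorAmplitudeIn A a b (DRing.toD ((DRing.restrictCx ψ).obj L))) :
    DRing.HasTorAmplitudeIn A' a b (DRing.toD L) := by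
  letI : Algebra A A' := ψ.toAlgebra
  haveI : Algebra.Etale A A' :=
    Algebra.Etale.of_equiv (AlgEquiv.ofBijective (Algebra.ofId A A') hψ)
  rw [← Groth.Agent.Lib.Helper69.TorAmpWEt.torAmp_restrictD_iff_of_weaklyEtale (A := A) (B := A')
    a b (DRing.toD L)]
  exact torAmp_of_iso h (PseudoCohRes.restrictDQIso ψ L).symm

variable {X Y : Scheme.{u}}

/-- a morphism with flat stalk map at `x` has tor dimension `0` at `x` -/
theorem hasTorAmplitudeAt_unit_of_flat (f : X ⟶ Y) (x : X) (hf : (f.stalkMap x).hom.Flat) :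
    DerSch.HasTorAmplitudeAt f 0 0 (DerSch.unitCx X) x := by
  letI := (f.stalkMap x).hom.toAlgebra
  haveI : Module.Flat (Y.presheaf.stalk (f.base x)) (X.presheaf.stalk x) := hf
  have h := (Groth.Agent.S6946.result (Y.presheaf.stalk (f.base x)) (X.presheaf.stalk x) 0).1.1
    ((Groth.Agent.S6946.result (Y.presheaf.stalk (f.base x)) (X.presheaf.stalk x) 0).2.2
      inferInstance)
  have h' : DRing.HasTorAmplitudeIn (Y.presheaf.stalk (f.base x)) 0 0
      (Dual.inD (Y.presheaf.stalk (f.base x)) (X.presheaf.stalk x)) := by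
    simpa using h
  exact torAmp_of_iso h' (unitStalkIso f x).symm


/-- tor amplitude relative to `f` restricts to tor amplitude relative to `f ∣_ V` -/
theorem hasTorAmplitude_morphismRestrict (f : X ⟶ Y) (V : Y.Opens)
    (F : CochainComplex X.Modules ℤ) (m n : ℤ) (hF : DerSch.HasTorAmplitude f m n F) :
    DerSch.HasTorAmplitude (f ∣_ V) m n ((DCoh.restrictCx (f ⁻¹ᵁ V)).obj F) := by
  intro x'
  obtain ⟨P, q, hP, hq⟩ := Groth.Agent.Lib.Helper12.LTC.exists_isKFlat_resolution F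
  have e1 : DCoh.toD X P ≅ DCoh.toD X F := qIso q hq
  have hG : DerSch.HasTorAmplitudeAt f m n P ((f ⁻¹ᵁ V).ι.base x') :=
    hasTorAmplitudeAt_of_iso f e1.symm m n _ (hF _)
  have h2 := hasTorAmplitudeAt_pbCx (f ⁻¹ᵁ V).ι f P hP 0 0 m n x'
    (hasTorAmplitudeAt_unit_of_flat (f ⁻¹ᵁ V).ι x' (AlgebraicGeometry.Flat.stalkMap _ x')) hG
  have e2 : DCoh.toD _ ((pbCx (f ⁻¹ᵁ V).ι).obj P) ≅
      DCoh.toD _ ((DCoh.restrictCx (f ⁻¹ᵁ V)).obj F) :=
    DerivedCategory.Q.mapIso ((resCxIsoPbCx (f ⁻¹ᵁ V).ι).app P).symm ≪≫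
      Groth.Agent.Lib.Helper2.DCohBase.resQIso (f ⁻¹ᵁ V).ι e1
  have h3 := hasTorAmplitudeAt_of_iso ((f ⁻¹ᵁ V).ι ≫ f) e2 _ _ x' h2
  rw [zero_add, zero_add, ← morphismRestrict_ι f V] at h3
  have h4 := torAmp_of_iso h3
    (DerivedCategory.Q.mapIso (stalkCxOverCompIso (f ∣_ V) V.ι x' _).symm)
  exact torAmp_of_restrict_bijective _
    (ConcreteCategory.bijective_of_isIso (V.ι.stalkMap ((f ∣_ V).base x'))) _ m n h4


/-- stalkwise exactness of `f^*P ⊗ F` outside the tor amplitude of `F`, for `P` a K-flat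
resolution of a module -/
theorem exactAt_tensor_pbCx (f : X ⟶ Y) (F : CochainComplex X.Modules ℤ) (m n : ℤ)
    (hF : DerSch.HasTorAmplitude f m n F) (M : Y.Modules)
    (P : CochainComplex Y.Modules ℤ) (hP : DCoh.IsKFlat P)
    (q : P ⟶ (HomologicalComplex.single Y.Modules (ComplexShape.up ℤ) 0).obj M) (hq : QuasiIso q)
    (i : ℤ) (hi : i < m ∨ n < i) :
    ((DCoh.tensorCx.obj ((pbCx f).obj P)).obj F).ExactAt i := by
  rw [exactAt_iff_stalk]
  intro x
  have hPy : DRing.IsKFlat _ ((stalkCx Y (f.base x)).obj P) := stalks_isKFlat P hP (f.base x)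
  haveI := hq
  have hq' : QuasiIso ((stalkCx Y (f.base x)).map q) := quasiIso_stalkCx_map q (f.base x)
  let r : (stalkCx Y (f.base x)).obj P ⟶ sgl ((DerSch.stalkFunctor Y (f.base x)).obj M) :=
    (stalkCx Y (f.base x)).map q ≫
      ((HomologicalComplex.singleMapHomologicalComplex (DerSch.stalkFunctor Y (f.base x))
        (ComplexShape.up ℤ) 0).app M).hom
  have hr : QuasiIso r := quasiIso_comp _ _
  have h1 := (torAmp_res_iff (f.stalkMap x).hom ((stalkCx X x).obj F) m n).1 (hF x) _ _ hPy r hr i hi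
  have e2 := Groth.Agent.Lib.Helper25.TensorCx.braid ((stalkCx X x).obj F)
    (Groth.Agent.Lib.Helper25.KFlat.extCx (f.stalkMap x).hom ((stalkCx Y (f.base x)).obj P))
  have e3 := MonoidalCategory.whiskerRightIso (stalkPbCxIso f P x).symm ((stalkCx X x).obj F)
  have e4 := (stalkTensorCxIso x ((pbCx f).obj P) F).symm
  rw [HomologicalComplex.exactAt_iff_isZero_homology] at h1 ⊢
  exact h1.of_iso ((HomologicalComplex.homologyFunctor _ _ i).mapIso (e2 ≪≫ e3 ≪≫ e4).symm)


/-- the cohomology sheaves of `Lf^*M ⊗^L F` vanish outside the tor amplitude of `F` -/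
theorem isZero_HD_ltensor_lpull (f : X ⟶ Y) [DCoh.HasLpull f] (F : CochainComplex X.Modules ℤ)
    [DCoh.HasLTensorCx F] (m n : ℤ) (hF : DerSch.HasTorAmplitude f m n F) (M : Y.Modules)
    (i : ℤ) (hi : i < m ∨ n < i) :
    IsZero (DCoh.HD ((DCoh.LTensorCx F).obj ((DCoh.Lpull f).obj (DCoh.inD Y M))) i) := by
  obtain ⟨P, q, hP, hq⟩ := Groth.Agent.Lib.Helper12.LTC.exists_isKFlat_resolution
    ((HomologicalComplex.single Y.Modules (ComplexShape.up ℤ) 0).obj M)
  have e1 : DCoh.toD Y P ≅ DCoh.inD Y M :=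
    qIso q hq ≪≫ ((DerivedCategory.singleFunctorIsoCompQ Y.Modules 0).app M).symm
  have hP' : DCoh.IsKFlat ((pbCx f).obj P) := isKFlat_pbCx f P hP
  haveI := Groth.Agent.Lib.Helper12.LTC.isIso_couCx_app_of_isKFlat F _ hP'
  have e2 : DCoh.toD X ((DCoh.tensorCx.obj ((pbCx f).obj P)).obj F) ≅
      (DCoh.LTensorCx F).obj ((DCoh.Lpull f).obj (DCoh.inD Y M)) :=
    (asIso ((Groth.Agent.Lib.Helper12.LTC.couCx F).app ((pbCx f).obj P))).symm ≪≫
    (DCoh.LTensorCx F).mapIso ((lpIso f P hP).symm ≪≫ (DCoh.Lpull f).mapIso e1)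
  have h1 := exactAt_tensor_pbCx f F m n hF M P hP q hq i hi
  rw [HomologicalComplex.exactAt_iff_isZero_homology] at h1
  exact h1.of_iso ((DerivedCategory.homologyFunctor _ i).mapIso e2.symm ≪≫
    (DerivedCategory.homologyFunctorFactors _ i).app _)

end Groth.Agent.Lib.Helper2.TorAmpVanish
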