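import Groth.Prelude.Def_NonAbH2
import Mathlib.AlgebraicGeometry.Morphisms.FlatDescent
import Groth.Agent.Lib.Helper2.FpqcLocal

set_option autoImplicit false
universe u

open CategoryTheory CategoryTheory.Limits AlgebraicGeometry MorphismProperty
open MonoidalCategory CartesianMonoidalCategory MonObj GrpObj

namespace Groth.Agent.Lib.Helper2.Torsor

variable {S : Scheme.{u}} {G X : Over S} [GrpObj G]

/-- The top map `(g, t) ↦ g • s t` of the trivialisation square. -/
noncomputable def trivMap (a : AlgGrp.Action G X) {T : Scheme.{u}} (s : T ⟶ X.left) :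
    pullback G.hom (s ≫ X.hom) ⟶ X.left :=
  pullback.map G.hom (s ≫ X.hom) G.hom X.hom (𝟙 _) s (𝟙 _) (by simp) (by simp) ≫ a.act.left

theorem isPullback_act (a : AlgGrp.Action G X) (ha : NonAbH1.IsPseudoTorsorSch a) :
    IsPullback a.act.left (pullback.snd G.hom X.hom) X.hom X.hom := by
  have hiso : IsIso (lift a.act (snd G X)) := ha
  have hiso' : IsIso (lift a.act (snd G X)).left :=
    inferInstanceAs <| IsIso ((Over.forget S).map (lift a.act (snd G X)))
  refine IsPullback.of_iso_pullback ⟨?_⟩ (asIso (lift a.act (snd G X)).left) ?_ ?_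
  · have := Over.w a.act
    rw [this]
    exact pullback.condition
  · simp only [asIso_hom, Over.lift_left]
    exact pullback.lift_fst _ _ _
  · simp only [asIso_hom, Over.lift_left]
    exact pullback.lift_snd _ _ _

theorem isPullback_trivMap (a : AlgGrp.Action G X) (ha : NonAbH1.IsPseudoTorsorSch a)
    {T : Scheme.{u}} (s : T ⟶ X.left) :
    IsPullback (trivMap a s) (pullback.snd G.hom (s ≫ X.hom)) X.hom (s ≫ X.hom) := by
  refine IsPullback.paste_horiz (h₂₁ := s) (v₁₂ := pullback.snd G.hom X.hom) ?_ (isPullback_act a ha)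
  refine IsPullback.of_right (h₁₂ := pullback.fst G.hom X.hom) (h₂₂ := X.hom) (v₁₃ := G.hom) ?_ ?_
    (IsPullback.of_hasPullback _ _)
  · rw [pullback.lift_fst, Category.comp_id]
    exact IsPullback.of_hasPullback _ _
  · rw [pullback.lift_snd]

/-- A property of morphisms which is Zariski-local on the target, stable under base change and
descends along fpqc morphisms passes from `G ⟶ S` to any fpqc `G`-torsor `X ⟶ S`. -/
theorem prop_of_isTorsorFor (P : MorphismProperty Scheme.{u}) [P.IsStableUnderBaseChange]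
    [IsZariskiLocalAtTarget P] [P.DescendsAlong (@Surjective ⊓ @Flat ⊓ @QuasiCompact)]
    (a : AlgGrp.Action G X) (ha : NonAbH1.IsTorsorFor Scheme.fpqcPrecoverage a)
    (hG : P G.hom) : P X.hom := by
  obtain ⟨hps, R, hR, hsec⟩ := ha
  refine FpqcLocal.of_mem_fpqcPrecoverage P X.hom R hR fun T f hf ↦ ?_
  obtain ⟨s, rfl⟩ := hsec f hf
  have h := (isPullback_trivMap a hps s).flip
  rw [← P.cancel_left_of_respectsIso h.isoPullback.hom, h.isoPullback_hom_fst]
  exact P.pullback_snd _ _ hG

end Groth.Agent.Lib.Helper2.Torsor
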