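import Groth.Prelude.Def_ChGrp
import Groth.Agent.Lib.Helper2.Torsor

set_option autoImplicit false
universe u

open CategoryTheory CategoryTheory.Limits AlgebraicGeometry MorphismProperty
open MonoidalCategory CartesianMonoidalCategory MonObj GrpObj

namespace Groth.Agent.Lib.Helper2.Torsor

variable {S : Scheme.{u}} {G X X' : Over S} [GrpObj G]

set_option backward.isDefEq.respectTransparency false in
theorem trivMap_comp (a : AlgGrp.Action G X) (a' : AlgGrp.Action G X') (f : X ⟶ X')
    (hf : AlgGrp.Action.IsEquivariant a a' f) {T : Scheme.{u}} (s : T ⟶ X.left) :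
    trivMap a s ≫ f.left =
      (pullback.congrHom rfl (by rw [Category.assoc, Over.w f])).hom ≫ trivMap a' (s ≫ f.left) := by
  have h1 : a.act.left ≫ f.left = (G ◁ f).left ≫ a'.act.left := by
    have := congrArg (fun k => k.left) hf
    simpa using this
  unfold trivMap
  rw [Category.assoc, h1, ← Category.assoc, ← Category.assoc]
  congr 1
  apply pullback.hom_ext
  · simp
  · simp

set_option backward.isDefEq.respectTransparency false in
/-- The base change of an equivariant map between pseudo-torsors along the trivialising chart of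
the target induced by a section of the source is an isomorphism. -/
theorem isIso_fst_trivMap (a : AlgGrp.Action G X) (a' : AlgGrp.Action G X') (f : X ⟶ X')
    (hf : AlgGrp.Action.IsEquivariant a a' f) (ha : NonAbH1.IsPseudoTorsorSch a)
    (ha' : NonAbH1.IsPseudoTorsorSch a') {T : Scheme.{u}} (s : T ⟶ X.left) :
    IsIso (pullback.fst (trivMap a' (s ≫ f.left)) f.left) := by
  have hc : (s ≫ f.left) ≫ X'.hom = s ≫ X.hom := by rw [Category.assoc, Over.w f]
  let e := pullback.congrHom (f₁ := G.hom) (g₁ := s ≫ X.hom) rfl hc.symm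
  have sqX := isPullback_trivMap a ha s
  have sqX' := isPullback_trivMap a' ha' (s ≫ f.left)
  have hsq : IsPullback (e.inv ≫ trivMap a s) (𝟙 _) f.left (trivMap a' (s ≫ f.left)) := by
    refine IsPullback.of_bot (v₂₁ := pullback.snd G.hom ((s ≫ f.left) ≫ X'.hom))
      (v₂₂ := X'.hom) (h₃₁ := (s ≫ f.left) ≫ X'.hom) ?_ ?_ sqX'
    · rw [Category.id_comp, Over.w f]
      refine IsPullback.of_iso sqX e (Iso.refl _) (Iso.refl _) (Iso.refl _) ?_ ?_ ?_ ?_
      · simp
      · simp [e]
      · simp
      · simp [hc]
    · have := trivMap_comp a a' f hf s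
      rw [Category.id_comp]
      calc (e.inv ≫ trivMap a s) ≫ f.left = e.inv ≫ (trivMap a s ≫ f.left) := Category.assoc _ _ _
        _ = e.inv ≫ e.hom ≫ trivMap a' (s ≫ f.left) := by rw [this]
        _ = _ := Iso.inv_hom_id_assoc _ _
  have h := hsq.flip.isoPullback_hom_fst
  have : IsIso (hsq.flip.isoPullback.hom ≫ pullback.fst (trivMap a' (s ≫ f.left)) f.left) := by
    rw [h]; infer_instance
  exact IsIso.of_isIso_comp_left hsq.flip.isoPullback.hom _

/-- An equivariant morphism from an fpqc torsor to a pseudo-torsor is an isomorphism. -/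
theorem isIso_of_isEquivariant (a : AlgGrp.Action G X) (a' : AlgGrp.Action G X') (f : X ⟶ X')
    (hf : AlgGrp.Action.IsEquivariant a a' f)
    (ha : NonAbH1.IsTorsorFor Scheme.fpqcPrecoverage a)
    (ha' : NonAbH1.IsPseudoTorsorSch a') : IsIso f := by
  obtain ⟨hps, R, hR, hsec⟩ := ha
  have key : IsIso f.left := by
    refine FpqcLocal.of_mem_fpqcPrecoverage (isomorphisms Scheme.{u}) f.left
      (R.pullbackArrows X'.hom) (Precoverage.pullbackArrows_mem X'.hom hR) ?_
    rintro T q ⟨T0, h, hRh⟩
    obtain ⟨s, hs⟩ := hsec h hRh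
    have hc : h = (s ≫ f.left) ≫ X'.hom := by rw [Category.assoc, Over.w f, hs]
    change isomorphisms Scheme (pullback.fst (pullback.snd h X'.hom) f.left)
    clear hs hRh
    subst hc
    have sqX' := (isPullback_trivMap a' ha' (s ≫ f.left)).flip
    have h2 : pullback.snd ((s ≫ f.left) ≫ X'.hom) X'.hom =
        sqX'.isoPullback.inv ≫ trivMap a' (s ≫ f.left) := by
      rw [Iso.eq_inv_comp, sqX'.isoPullback_hom_snd]
    rw [h2, FpqcLocal.fst_comp_iff (isomorphisms Scheme.{u})]
    exact MorphismProperty.pullback_fst _ _ (isIso_fst_trivMap a a' f hf hps ha' s)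
  have : IsIso ((Over.forget S).map f) := key
  exact isIso_of_reflects_iso f (Over.forget S)

end Groth.Agent.Lib.Helper2.Torsor
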