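import Groth.Prelude.Def_NonAbH2
import Groth.Agent.Lib.Helper2.Torsor
import Mathlib.AlgebraicGeometry.AffineSpace

set_option autoImplicit false
universe u

open CategoryTheory CategoryTheory.Limits AlgebraicGeometry MorphismProperty
open MonoidalCategory CartesianMonoidalCategory MonObj GrpObj

namespace Groth.Agent.Lib.Helper2.Torsor

variable {S : Scheme.{u}} {G X : Over S} [GrpObj G]

/-- The structure morphism of an fpqc-locally trivial `S`-scheme is an effective epimorphism. -/
theorem effectiveEpi_of_isLocallyTrivialFor (hX : NonAbH1.IsLocallyTrivialFor Scheme.fpqcPrecoverage X) :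
    EffectiveEpi X.hom := by
  obtain ⟨R, hR, hsec⟩ := hX
  rw [← Sieve.effectiveEpimorphic_singleton,
    Presieve.EffectiveEpimorphic.iff_forall_isSheafFor_yoneda]
  intro Z
  rw [Presieve.isSheafFor_iff_generate]
  refine (GrothendieckTopology.Subcanonical.isSheaf_of_isRepresentable
    (J := Scheme.fpqcTopology) _).isSheafFor _ ?_
  refine Scheme.fpqcTopology.superset_covering ?_ (Precoverage.generate_mem_toGrothendieck hR)
  rw [Sieve.generate_le_iff]
  intro T f hf
  obtain ⟨s, rfl⟩ := hsec f hf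
  exact ⟨_, s, X.hom, ⟨_, 𝟙 _, X.hom, Presieve.singleton.mk, Category.id_comp _⟩, rfl⟩

/-- The affine line over `ℤ`. -/
noncomputable abbrev A1 : Scheme.{u} := Spec (CommRingCat.of (MvPolynomial PUnit.{u + 1} (ULift.{u} ℤ)))

/-- Global functions are morphisms to the affine line. -/
noncomputable def fnEquiv (T : Scheme.{u}) : (T ⟶ A1.{u}) ≃ Γ(T, ⊤) :=
  (AffineSpace.toSpecMvPolyIntEquiv PUnit.{u + 1}).trans (Equiv.funUnique PUnit.{u + 1} _)

theorem fnEquiv_comp {T T' : Scheme.{u}} (h : T' ⟶ T) (k : T ⟶ A1.{u}) :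
    fnEquiv T' (h ≫ k) = h.appTop.hom (fnEquiv T k) := rfl

theorem invariants_of_isTorsorFor (a : AlgGrp.Action G X)
    (ha : NonAbH1.IsTorsorFor Scheme.fpqcPrecoverage a) :
    Function.Injective X.hom.appTop.hom ∧
      ∀ s : Γ(X.left, ⊤), s ∈ Set.range X.hom.appTop.hom ↔
        a.act.left.appTop.hom s = (CartesianMonoidalCategory.snd G X).left.appTop.hom s := by
  have hee : EffectiveEpi X.hom := effectiveEpi_of_isLocallyTrivialFor ha.2
  have hepi : Epi X.hom := inferInstance
  have hpb := isPullback_act a ha.1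
  refine ⟨fun t₁ t₂ h ↦ ?_, fun s ↦ ⟨?_, fun hs ↦ ?_⟩⟩
  · have h2 : X.hom ≫ (fnEquiv S).symm t₁ = X.hom ≫ (fnEquiv S).symm t₂ := by
      apply (fnEquiv X.left).injective
      rw [fnEquiv_comp, fnEquiv_comp, Equiv.apply_symm_apply, Equiv.apply_symm_apply]
      exact h
    exact (fnEquiv S).symm.injective ((cancel_epi X.hom).mp h2)
  · rintro ⟨t, rfl⟩
    have h1 : a.act.left ≫ X.hom = (CartesianMonoidalCategory.snd G X).left ≫ X.hom := by
      rw [CategoryTheory.Over.w, CategoryTheory.Over.w]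
    have e1 : a.act.left.appTop.hom (X.hom.appTop.hom t) =
        (a.act.left ≫ X.hom).appTop.hom t := by
      rw [Scheme.Hom.comp_appTop]; rfl
    have e2 : (CartesianMonoidalCategory.snd G X).left.appTop.hom (X.hom.appTop.hom t) =
        ((CartesianMonoidalCategory.snd G X).left ≫ X.hom).appTop.hom t := by
      rw [Scheme.Hom.comp_appTop]; rfl
    rw [e1, e2, h1]
  · let e : X.left ⟶ A1.{u} := (fnEquiv X.left).symm s
    have he : a.act.left ≫ e = (CartesianMonoidalCategory.snd G X).left ≫ e := by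
      apply (fnEquiv _).injective
      rw [fnEquiv_comp, fnEquiv_comp, Equiv.apply_symm_apply]
      exact hs
    have hcompat : ∀ {Z : Scheme.{u}} (g₁ g₂ : Z ⟶ X.left), g₁ ≫ X.hom = g₂ ≫ X.hom →
        g₁ ≫ e = g₂ ≫ e := by
      intro Z g₁ g₂ hg
      have h1 : hpb.lift g₁ g₂ hg ≫ a.act.left = g₁ := hpb.lift_fst _ _ _
      have h2 : hpb.lift g₁ g₂ hg ≫ pullback.snd G.hom X.hom = g₂ := hpb.lift_snd _ _ _
      rw [← h1, Category.assoc, he, ← Category.assoc]
      congr 1
    refine ⟨fnEquiv S (EffectiveEpi.desc X.hom e hcompat), ?_⟩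
    rw [← fnEquiv_comp, EffectiveEpi.fac]
    exact Equiv.apply_symm_apply _ _

end Groth.Agent.Lib.Helper2.Torsor
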